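import Mathlib
import Cfsg.Agent.S0016
import Cfsg.Agent.Transfer.CentralTransfer
import Cfsg.Agent.ChevalleyStructure.GraphColumns
import Cfsg.Agent.H79.SimpleGen
import Cfsg.Agent.ChevFast.E6
import Cfsg.Agent.ChevFast.E7
import Cfsg.Agent.ChevFast.E8
import Cfsg.Agent.ChevFast.F4
import Cfsg.Agent.H834.Rank
import Cfsg.Agent.Lib.PermNetFast
import Cfsg.Agent.H956.UnitSim
import Cfsg.Agent.H422.Recur
import Cfsg.Agent.H418.SUEig
import Cfsg.Agent.H183.SemisSU
import Cfsg.Agent.H176.SSDet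
import Cfsg.Agent.H709.CharPow
import Cfsg.Agent.Lib.MatLit
import Cfsg.Agent.H425.OF.Singer
import Cfsg.Agent.H150.SpForm
import Cfsg.Agent.H182.CentOrth
import Cfsg.Agent.H376.Odd8Orth
import Cfsg.Agent.N2.Defs_m3
import Cfsg.Agent.H341.ThreeList_m3
import Cfsg.Agent.S0242
import Cfsg.Agent.S0278
import Cfsg.Agent.Lib.DetFast
import Cfsg.Agent.LieClassical.OrthCore
import Cfsg.Agent.DS.Cl.Main
import Cfsg.Agent.H933.O10.Base_m3
import Cfsg.Agent.SmallSimple.Embed
import Cfsg.Agent.PermutationGroups.OnanScott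
import Cfsg.Agent.H209.EPX.Defs_m3
import Cfsg.Agent.DL.Ex.Fin_m3
import Cfsg.Agent.BpExc.FixRel
import Cfsg.Agent.SB.SporB.Geo
import Cfsg.Agent.FastGrp
import Cfsg.Agent.Prune
set_option linter.all false

section
prune_inst 0x7f00000000000000000000000000000000000000000000000000000000000000000000000000000000000000000000000000000000000000000000000000000000000000000000000000000000000000003fffffffffffffffffffffffffffaeffbdffffffff

section
prune_inst 0xf1a9f99bb8b9dfffff7e7fffd9dffc3991dfffe6dff94bffe06bff3b9f230409c52bad0de090fe0ef6601410b87813fb7eefffe86bd87ffffd1ff41ffbee5ff7ff350851948c341fbc6ff693f0778a7f000000000000000000000000000000000200000000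

-- part: N2/Cy/Unit_mg
section
prune_inst 0xe5604600746000000000000002000024600001920060000030000c46014fb1008440010046801c00180c12001804000000000030404000000e0030000002000008001004a0080204080010801087580c00000000000000000000000000051004000000000
set_option linter.all false
open scoped Cfsg.Agent.FastGrp

-- part: N2/Cy/Unit
section
/-!
# N2 (S3519): unitary elements of a finite commutative ring with involution (helper53)

`uu σ` = number of `u` with `u * σ u = 1`, `sk σ ⊤` = number of skew elements.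
* `uu_le` : `sk σ ⊤ < Q ^ (ν + 1) → uu σ * Q ^ ν ≤ 2 ^ |T| * sk σ ⊤ * (Q + 1) ^ ν`, where `E` is a family of `Q` symmetric elements
  with invertible differences and `T` contains the maximal ideals on whose residue field `σ` is trivial;
* `uu_le_pow` : `sk σ ⊤ ≤ Q ^ ν → uu σ ≤ 2 ^ |T| * (Q + 1) ^ ν`.
-/

set_option autoImplicit false

namespace Cfsg.Agent.N2.Cy

universe u

variable {R : Type u} [CommRing R]

/-- the number of unitary elements -/
noncomputable def uu (σ : R →+* R) : ℕ := Nat.card {u : R // u * σ u = 1}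

/-- the number of unitary elements congruent to `1` modulo `I` -/
noncomputable def uk (σ : R →+* R) (I : Ideal R) : ℕ := Nat.card {u : R // u * σ u = 1 ∧ u - 1 ∈ I}

/-- the number of skew elements of `I` -/
noncomputable def sk (σ : R →+* R) (I : Ideal R) : ℕ := Nat.card {x : R // x ∈ I ∧ σ x = -x}

/-- the induced involution -/
def qs (σ : R →+* R) (I : Ideal R) (h : ∀ x ∈ I, σ x ∈ I) : R ⧸ I →+* R ⧸ I := Ideal.quotientMap I σ fun x hx => h x hx

theorem qs_mk (σ : R →+* R) (I : Ideal R) (h : ∀ x ∈ I, σ x ∈ I) (x : R) :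
    qs σ I h (Ideal.Quotient.mk I x) = Ideal.Quotient.mk I (σ x) := rfl

variable [Finite R] {σ : R →+* R} {I : Ideal R}

theorem fin_quot (I : Ideal R) : Finite (R ⧸ I) := Finite.of_surjective _ Ideal.Quotient.mk_surjective

theorem sk_pos (σ : R →+* R) (I : Ideal R) : 0 < sk σ I :=
  have : Nonempty {x : R // x ∈ I ∧ σ x = -x} := ⟨⟨0, I.zero_mem, by simp⟩⟩
  Nat.card_pos

theorem uu_le_mul (hσ : ∀ x, σ (σ x) = x) (h : ∀ x ∈ I, σ x ∈ I) : uu σ ≤ uk σ I * uu (qs σ I h) := by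
  classical
  have := fin_quot I
  let f : {u : R // u * σ u = 1} → {u : R ⧸ I // u * qs σ I h u = 1} := fun u =>
    ⟨Ideal.Quotient.mk I u.1, by rw [qs_mk, ← map_mul, u.2, map_one]⟩
  let g : {u : R ⧸ I // u * qs σ I h u = 1} → R := fun v => if hv : ∃ u, f u = v then hv.choose.1 else 1
  have hg : ∀ u, g (f u) * σ (g (f u)) = 1 ∧ u.1 - g (f u) ∈ I := fun u => by
    have h1 : ∃ w, f w = f u := ⟨u, rfl⟩
    simp only [g, dif_pos h1]
    exact ⟨h1.choose.2, Ideal.Quotient.eq.1 (congrArg Subtype.val h1.choose_spec).symm⟩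
  rw [uu, uk, uu, ← Nat.card_prod]
  refine Nat.card_le_card_of_injective (fun u => (⟨u.1 * σ (g (f u)), ?_, ?_⟩, f u)) fun u v e => ?_
  · rw [map_mul, hσ]
    linear_combination (g (f u) * σ (g (f u))) * u.2 + (hg u).1
  · have h1 := I.mul_mem_right (σ (g (f u))) (hg u).2
    rwa [sub_mul, (hg u).1] at h1
  · obtain ⟨e1, e2⟩ := Prod.mk.inj e
    have e3 : u.1 * σ (g (f u)) = v.1 * σ (g (f v)) := congrArg Subtype.val e1
    rw [← e2] at e3
    exact Subtype.ext (by linear_combination g (f u) * e3 - (u.1 - v.1) * (hg u).1)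

theorem sk_mul_le (hσ : ∀ x, σ (σ x) = x) {c : R} (hc : c + σ c = 1) (h : ∀ x ∈ I, σ x ∈ I) :
    sk σ I * sk (qs σ I h) ⊤ ≤ sk σ ⊤ := by
  have h1 : ∀ v : {x : R ⧸ I // x ∈ (⊤ : Ideal (R ⧸ I)) ∧ qs σ I h x = -x}, ∃ y : R, σ y = -y ∧ Ideal.Quotient.mk I y = v.1 := by
    rintro ⟨v, -, hv⟩
    obtain ⟨y, rfl⟩ := Ideal.Quotient.mk_surjective v
    have h2 : σ y + y ∈ I := Ideal.Quotient.eq_zero_iff_mem.1 (by rw [map_add, ← qs_mk σ I h, hv, neg_add_cancel])
    refine ⟨c * y - σ (c * y), by rw [map_sub, hσ, neg_sub], Ideal.Quotient.eq.2 ?_⟩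
    have h3 := I.mul_mem_left (-σ c) h2
    rwa [show -σ c * (σ y + y) = c * y - σ (c * y) - y by rw [map_mul]; linear_combination (-y) * hc] at h3
  choose g hg hg' using h1
  rw [sk, sk, sk, ← Nat.card_prod]
  refine Nat.card_le_card_of_injective (fun p => ⟨p.1.1 + g p.2, trivial, by rw [map_add, p.1.2.2, hg, neg_add]⟩) ?_
  rintro ⟨x, v⟩ ⟨x', v'⟩ e
  have e1 : x.1 + g v = x'.1 + g v' := congrArg Subtype.val e
  have e2 := congrArg (Ideal.Quotient.mk I) e1
  rw [map_add, map_add, hg', hg', Ideal.Quotient.eq_zero_iff_mem.2 x.2.1, Ideal.Quotient.eq_zero_iff_mem.2 x'.2.1, zero_add,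
    zero_add] at e2
  obtain rfl : v = v' := Subtype.ext e2
  exact Prod.ext (Subtype.ext (add_right_cancel e1)) rfl

theorem uk_le_nil (h : ∀ x ∈ I, σ x ∈ I) (h0 : ∀ x ∈ I, ∀ y ∈ I, x * y = 0) : uk σ I ≤ sk σ I := by
  refine Nat.card_le_card_of_injective (fun u => ⟨u.1 - 1, u.2.2, ?_⟩) fun u v e =>
    Subtype.ext (sub_left_injective (congrArg Subtype.val e))
  have h1 := h0 _ u.2.2 _ (h _ u.2.2)
  rw [map_sub, map_one] at h1 ⊢
  linear_combination u.2.1 - h1

/-- a minimal stable ideal with an identity element -/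
structure Mi (σ : R →+* R) (I : Ideal R) (e : R) : Prop where
  inv : ∀ x, σ (σ x) = x
  st : ∀ x ∈ I, σ x ∈ I
  mem : e ∈ I
  one : ∀ x ∈ I, x * e = x
  min : ∀ J : Ideal R, J ≠ ⊥ → (∀ x ∈ J, σ x ∈ J) → J ≤ I → I ≤ J

omit [Finite R] in
theorem Mi.fix {e : R} (h : Mi σ I e) : σ e = e := by
  have h1 := h.one _ (h.st e h.mem)
  have h2 := congrArg σ h1
  rw [map_mul, h.inv] at h2
  rw [← h1, mul_comm, h2]

omit [Finite R] in
theorem Mi.unit {e x w : R} (h : Mi σ I e) (hx : x ∈ I) (h0 : x ≠ 0) (hw : σ x = w * x) : ∃ z, z * x = e := by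
  refine Ideal.mem_span_singleton'.1 (h.min (Ideal.span {x}) (by simpa using h0) (fun y hy => ?_)
    ((Ideal.span_singleton_le_iff_mem I).2 hx) h.mem)
  obtain ⟨a, rfl⟩ := Ideal.mem_span_singleton'.1 hy
  exact Ideal.mem_span_singleton'.2 ⟨σ a * w, by rw [map_mul, hw, mul_assoc]⟩

omit [Finite R] in
theorem Mi.uk_le_two {e : R} (h : Mi σ I e) (ht : ∀ x ∈ I, σ x = x) : uk σ I ≤ 2 := by
  have h1 : ∀ u : {u : R // u * σ u = 1 ∧ u - 1 ∈ I}, u.1 ≠ 1 → u.1 = 1 - 2 * e := fun u hu => by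
    obtain ⟨z, hz⟩ := h.unit u.2.2 (sub_ne_zero.2 hu) ((ht _ u.2.2).trans (one_mul _).symm)
    have h2 := ht _ u.2.2
    have h3 := h.one _ u.2.2
    have h4 := u.2.1
    rw [map_sub, map_one, sub_left_inj] at h2
    rw [h2] at h4
    linear_combination z * h4 - h3 - (u.1 + 1) * hz
  have h2 := Nat.card_le_card_of_injective (fun u : {u : R // u * σ u = 1 ∧ u - 1 ∈ I} => u.1 = 1) fun u v e => by
    by_cases hu : u.1 = 1
    · exact Subtype.ext (hu.trans (Eq.mp e hu).symm)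
    · exact Subtype.ext ((h1 u hu).trans (h1 v fun hv => hu (Eq.mpr e hv)).symm)
  simpa only [uk, _root_.ge_iff_le, _root_.Nat.card_eq_fintype_card, _root_.Fintype.card_prop] using h2

theorem Mi.uk_le {e y : R} (h : Mi σ I e) (hy : y ∈ I) (hn : σ y ≠ y) : uk σ I ≤ sk σ I + 1 := by
  have hy0 : y - σ y ≠ 0 := sub_ne_zero.2 hn.symm
  have hy1 : y - σ y ∈ I := I.sub_mem hy (h.st y hy)
  have hy2 : σ (y - σ y) = -(y - σ y) := by rw [map_sub, h.inv, neg_sub]
  obtain ⟨z, hz⟩ := h.unit hy1 hy0 (w := -1) (by rw [hy2, neg_one_mul])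
  have h1 : ∀ u : {u : R // u * σ u = 1 ∧ u - 1 ∈ I}, ∃ x ∈ I, x ≠ 0 ∧ u.1 * σ x = x := fun u => by
    by_contra hx
    push Not at hx
    have h2 : ∀ t ∈ I, t + u.1 * σ t = 0 := fun t ht => by
      by_contra h3
      refine hx _ (I.add_mem ht (I.mul_mem_left _ (h.st t ht))) h3 ?_
      rw [map_add, map_mul, h.inv]
      linear_combination t * u.2.1
    have h3 := h2 e h.mem
    have h4 := h.one _ (h.st y hy)
    rw [h.fix] at h3
    exact hn (by linear_combination -h2 y hy + σ y * h3 - (u.1 + 1) * h4)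
  choose g hg hg0 hg1 using h1
  have hgu : ∀ u, ∃ z, z * g u = e := fun u => h.unit (hg u) (hg0 u) (w := σ u.1) (by
    have h2 := congrArg σ (hg1 u)
    rwa [map_mul, h.inv, eq_comm] at h2)
  have c1 : uk σ I * Nat.card {x : {x : R // x ∈ I ∧ σ x = -x} // x ≠ ⟨0, I.zero_mem, by simp⟩} ≤ Nat.card {x : I // x ≠ 0} := by
    rw [uk, ← Nat.card_prod]
    have hne : ∀ u, ∀ s : {x : {x : R // x ∈ I ∧ σ x = -x} // x ≠ ⟨0, I.zero_mem, by simp⟩}, g u * s.1.1 ≠ 0 := fun u s h0 => by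
      obtain ⟨w, hw⟩ := hgu u
      refine s.2 (Subtype.ext ?_)
      show s.1.1 = 0
      linear_combination w * h0 - h.one _ s.1.2.1 - s.1.1 * hw
    refine Nat.card_le_card_of_injective (fun p => ⟨⟨g p.1 * p.2.1.1, I.mul_mem_right _ (hg _)⟩, fun h0 =>
      hne _ _ (congrArg Subtype.val h0)⟩) ?_
    rintro ⟨u, s⟩ ⟨v, t⟩ e0
    have e1 : g u * s.1.1 = g v * t.1.1 := congrArg (fun x => x.1.1) e0
    have e2 : ∀ u, ∀ s : {x : R // x ∈ I ∧ σ x = -x}, u.1 * σ (g u * s.1) = -(g u * s.1) := fun u s => by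
      rw [map_mul, s.2.2]
      linear_combination (-s.1) * hg1 u
    obtain ⟨w, hw⟩ := h.unit (I.mul_mem_right s.1.1 (hg u)) (hne u s) (w := -σ u.1) (by
      linear_combination σ u.1 * e2 u s.1 - σ (g u * s.1.1) * u.2.1)
    have e3 := congrArg σ hw
    rw [map_mul, h.fix] at e3
    have e4 := e2 v t.1
    rw [← e1] at e4
    have e5 := h.one _ (I.sub_mem u.2.2 v.2.2)
    obtain rfl : u = v := Subtype.ext (by linear_combination σ w * (e2 u s.1 - e4) - (u.1 - v.1) * e3 - e5)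
    obtain ⟨w', hw'⟩ := hgu u
    refine Prod.ext rfl (Subtype.ext (Subtype.ext ?_))
    show s.1.1 = t.1.1
    linear_combination w' * e1 - h.one _ s.1.2.1 + h.one _ t.1.2.1 - (s.1.1 - t.1.1) * hw'
  have c2 : Nat.card I ≤ sk σ I * sk σ I := by
    let φ : I →+ R := (AddMonoidHom.id R - σ.toAddMonoidHom).comp I.toAddSubgroup.subtype
    have hφ : ∀ x : I, φ x = x - σ x := fun _ => rfl
    rw [AddSubgroup.card_eq_card_quotient_mul_card_addSubgroup φ.ker, Nat.card_congr (QuotientAddGroup.quotientKerEquivRange φ).toEquiv]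
    refine Nat.mul_le_mul (Nat.card_le_card_of_injective (fun x => ⟨x.1, ?_⟩) fun _ _ e => Subtype.ext (Subtype.mk.inj e))
      (Nat.card_le_card_of_injective (fun x => ⟨(y - σ y) * x.1.1, I.mul_mem_right _ hy1, ?_⟩) fun a b e => ?_)
    · obtain ⟨_, x, rfl⟩ := x
      exact ⟨I.sub_mem x.2 (h.st _ x.2), show σ (x - σ x) = -(x - σ x) by rw [map_sub, h.inv, neg_sub]⟩
    · have h2 : x.1.1 - σ x.1.1 = 0 := x.2
      rw [map_mul, hy2, ← sub_eq_zero.1 h2, neg_mul]
    · have e1 : (y - σ y) * a.1.1 = (y - σ y) * b.1.1 := congrArg Subtype.val e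
      refine Subtype.ext (Subtype.ext ?_)
      linear_combination z * e1 - h.one _ a.1.2 + h.one _ b.1.2 - (a.1.1 - b.1.1) * hz
  have c3 : ∀ {α : Type u} [Finite α] (a : α), Nat.card {x : α // x ≠ a} + 1 = Nat.card α := fun {α} _ a => by
    classical
    have := Fintype.ofFinite α
    have : Nonempty α := ⟨a⟩
    have h2 := Fintype.card_pos (α := α)
    rw [Nat.card_eq_fintype_card, Nat.card_eq_fintype_card, Fintype.card_subtype_compl, Fintype.card_subtype_eq]
    omega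
  have c4 := c3 (⟨0, I.zero_mem, by simp⟩ : {x : R // x ∈ I ∧ σ x = -x})
  have c5 := c3 (0 : I)
  have c6 : 0 < Nat.card {x : {x : R // x ∈ I ∧ σ x = -x} // x ≠ ⟨0, I.zero_mem, by simp⟩} :=
    have : Nonempty {x : {x : R // x ∈ I ∧ σ x = -x} // x ≠ ⟨0, I.zero_mem, by simp⟩} :=
      ⟨⟨⟨_, hy1, hy2⟩, fun e => hy0 (congrArg Subtype.val e)⟩⟩
    Nat.card_pos
  rw [sk] at c2 ⊢
  rw [← c4] at c2 ⊢
  rw [← c5] at c2
  generalize Nat.card {x : {x : R // x ∈ I ∧ σ x = -x} // x ≠ ⟨0, I.zero_mem, by simp⟩} = s at c1 c2 c6 ⊢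
  exact Nat.le_of_mul_le_mul_right (by linarith only [c1, c2]) c6

theorem le_sk {ι : Type*} {E : ι → R} (hE : ∀ i, σ (E i) = E i) (hu : ∀ i j, i ≠ j → IsUnit (E i - E j)) {y : R} (hy : y ∈ I)
    (h0 : y ≠ 0) (hs : σ y = -y) : Nat.card ι ≤ sk σ I := by
  refine Nat.card_le_card_of_injective (fun i => ⟨E i * y, I.mul_mem_left _ hy, by rw [map_mul, hE, hs, mul_neg]⟩) fun i j e => ?_
  by_contra hij
  have e1 : E i * y = E j * y := congrArg Subtype.val e
  exact h0 ((hu i j hij).mul_right_eq_zero.1 (by rw [sub_mul, e1, sub_self]))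

theorem uu_le_aux {ι : Type*} (n : ℕ) : ∀ (R : Type u) [CommRing R] [Finite R] (σ : R →+* R) (c : R) (E : ι → R)
    (T : Finset (Ideal R)) (ν : ℕ), Nat.card R = n → (∀ x, σ (σ x) = x) → c + σ c = 1 → (∀ i, σ (E i) = E i) →
    (∀ i j, i ≠ j → IsUnit (E i - E j)) → (∀ M : Ideal R, M.IsMaximal → (∀ x, x - σ x ∈ M) → M ∈ T) →
    sk σ ⊤ < Nat.card ι ^ (ν + 1) → uu σ * Nat.card ι ^ ν ≤ 2 ^ T.card * sk σ ⊤ * (Nat.card ι + 1) ^ ν := by
  classical
  induction n using Nat.strong_induction_on with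
  | _ n ih =>
  intro R _ _ σ c E T ν hn hσ hc hE hu hT hν
  generalize hQ : Nat.card ι = Q at ih hν ⊢
  rcases subsingleton_or_nontrivial R with hR | hR
  · have h1 : uu σ ≤ 1 := Finite.card_le_one_iff_subsingleton.2 inferInstance
    exact Nat.mul_le_mul (h1.trans (Nat.mul_pos (by positivity) (sk_pos σ ⊤))) (Nat.pow_le_pow_left (Nat.le_succ Q) ν)
  have : Finite (Ideal R) := Finite.of_injective _ SetLike.coe_injective
  obtain ⟨I, ⟨hI0, hI⟩, hmin⟩ := exists_minimal_of_wellFoundedLT (fun J : Ideal R => J ≠ ⊥ ∧ ∀ x ∈ J, σ x ∈ J)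
    ⟨⊤, top_ne_bot, fun _ _ => trivial⟩
  have := fin_quot I
  have hlt : Nat.card (R ⧸ I) < n := by
    have h1 := AddSubgroup.card_eq_card_quotient_mul_card_addSubgroup I.toAddSubgroup
    have h2 : 1 < Nat.card I.toAddSubgroup := Finite.one_lt_card_iff_nontrivial.2 (Submodule.nontrivial_iff_ne_bot.2 hI0)
    have h3 : 0 < Nat.card (R ⧸ I) := Nat.card_pos
    rw [← hn, h1]
    exact lt_mul_of_one_lt_right h3 h2
  have step : ∀ (T' : Finset (Ideal R)) (ν' : ℕ), (∀ M : Ideal R, M.IsMaximal → (∀ x, x - σ x ∈ M) → I ≤ M → M ∈ T') →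
      sk (qs σ I hI) ⊤ < Q ^ (ν' + 1) → uu (qs σ I hI) * Q ^ ν' ≤ 2 ^ T'.card * sk (qs σ I hI) ⊤ * (Q + 1) ^ ν' := by
    intro T' ν' hT' h1
    refine (ih _ hlt (R ⧸ I) (qs σ I hI) (Ideal.Quotient.mk I c) (fun i => Ideal.Quotient.mk I (E i))
      (T'.image (Ideal.map (Ideal.Quotient.mk I))) ν' rfl (fun x => ?_) (by rw [qs_mk, ← map_add, hc, map_one])
      (fun i => by rw [qs_mk, hE]) (fun i j hij => by rw [← map_sub]; exact (hu i j hij).map _) (fun M hM hM' => ?_) h1).trans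
      (Nat.mul_le_mul_right _ (Nat.mul_le_mul_right _ (Nat.pow_le_pow_right two_pos Finset.card_image_le)))
    · obtain ⟨x, rfl⟩ := Ideal.Quotient.mk_surjective x
      rw [qs_mk, qs_mk, hσ]
    · refine Finset.mem_image.2 ⟨M.comap (Ideal.Quotient.mk I), hT' _
        (Ideal.comap_isMaximal_of_surjective _ Ideal.Quotient.mk_surjective) (fun x => ?_) fun x hx => ?_,
        Ideal.map_comap_of_surjective _ Ideal.Quotient.mk_surjective M⟩
      · rw [Ideal.mem_comap, map_sub, ← qs_mk σ I hI]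
        exact hM' _
      · rw [Ideal.mem_comap, Ideal.Quotient.eq_zero_iff_mem.2 hx]
        exact M.zero_mem
  have k1 := uu_le_mul hσ hI
  have k2 := sk_mul_le hσ hc hI
  have k3 := sk_pos σ I
  have k4 : sk (qs σ I hI) ⊤ ≤ sk σ ⊤ := (Nat.le_mul_of_pos_left _ k3).trans k2
  by_cases h0 : ∀ x ∈ I, ∀ y ∈ I, x * y = 0
  · have h1 := step T ν (fun M h1 h2 _ => hT M h1 h2) (k4.trans_lt hν)
    calc uu σ * Q ^ ν ≤ sk σ I * (uu (qs σ I hI) * Q ^ ν) := by
          rw [← mul_assoc]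
          exact Nat.mul_le_mul_right _ (k1.trans (Nat.mul_le_mul_right _ (uk_le_nil hI h0)))
      _ ≤ sk σ I * (2 ^ T.card * sk (qs σ I hI) ⊤ * (Q + 1) ^ ν) := Nat.mul_le_mul_left _ h1
      _ = 2 ^ T.card * (sk σ I * sk (qs σ I hI) ⊤) * (Q + 1) ^ ν := by ring
      _ ≤ _ := Nat.mul_le_mul_right _ (Nat.mul_le_mul_left _ k2)
  have hII : IsIdempotentElem I := by
    refine le_antisymm Ideal.mul_le_right (hmin ⟨fun h1 => h0 fun x hx y hy => ?_, fun x hx => ?_⟩ Ideal.mul_le_right)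
    · have h2 := Ideal.mul_mem_mul hx hy
      rwa [h1] at h2
    · refine Submodule.mul_induction_on hx (fun a ha b hb => ?_) fun a b ha hb => ?_
      · rw [map_mul]
        exact Ideal.mul_mem_mul (hI a ha) (hI b hb)
      · rw [map_add]
        exact add_mem ha hb
  obtain ⟨e, he, hIe⟩ := (Ideal.isIdempotentElem_iff_of_fg I (IsNoetherian.noetherian I)).1 hII
  have hm : Mi σ I e := ⟨hσ, hI, hIe ▸ Submodule.mem_span_singleton_self e, fun x hx => by
    obtain ⟨a, rfl⟩ := Ideal.mem_span_singleton'.1 (hIe ▸ hx)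
    rw [mul_assoc, he.eq], fun J h1 h2 h3 => hmin ⟨h1, h2⟩ h3⟩
  have he0 : e ≠ 0 := fun h1 => hI0 (by rw [hIe, h1]; simp only [_root_.Submodule.span_zero_singleton])
  by_cases ht : ∀ x ∈ I, σ x = x
  · let J : Ideal R := LinearMap.ker (LinearMap.toSpanSingleton R R e)
    have hJ : ∀ x, x ∈ J ↔ x * e = 0 := fun _ => Iff.rfl
    have hJT : J ∈ T := by
      refine hT J (Ideal.isMaximal_iff.2 ⟨fun h1 => he0 (by simpa [hJ] using h1), fun K x hK hx hxK => ?_⟩) fun x => ?_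
      · obtain ⟨z, hz⟩ := hm.unit (I.mul_mem_left x hm.mem) hx ((ht _ (I.mul_mem_left x hm.mem)).trans (one_mul _).symm)
        have h2 := K.add_mem (hK ((hJ (1 - z * x)).2 (by linear_combination -hz))) (K.mul_mem_left z hxK)
        rwa [sub_add_cancel] at h2
      · have h2 := ht _ (I.mul_mem_left x hm.mem)
        rw [map_mul, hm.fix] at h2
        exact (hJ _).2 (by linear_combination -h2)
    have h1 := step (T.erase J) ν (fun M h1 h2 h3 => Finset.mem_erase.2 ⟨fun h4 => he0 (by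
      have h5 := h3 hm.mem
      rwa [h4, hJ, he.eq] at h5), hT M h1 h2⟩) (k4.trans_lt hν)
    calc uu σ * Q ^ ν ≤ 2 * (uu (qs σ I hI) * Q ^ ν) := by
          rw [← mul_assoc]
          exact Nat.mul_le_mul_right _ (k1.trans (Nat.mul_le_mul_right _ (hm.uk_le_two ht)))
      _ ≤ 2 * (2 ^ (T.erase J).card * sk (qs σ I hI) ⊤ * (Q + 1) ^ ν) := Nat.mul_le_mul_left _ h1
      _ = 2 ^ T.card * sk (qs σ I hI) ⊤ * (Q + 1) ^ ν := by
          rw [← Finset.card_erase_add_one hJT]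
          ring
      _ ≤ _ := Nat.mul_le_mul_right _ (Nat.mul_le_mul_left _ k4)
  · push Not at ht
    obtain ⟨y, hy, hn'⟩ := ht
    have h2 : Q ≤ sk σ I := hQ ▸ le_sk hE hu (I.sub_mem hy (hI y hy)) (sub_ne_zero.2 hn'.symm) (by rw [map_sub, hσ, neg_sub])
    have h3 : Q * sk (qs σ I hI) ⊤ < Q ^ (ν + 1) := ((Nat.mul_le_mul_right _ h2).trans k2).trans_lt hν
    rw [pow_succ'] at h3
    have h4 := Nat.lt_of_mul_lt_mul_left h3
    obtain _ | ν := ν
    · have := sk_pos (qs σ I hI) ⊤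
      rw [pow_zero] at h4
      omega
    have h1 := step T ν (fun M h1 h2 _ => hT M h1 h2) h4
    calc uu σ * Q ^ (ν + 1) ≤ (sk σ I + 1) * Q * (uu (qs σ I hI) * Q ^ ν) := by
          have := k1.trans (Nat.mul_le_mul_right _ (hm.uk_le hy hn'))
          calc uu σ * Q ^ (ν + 1) ≤ (sk σ I + 1) * uu (qs σ I hI) * Q ^ (ν + 1) := Nat.mul_le_mul_right _ this
            _ = _ := by ring
      _ ≤ sk σ I * (Q + 1) * (2 ^ T.card * sk (qs σ I hI) ⊤ * (Q + 1) ^ ν) := Nat.mul_le_mul (by linarith only [h2]) h1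
      _ = 2 ^ T.card * (sk σ I * sk (qs σ I hI) ⊤) * (Q + 1) ^ (ν + 1) := by ring
      _ ≤ _ := Nat.mul_le_mul_right _ (Nat.mul_le_mul_left _ k2)

/-- **the unit lemma** -/
theorem uu_le {ι : Type*} {c : R} {E : ι → R} {T : Finset (Ideal R)} {ν : ℕ} (hσ : ∀ x, σ (σ x) = x) (hc : c + σ c = 1)
    (hE : ∀ i, σ (E i) = E i) (hu : ∀ i j, i ≠ j → IsUnit (E i - E j))
    (hT : ∀ M : Ideal R, M.IsMaximal → (∀ x, x - σ x ∈ M) → M ∈ T) (hν : sk σ ⊤ < Nat.card ι ^ (ν + 1)) :
    uu σ * Nat.card ι ^ ν ≤ 2 ^ T.card * sk σ ⊤ * (Nat.card ι + 1) ^ ν :=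
  uu_le_aux _ R σ c E T ν rfl hσ hc hE hu hT hν

theorem uu_le_pow {ι : Type*} {c : R} {E : ι → R} {T : Finset (Ideal R)} {ν : ℕ} (hσ : ∀ x, σ (σ x) = x) (hc : c + σ c = 1)
    (hE : ∀ i, σ (E i) = E i) (hu : ∀ i j, i ≠ j → IsUnit (E i - E j))
    (hT : ∀ M : Ideal R, M.IsMaximal → (∀ x, x - σ x ∈ M) → M ∈ T) (h2 : 2 ≤ Nat.card ι) (hν : sk σ ⊤ ≤ Nat.card ι ^ ν) :
    uu σ ≤ 2 ^ T.card * (Nat.card ι + 1) ^ ν := by
  have h1 := uu_le hσ hc hE hu hT (hν.trans_lt (Nat.pow_lt_pow_right h2 (Nat.lt_succ_self ν)))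
  refine Nat.le_of_mul_le_mul_right (h1.trans ?_) (Nat.pow_pos (n := ν) (by omega : 0 < Nat.card ι))
  rw [mul_right_comm]
  exact Nat.mul_le_mul_left _ hν

/-- at most half of the dimension is skew -/
theorem sk_sq_le (hσ : ∀ x, σ (σ x) = x) {c δ : R} (hc : c + σ c = 1) (h : ∀ x, σ x = -x → ∃ t, σ t = t ∧ x = t * δ) :
    sk σ ⊤ ^ 2 ≤ Nat.card R := by
  let φ : R →+ R := AddMonoidHom.id R - σ.toAddMonoidHom
  rw [AddSubgroup.card_eq_card_quotient_mul_card_addSubgroup φ.ker,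
    Nat.card_congr (QuotientAddGroup.quotientKerEquivRange φ).toEquiv, pow_two]
  choose g hg hg' using fun x : {x : R // x ∈ (⊤ : Ideal R) ∧ σ x = -x} => h x.1 x.2.2
  refine Nat.mul_le_mul (Nat.card_le_card_of_injective (fun x => ⟨x.1, c * x.1, ?_⟩) fun _ _ e => Subtype.ext (Subtype.mk.inj e))
    (Nat.card_le_card_of_injective (fun x => ⟨g x, sub_eq_zero.2 (hg x).symm⟩) fun x y e =>
      Subtype.ext (by rw [hg', hg' y, show g x = g y from Subtype.mk.inj e]))
  show c * x.1 - σ (c * x.1) = x.1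
  rw [map_mul, x.2.2]
  linear_combination x.1 * hc

/-- there is a skew unit (unitary and linear groups) -/
theorem sk_sq_le_unit (hσ : ∀ x, σ (σ x) = x) {c δ : R} (hc : c + σ c = 1) (hδ : σ δ = -δ) (hu : IsUnit δ) :
    sk σ ⊤ ^ 2 ≤ Nat.card R := by
  obtain ⟨w, hw⟩ := hu.exists_left_inv
  have h1 := congrArg σ hw
  rw [map_mul, hδ, map_one] at h1
  refine sk_sq_le hσ hc (δ := δ) fun x hx => ⟨x * w, ?_, by rw [mul_assoc, hw, mul_one]⟩
  rw [map_mul, hx]
  linear_combination x * w * h1 + x * σ w * hw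

omit [Finite R] in
theorem gen_of {a : R} (hσ : ∀ x, σ (σ x) = x) (ha : a * σ a = 1)
    (h : ∀ P : Subring R, (∀ s, σ s = s → s ∈ P) → a ∈ P → P = ⊤) (x : R) : ∃ s t, σ s = s ∧ σ t = t ∧ x = s + t * a := by
  let P : Subring R :=
    { carrier := {x | ∃ s t, σ s = s ∧ σ t = t ∧ x = s + t * a}
      mul_mem' := by
        rintro _ _ ⟨s, t, hs, ht, rfl⟩ ⟨s', t', hs', ht', rfl⟩
        refine ⟨s * s' - t * t', s * t' + t * s' + t * t' * (a + σ a), by simp only [map_sub, map_mul, hs, ht, hs', ht'],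
          by simp only [map_add, map_mul, hs, ht, hs', ht', hσ, add_comm a], ?_⟩
        linear_combination (-(t * t')) * ha
      one_mem' := ⟨1, 0, map_one σ, map_zero σ, by simp⟩
      add_mem' := by
        rintro _ _ ⟨s, t, hs, ht, rfl⟩ ⟨s', t', hs', ht', rfl⟩
        exact ⟨s + s', t + t', by rw [map_add, hs, hs'], by rw [map_add, ht, ht'], by ring⟩
      zero_mem' := ⟨0, 0, map_zero σ, map_zero σ, by simp⟩
      neg_mem' := by
        rintro _ ⟨s, t, hs, ht, rfl⟩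
        exact ⟨-s, -t, by rw [map_neg, hs], by rw [map_neg, ht], by ring⟩ }
  have h1 : x ∈ P := h P (fun s hs => ⟨s, 0, hs, map_zero σ, by simp⟩) ⟨0, 1, map_zero σ, map_one σ, by simp⟩ ▸ trivial
  exact h1

/-- the ring is generated by the symmetric elements and a unitary element -/
theorem sk_sq_le_gen {a c : R} (hσ : ∀ x, σ (σ x) = x) (hc : c + σ c = 1) (ha : a * σ a = 1)
    (h : ∀ P : Subring R, (∀ s, σ s = s → s ∈ P) → a ∈ P → P = ⊤) : sk σ ⊤ ^ 2 ≤ Nat.card R := by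
  refine sk_sq_le hσ hc (δ := a - σ a) fun x hx => ?_
  obtain ⟨s, t, hs, ht, e⟩ := gen_of hσ ha h (c * x)
  have e' := congrArg σ e
  rw [map_mul, map_add, map_mul, hs, ht, hx] at e'
  exact ⟨t, ht, by linear_combination e - e' - x * hc⟩

omit [Finite R] in
/-- the maximal ideals with trivial involution contain `a - 1` or `a + 1` -/
theorem triv_cases {a : R} (ha : a * σ a = 1) {M : Ideal R} (hM : M.IsMaximal) (h : ∀ x, x - σ x ∈ M) :
    a - 1 ∈ M ∨ a + 1 ∈ M := by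
  refine hM.isPrime.mem_or_mem ?_
  have h1 := M.mul_mem_left a (h a)
  rwa [show a * (a - σ a) = (a - 1) * (a + 1) by linear_combination -ha] at h1

omit [Finite R] in
theorem eq_span {b : R} (h : ∀ x : R, ∃ t, (t = 0 ∨ IsUnit t) ∧ x - t ∈ Ideal.span {b}) {M : Ideal R} (hM : M.IsMaximal)
    (hb : b ∈ M) : M = Ideal.span {b} := by
  have h1 := (Ideal.span_singleton_le_iff_mem M).2 hb
  refine le_antisymm (fun x hx => ?_) h1
  obtain ⟨t, rfl | ht, h2⟩ := h x
  · rwa [sub_zero] at h2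
  · exact absurd (Ideal.eq_top_of_isUnit_mem M (by simpa using M.sub_mem hx (h1 h2)) ht) hM.ne_top

end Cfsg.Agent.N2.Cy
end

-- part: N2/Cl/Cyc/Num
section
/-!
# N2 (S3519), classical socles: the orders of the classical groups as numbers, and bounds (helper58)
-/

set_option autoImplicit false

namespace Cfsg.Agent.N2C.Cyc

open Finset

/-- `|GL_n(q)|` -/
def oGL (n q : ℕ) : ℕ := q ^ (n * (n - 1) / 2) * ∏ i ∈ range n, (q ^ (i + 1) - 1)

/-- `|GU_n(q)|` -/
def oGU (n q : ℕ) : ℕ := q ^ (n * (n - 1) / 2) * ∏ i ∈ range n, (if Even i then q ^ (i + 1) + 1 else q ^ (i + 1) - 1)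

/-- `∏ (q^(2i) - 1)`, `1 ≤ i ≤ m` -/
def PP (m q : ℕ) : ℕ := ∏ i ∈ range m, (q ^ (2 * (i + 1)) - 1)

/-- `|Sp_2k(q)| = |SO_(2k+1)(q)|` -/
def oSp (k q : ℕ) : ℕ := q ^ (k ^ 2) * PP k q

/-- `|O⁺_2m(q)| / 2` -/
def oP (m q : ℕ) : ℕ := q ^ (m * (m - 1)) * (q ^ m - 1) * PP (m - 1) q

/-- `|O⁻_2m(q)| / 2` -/
def oM (m q : ℕ) : ℕ := q ^ (m * (m - 1)) * (q ^ m + 1) * PP (m - 1) q

theorem tri_succ (n : ℕ) : (n + 1) * (n + 1 - 1) / 2 = n * (n - 1) / 2 + n := by
  rw [← Nat.choose_two_right, ← Nat.choose_two_right, Nat.choose_succ_succ' n 1, Nat.choose_one_right, add_comm]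

theorem oGL_succ (n q : ℕ) : oGL (n + 1) q = oGL n q * (q ^ n * (q ^ (n + 1) - 1)) := by
  rw [oGL, oGL, prod_range_succ, tri_succ, pow_add]
  ring

theorem oGU_succ (n q : ℕ) :
    oGU (n + 1) q = oGU n q * (q ^ n * (if Even n then q ^ (n + 1) + 1 else q ^ (n + 1) - 1)) := by
  rw [oGU, oGU, prod_range_succ, tri_succ, pow_add]
  ring

theorem PP_succ (m q : ℕ) : PP (m + 1) q = PP m q * (q ^ (2 * (m + 1)) - 1) := prod_range_succ _ _

theorem prod_eq_oGL (n q : ℕ) : ∏ i : Fin n, (q ^ n - q ^ (i : ℕ)) = oGL n q := by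
  rw [Fin.prod_univ_eq_prod_range (fun i => q ^ n - q ^ i) n]
  induction n with
  | zero => simp only [oGL, _root_.Finset.range_zero, _root_.pow_zero, _root_.Finset.prod_empty, _root_.zero_tsub, _root_.MulZeroClass.mul_zero, _root_.Nat.zero_div, _root_.mul_one]
  | succ n ih =>
    rw [prod_range_succ', oGL_succ, ← ih, pow_zero, ← mul_assoc]
    congr 1
    rw [show q ^ n = ∏ _i ∈ range n, q by rw [prod_const, card_range], ← prod_mul_distrib]
    refine prod_congr rfl fun i _ => ?_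
    rw [prod_const, card_range, pow_succ, pow_succ, Nat.sub_mul]

variable {q : ℕ}

theorem oGL_le {n : ℕ} (hn : 1 ≤ n) : oGL n q ≤ (q - 1) * q ^ (n ^ 2 - 1) := by
  induction n, hn using Nat.le_induction with
  | base => simp only [oGL, _root_.tsub_self, _root_.MulZeroClass.mul_zero, _root_.Nat.zero_div, _root_.pow_zero, _root_.Finset.range_one, _root_.Finset.prod_singleton, _root_.zero_add, _root_.pow_one, _root_.one_mul, _root_.one_pow, _root_.mul_one, _root_.Std.le_refl]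
  | succ n hn ih =>
    have h1 : (n + 1) ^ 2 - 1 = n ^ 2 - 1 + (n + (n + 1)) := by
      have : 1 ≤ n ^ 2 := Nat.one_le_pow _ _ hn
      have : (n + 1) ^ 2 = n ^ 2 + 2 * n + 1 := by ring
      omega
    rw [oGL_succ, h1, pow_add q (n ^ 2 - 1), pow_add q n (n + 1), ← mul_assoc (q - 1)]
    exact Nat.mul_le_mul ih (Nat.mul_le_mul_left _ (Nat.sub_le _ _))

theorem oGL_ge_aux (hq : 2 ≤ q) (n : ℕ) :
    (((q : ℤ) ^ 2 - q - 1) * q ^ n + 1) * q ^ (n ^ 2 + 2 * n) ≤ q ^ (n + 1) * oGL (n + 1) q := by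
  have hq' : (2 : ℤ) ≤ q := by exact_mod_cast hq
  induction n with
  | zero =>
    have : 1 ≤ q := by omega
    simp only [oGL, this, _root_.pow_zero, _root_.mul_one, _root_.sub_add_cancel, _root_.ne_eq, _root_.OfNat.ofNat_ne_zero, _root_.not_false_eq_true, _root_.zero_pow, _root_.MulZeroClass.mul_zero, _root_.add_zero, _root_.zero_add, _root_.pow_one, _root_.tsub_self, _root_.Nat.zero_div, _root_.Finset.range_one, _root_.Finset.prod_singleton, _root_.one_mul, _root_.Nat.cast_sub, _root_.Nat.cast_one, _root_.tsub_le_iff_right, _root_.ge_iff_le]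
    linarith only []
  | succ n ih =>
    have h1 : 1 ≤ q ^ (n + 1 + 1) := Nat.one_le_pow _ _ (by omega)
    rw [oGL_succ (n + 1), Nat.cast_mul, Nat.cast_mul, Nat.cast_sub h1]
    push_cast
    have h2 : (0 : ℤ) < (q : ℤ) ^ n := by positivity
    have h3 : (0 : ℤ) ≤ (q : ℤ) ^ (n ^ 2 + 2 * n) := by positivity
    have h4 : (1 : ℤ) ≤ (q : ℤ) ^ (n + 1 + 1) := by exact_mod_cast h1
    have e1 : (q : ℤ) ^ ((n + 1) ^ 2 + 2 * (n + 1)) = q ^ (n ^ 2 + 2 * n) * (q ^ n * q ^ n * q ^ 3) := by ring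
    have e2 : (q : ℤ) ^ (n + 1 + 1) * (oGL (n + 1) q * (q ^ (n + 1) * (q ^ (n + 1 + 1) - 1))) =
        q ^ (n + 1) * oGL (n + 1) q * (q ^ n * q ^ 2 * (q ^ (n + 1 + 1) - 1)) := by ring
    rw [e1, e2]
    refine le_trans ?_ (mul_le_mul_of_nonneg_right ih (mul_nonneg (by positivity) (by omega)))
    generalize (q : ℤ) ^ (n ^ 2 + 2 * n) = Y at h3
    rw [show (q : ℤ) ^ (n + 1 + 1) = q ^ n * q ^ 2 by ring, show (q : ℤ) ^ (n + 1) = q ^ n * q by ring]
    generalize (q : ℤ) ^ n = X at h2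
    have h5 : (((q : ℤ) ^ 2 - q - 1) * (X * q) + 1) * (X * q) ≤ (((q : ℤ) ^ 2 - q - 1) * X + 1) * (X * q ^ 2 - 1) := by
      linarith only [h2]
    have h6 := mul_le_mul_of_nonneg_right h5 (show (0 : ℤ) ≤ Y * (X * q ^ 2) by positivity)
    linarith only [h6]

/-- `|SL_n(q)| ≥ (1 - 1 / (q (q - 1))) q^(n² - 1)` -/
theorem oGL_ge (hq : 2 ≤ q) {n : ℕ} (hn : 1 ≤ n) : (q ^ 2 - q - 1) * q ^ (n ^ 2 - 1) ≤ q * oGL n q := by
  obtain ⟨n, rfl⟩ := Nat.exists_eq_add_of_le' hn
  have h1 := oGL_ge_aux hq n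
  have h2 : q + 1 ≤ q ^ 2 := by nlinarith only [hq]
  rw [show (n + 1) ^ 2 - 1 = n ^ 2 + 2 * n by rw [Nat.sub_eq_iff_eq_add (Nat.one_le_pow _ _ hn)]; ring,
    Nat.sub_sub]
  zify [h2]
  have h3 : (0 : ℤ) < (q : ℤ) ^ n := by positivity
  have h4 : (0 : ℤ) ≤ (q : ℤ) ^ (n ^ 2 + 2 * n) := by positivity
  refine le_of_mul_le_mul_left ?_ h3
  rw [pow_succ (q : ℤ) n] at h1
  linarith only [h1, h4]

/-- `|SL_n(q)| ≥ q^(n² - 1) / 2` -/
theorem oGL_ge' (hq : 2 ≤ q) {n : ℕ} (hn : 1 ≤ n) : (q - 1) * q ^ (n ^ 2 - 1) ≤ 2 * oGL n q := by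
  have h1 := oGL_ge hq hn
  refine Nat.le_of_mul_le_mul_left ?_ (by omega : 0 < q)
  have h2 : q * (q - 1) ≤ 2 * (q ^ 2 - q - 1) := by
    obtain ⟨r, rfl⟩ := Nat.exists_eq_add_of_le' hq
    rw [show (r + 2) ^ 2 - (r + 2) - 1 = r ^ 2 + 3 * r + 1 by
      rw [show (r + 2) ^ 2 = r ^ 2 + 3 * r + 1 + 1 + (r + 2) by ring]; omega, show r + 2 - 1 = r + 1 by omega]
    linarith only [_root_.sq_nonneg (↑r : ℤ), _root_.Nat.cast_nonneg (α := ℤ) (r)]
  calc q * ((q - 1) * q ^ (n ^ 2 - 1)) = q * (q - 1) * q ^ (n ^ 2 - 1) := by ring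
    _ ≤ 2 * (q ^ 2 - q - 1) * q ^ (n ^ 2 - 1) := Nat.mul_le_mul_right _ h2
    _ ≤ 2 * (q * oGL n q) := by rw [mul_assoc]; exact Nat.mul_le_mul_left _ h1
    _ = _ := by ring

theorem oGU_odd_le (hq : 1 ≤ q) (k : ℕ) : oGU (2 * k + 1) q ≤ (q + 1) * q ^ (4 * k ^ 2 + 4 * k) := by
  induction k with
  | zero => simp only [oGU, _root_.MulZeroClass.mul_zero, _root_.zero_add, _root_.tsub_self, _root_.Nat.zero_div, _root_.pow_zero, _root_.Finset.range_one, _root_.Finset.prod_singleton, _root_.Even.zero, ↓ _root_.reduceIte, _root_.pow_one, _root_.one_mul, _root_.ne_eq, _root_.OfNat.ofNat_ne_zero, _root_.not_false_eq_true, _root_.zero_pow, _root_.add_zero, _root_.mul_one, _root_.Std.le_refl]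
  | succ k ih =>
    rw [show 2 * (k + 1) + 1 = 2 * k + 1 + 1 + 1 by ring, oGU_succ, oGU_succ, if_neg (by simp only [parity_simps, _root_.Nat.not_even_bit1, _root_.not_false_eq_true]),
      if_pos (by simp [parity_simps]), mul_assoc,
      show (q + 1) * q ^ (4 * (k + 1) ^ 2 + 4 * (k + 1)) = (q + 1) * q ^ (4 * k ^ 2 + 4 * k) *
        (q ^ (2 * k + 1) * q ^ (2 * k + 1 + 1) * (q ^ (2 * k + 1 + 1) * q ^ (2 * k + 1 + 1 + 1))) by ring]
    refine Nat.mul_le_mul ih ?_
    have h1 : (q ^ (2 * k + 1 + 1) - 1) * (q ^ (2 * k + 1 + 1 + 1) + 1) ≤ q ^ (2 * k + 1 + 1) * q ^ (2 * k + 1 + 1 + 1) := by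
      have h2 : q ^ (2 * k + 1 + 1) ≤ q ^ (2 * k + 1 + 1 + 1) := Nat.pow_le_pow_right hq (by omega)
      obtain ⟨a, ha⟩ := Nat.exists_eq_add_of_le' (Nat.one_le_pow (2 * k + 1 + 1) _ hq)
      rw [ha] at h2 ⊢
      rw [Nat.add_sub_cancel]
      linarith only [h2]
    calc _ = q ^ (2 * k + 1) * q ^ (2 * k + 1 + 1) * ((q ^ (2 * k + 1 + 1) - 1) * (q ^ (2 * k + 1 + 1 + 1) + 1)) := by ring
      _ ≤ _ := Nat.mul_le_mul_left _ h1

/-- `|SU_n(q)| ≤ q^(n² - 1)` -/
theorem oGU_le (hq : 1 ≤ q) {n : ℕ} (hn : 1 ≤ n) : oGU n q ≤ (q + 1) * q ^ (n ^ 2 - 1) := by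
  obtain ⟨k, rfl | rfl⟩ : ∃ k, n = 2 * k + 1 ∨ n = 2 * k + 1 + 1 := ⟨(n - 1) / 2, by omega⟩
  · rw [show (2 * k + 1) ^ 2 - 1 = 4 * k ^ 2 + 4 * k by rw [Nat.sub_eq_iff_eq_add (Nat.one_le_pow _ _ hn)]; ring]
    exact oGU_odd_le hq k
  · rw [show (2 * k + 1 + 1) ^ 2 - 1 = 4 * k ^ 2 + 4 * k + (2 * k + 1 + (2 * k + 1 + 1)) by
      rw [Nat.sub_eq_iff_eq_add (Nat.one_le_pow _ _ hn)]; ring, oGU_succ, if_neg (by simp only [parity_simps, _root_.Nat.not_even_bit1, _root_.not_false_eq_true]), pow_add q (4 * k ^ 2 + 4 * k),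
      pow_add q (2 * k + 1) (2 * k + 1 + 1), ← mul_assoc (q + 1)]
    exact Nat.mul_le_mul (oGU_odd_le hq k) (Nat.mul_le_mul_left _ (Nat.sub_le _ _))

theorem oGU_even_ge (hq : 2 ≤ q) (k : ℕ) : (q + 1) * (q ^ 2 - 1) * q ^ (4 * k ^ 2 + 8 * k + 1) ≤ oGU (2 * k + 2) q := by
  induction k with
  | zero =>
    simp only [oGU, prod_range_succ, _root_.ne_eq, _root_.OfNat.ofNat_ne_zero, _root_.not_false_eq_true, _root_.zero_pow, _root_.MulZeroClass.mul_zero, _root_.add_zero, _root_.zero_add, _root_.pow_one, _root_.Nat.add_one_sub_one, _root_.mul_one, _root_.Order.lt_two_iff, _root_.zero_le, _root_.Nat.div_self, _root_.Finset.range_one, _root_.Finset.prod_singleton, _root_.Even.zero, ↓ _root_.reduceIte, _root_.Nat.not_even_one, _root_.Nat.reduceAdd]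
    exact le_of_eq (by ring)
  | succ k ih =>
    rw [show 2 * (k + 1) + 2 = 2 * k + 2 + 1 + 1 by ring, oGU_succ, oGU_succ, if_pos (by simp [parity_simps]),
      if_neg (by simp [parity_simps]), mul_assoc (oGU _ _),
      show (q + 1) * (q ^ 2 - 1) * q ^ (4 * (k + 1) ^ 2 + 8 * (k + 1) + 1) = (q + 1) * (q ^ 2 - 1) * q ^ (4 * k ^ 2 + 8 * k + 1) *
        (q ^ (2 * k + 2) * q ^ (2 * k + 2 + 1) * (q ^ (2 * k + 2 + 1) * q ^ (2 * k + 2 + 1 + 1))) by ring]
    refine Nat.mul_le_mul ih ?_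
    have h1 : q ^ (2 * k + 2 + 1) * q ^ (2 * k + 2 + 1 + 1) ≤ (q ^ (2 * k + 2 + 1) + 1) * (q ^ (2 * k + 2 + 1 + 1) - 1) := by
      have h2 : q ^ (2 * k + 2 + 1) < q ^ (2 * k + 2 + 1 + 1) := Nat.pow_lt_pow_right hq (by omega)
      obtain ⟨a, ha⟩ := Nat.exists_eq_add_of_le' (Nat.one_le_pow (2 * k + 2 + 1 + 1) _ (by omega : 0 < q))
      rw [ha] at h2 ⊢
      rw [Nat.add_sub_cancel]
      linarith only [h2]
    calc _ ≤ q ^ (2 * k + 2) * q ^ (2 * k + 2 + 1) * ((q ^ (2 * k + 2 + 1) + 1) * (q ^ (2 * k + 2 + 1 + 1) - 1)) :=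
          Nat.mul_le_mul_left _ h1
      _ = _ := by ring

/-- `|SU_n(q)| ≥ (1 - 1 / q²) q^(n² - 1)` -/
theorem oGU_ge (hq : 2 ≤ q) {n : ℕ} (hn : 2 ≤ n) : (q + 1) * (q ^ 2 - 1) * q ^ (n ^ 2 - 3) ≤ oGU n q := by
  have h0 : 3 ≤ n ^ 2 := by nlinarith
  obtain ⟨k, rfl | rfl⟩ : ∃ k, n = 2 * k + 2 ∨ n = 2 * k + 2 + 1 := ⟨(n - 2) / 2, by omega⟩
  · rw [show (2 * k + 2) ^ 2 - 3 = 4 * k ^ 2 + 8 * k + 1 by rw [Nat.sub_eq_iff_eq_add h0]; ring]
    exact oGU_even_ge hq k
  · rw [show (2 * k + 2 + 1) ^ 2 - 3 = 4 * k ^ 2 + 8 * k + 1 + (2 * k + 2 + (2 * k + 2 + 1)) by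
      rw [Nat.sub_eq_iff_eq_add h0]; ring, oGU_succ, if_pos (by simp [parity_simps]), pow_add,
      pow_add q (2 * k + 2), ← mul_assoc]
    exact Nat.mul_le_mul (oGU_even_ge hq k) (Nat.mul_le_mul_left _ (Nat.le_succ _))

theorem PP_le (m q : ℕ) : PP m q ≤ q ^ (m ^ 2 + m) := by
  induction m with
  | zero => simp [PP]
  | succ m ih =>
    rw [PP_succ, show (m + 1) ^ 2 + (m + 1) = m ^ 2 + m + 2 * (m + 1) by ring, pow_add]
    exact Nat.mul_le_mul ih (Nat.sub_le _ _)

theorem PP_ge_aux (hq : 2 ≤ q) (m : ℕ) :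
    (((q : ℤ) ^ 2 - 2) * q ^ (2 * m) + 1) * q ^ (m ^ 2 + m) ≤ ((q : ℤ) ^ 2 - 1) * q ^ (2 * m) * PP m q := by
  have hq' : (2 : ℤ) ≤ q := by exact_mod_cast hq
  induction m with
  | zero =>
    simp only [PP, _root_.MulZeroClass.mul_zero, _root_.pow_zero, _root_.mul_one, _root_.ne_eq, _root_.OfNat.ofNat_ne_zero, _root_.not_false_eq_true, _root_.zero_pow, _root_.add_zero, _root_.Finset.range_zero, _root_.Finset.prod_empty, _root_.Nat.cast_one, _root_.Order.le_sub_one_iff, _root_.gt_iff_lt]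
    linarith
  | succ m ih =>
    have h1 : 1 ≤ q ^ (2 * (m + 1)) := Nat.one_le_pow _ _ (by omega)
    rw [PP_succ, Nat.cast_mul, Nat.cast_sub h1]
    push_cast
    have h2 : (0 : ℤ) < (q : ℤ) ^ (2 * m) := by positivity
    have h3 : (0 : ℤ) ≤ (q : ℤ) ^ (m ^ 2 + m) := by positivity
    have h4 : (1 : ℤ) ≤ (q : ℤ) ^ (2 * (m + 1)) := by exact_mod_cast h1
    have e1 : (q : ℤ) ^ ((m + 1) ^ 2 + (m + 1)) = q ^ (m ^ 2 + m) * (q ^ (2 * m) * q ^ 2) := by ring
    have e2 : ((q : ℤ) ^ 2 - 1) * q ^ (2 * (m + 1)) * (PP m q * (q ^ (2 * (m + 1)) - 1)) =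
        (q ^ 2 - 1) * q ^ (2 * m) * PP m q * (q ^ 2 * (q ^ (2 * (m + 1)) - 1)) := by ring
    rw [e1, e2]
    refine le_trans ?_ (mul_le_mul_of_nonneg_right ih (mul_nonneg (by positivity) (by omega)))
    generalize (q : ℤ) ^ (m ^ 2 + m) = Y at h3
    rw [show (q : ℤ) ^ (2 * (m + 1)) = q ^ (2 * m) * q ^ 2 by ring]
    generalize (q : ℤ) ^ (2 * m) = X at h2
    have h5 : (((q : ℤ) ^ 2 - 2) * (X * q ^ 2) + 1) * X ≤ (((q : ℤ) ^ 2 - 2) * X + 1) * (X * q ^ 2 - 1) := by
      linarith only [h2]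
    have h6 := mul_le_mul_of_nonneg_right h5 (show (0 : ℤ) ≤ Y * q ^ 2 by positivity)
    linarith only [h6]

/-- `∏ (1 - q^(-2i)) ≥ 1 - 1 / (q² - 1)` -/
theorem PP_ge (hq : 2 ≤ q) (m : ℕ) : (q ^ 2 - 2) * q ^ (m ^ 2 + m) ≤ (q ^ 2 - 1) * PP m q := by
  have h1 := PP_ge_aux hq m
  have h2 : 2 ≤ q ^ 2 := by nlinarith only [hq]
  have h2' : 1 ≤ q ^ 2 := by omega
  zify [h2, h2']
  have h3 : (0 : ℤ) < (q : ℤ) ^ (2 * m) := by positivity
  have h4 : (0 : ℤ) ≤ (q : ℤ) ^ (m ^ 2 + m) := by positivity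
  refine le_of_mul_le_mul_left ?_ h3
  linarith only [h1, h4]

theorem PP_ge' (hq : 2 ≤ q) (m : ℕ) : 2 * q ^ (m ^ 2 + m) ≤ 3 * PP m q := by
  have h1 := PP_ge hq m
  have h2 : 4 ≤ q ^ 2 := by nlinarith only [hq]
  obtain ⟨r, hr⟩ := Nat.exists_eq_add_of_le' h2
  rw [hr, show r + 4 - 2 = r + 2 by omega, show r + 4 - 1 = r + 3 by omega] at h1
  refine Nat.le_of_mul_le_mul_left ?_ (by omega : 0 < r + 3)
  linarith only [h1, Nat.zero_le (r * q ^ (m ^ 2 + m))]

theorem oSp_le (k q : ℕ) : oSp k q ≤ q ^ (2 * k ^ 2 + k) := by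
  rw [oSp, show 2 * k ^ 2 + k = k ^ 2 + (k ^ 2 + k) by ring, pow_add]
  exact Nat.mul_le_mul_left _ (PP_le k q)

theorem oSp_ge' (hq : 2 ≤ q) (k : ℕ) : 2 * q ^ (2 * k ^ 2 + k) ≤ 3 * oSp k q := by
  rw [oSp, show 2 * k ^ 2 + k = k ^ 2 + (k ^ 2 + k) by ring, pow_add, mul_left_comm, mul_left_comm 3]
  exact Nat.mul_le_mul_left _ (PP_ge' hq k)

theorem oP_le_oM (m q : ℕ) : oP m q ≤ oM m q :=
  Nat.mul_le_mul_right _ (Nat.mul_le_mul_left _ ((Nat.sub_le _ _).trans (Nat.le_succ _)))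

theorem oP_le (m q : ℕ) : oP (m + 1) q ≤ q ^ (2 * m ^ 2 + 3 * m + 1) := by
  rw [oP, Nat.add_sub_cancel, show 2 * m ^ 2 + 3 * m + 1 = (m + 1) * m + (m + 1) + (m ^ 2 + m) by ring, pow_add q _ (m ^ 2 + m),
    pow_add q _ (m + 1)]
  exact Nat.mul_le_mul (Nat.mul_le_mul_left _ (Nat.sub_le _ _)) (PP_le m q)

/-- dimension `2 (m + 1) ≥ 4` -/
theorem oM_le (hq : 1 ≤ q) {m : ℕ} (hm : 1 ≤ m) : oM (m + 1) q ≤ q ^ (2 * m ^ 2 + 3 * m + 1) := by
  obtain ⟨m, rfl⟩ := Nat.exists_eq_add_of_le' hm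
  have h2 : ∀ j, PP (j + 1) q ≤ (q ^ 2 - 1) * q ^ (j ^ 2 + 3 * j) := fun j => by
    induction j with
    | zero => simp only [PP, _root_.zero_add, _root_.Finset.range_one, _root_.Finset.prod_singleton, _root_.mul_one, _root_.ne_eq, _root_.OfNat.ofNat_ne_zero, _root_.not_false_eq_true, _root_.zero_pow, _root_.MulZeroClass.mul_zero, _root_.add_zero, _root_.pow_zero, _root_.Std.le_refl]
    | succ j ih =>
      rw [PP_succ, show (j + 1) ^ 2 + 3 * (j + 1) = j ^ 2 + 3 * j + 2 * (j + 1 + 1) by ring, pow_add, ← mul_assoc]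
      exact Nat.mul_le_mul ih (Nat.sub_le _ _)
  have h3 : (q ^ (m + 1 + 1) + 1) * (q ^ 2 - 1) ≤ q ^ (m + 1 + 1) * q ^ 2 := by
    have h4 : q ^ 2 ≤ q ^ (m + 1 + 1) := Nat.pow_le_pow_right hq (by omega)
    obtain ⟨a, ha⟩ := Nat.exists_eq_add_of_le' (Nat.one_le_pow 2 _ hq)
    rw [ha] at h4 ⊢
    rw [Nat.add_sub_cancel]
    linarith only [h4]
  rw [oM, Nat.add_sub_cancel]
  calc _ ≤ q ^ ((m + 1 + 1) * (m + 1)) * (q ^ (m + 1 + 1) + 1) * ((q ^ 2 - 1) * q ^ (m ^ 2 + 3 * m)) :=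
        Nat.mul_le_mul_left _ (h2 m)
    _ = q ^ ((m + 1 + 1) * (m + 1)) * q ^ (m ^ 2 + 3 * m) * ((q ^ (m + 1 + 1) + 1) * (q ^ 2 - 1)) := by ring
    _ ≤ q ^ ((m + 1 + 1) * (m + 1)) * q ^ (m ^ 2 + 3 * m) * (q ^ (m + 1 + 1) * q ^ 2) := Nat.mul_le_mul_left _ h3
    _ = _ := by ring

theorem oM_ge (hq : 2 ≤ q) (m : ℕ) : 2 * q ^ (2 * m ^ 2 + 3 * m + 1) ≤ 3 * oM (m + 1) q := by
  rw [oM, Nat.add_sub_cancel, show 2 * m ^ 2 + 3 * m + 1 = (m + 1) * m + (m + 1) + (m ^ 2 + m) by ring, pow_add, pow_add,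
    mul_left_comm, mul_left_comm 3]
  exact Nat.mul_le_mul (Nat.mul_le_mul_left _ (Nat.le_succ _)) (PP_ge' hq m)

/-- dimension `2 (m + 1) ≥ 8` -/
theorem oP_ge (hq : 2 ≤ q) {m : ℕ} (hm : 3 ≤ m) : 5 * q ^ (2 * m ^ 2 + 3 * m + 1) ≤ 8 * oP (m + 1) q := by
  have h1 : 16 ≤ q ^ (m + 1) := le_trans (Nat.pow_le_pow_left hq 4) (Nat.pow_le_pow_right (by omega) (by omega))
  have h2 : 15 * q ^ (m + 1) ≤ 16 * (q ^ (m + 1) - 1) := by omega
  have h3 := Nat.mul_le_mul_left (q ^ ((m + 1) * m)) (Nat.mul_le_mul h2 (PP_ge' hq m))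
  rw [oP, Nat.add_sub_cancel, show 2 * m ^ 2 + 3 * m + 1 = (m + 1) * m + (m + 1) + (m ^ 2 + m) by ring, pow_add, pow_add]
  linarith only [h3]

end Cfsg.Agent.N2C.Cyc
end

private theorem dce_d00a069aab00 : _root_.True := by
  try have : _root_.True := by simp only [_root_.Cfsg.Agent.N2.Cy.qs.congr_simp]
  try have : _root_.True := by simp only [_root_.Cfsg.Agent.N2.Cy.uk.eq_1]
  try have : _root_.True := by simp only [_root_.Cfsg.Agent.N2C.Cyc.oGU.eq_1]
  try have : _root_.True := by simp only [_root_.Cfsg.Agent.N2C.Cyc.oP.eq_1]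
  try have : _root_.True := by simp only [_root_.Cfsg.Agent.N2C.Cyc.oSp.eq_1]
  try have : _root_.True := by simp only [_root_.Cfsg.Agent.N2.Cy.sk.eq_1]
  try have : _root_.True := by simp only [_root_.Cfsg.Agent.N2C.Cyc.oGL.eq_1]
  try have : _root_.True := by simp only [_root_.Cfsg.Agent.N2C.Cyc.oM.eq_1]
  try have : _root_.True := by simp only [_root_.Cfsg.Agent.N2C.Cyc.PP.eq_1]
  try have : _root_.True := by simp only [_root_.Cfsg.Agent.N2.Cy.uu.eq_1]
  exact _root_.True.intro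
end

-- part: N2/Cl/FrSp/Num
section
prune_inst 0xe56046407462000000000000420000246000019200600001a8400c460109a3428d40090046801510182eb2001804000811000070424000000e0034000002000008800204b0080200080096001087480000000000000000000000000000010004000000000
set_option linter.all false
open scoped Cfsg.Agent.FastGrp

/-!
# N2 (S3519), symplectic groups, at least three blocks: the inequalities and two small rings (helper79)
-/

set_option autoImplicit false

namespace Cfsg.Agent.N2C.FrSp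

open Cfsg.Agent.N2C.Cyc Cfsg.Agent.N2.Cy Nat

theorem red {q m t X Y : ℕ} (hq : 2 ≤ q) (h1 : 3 * (X * t !) ≤ 2 * q ^ Y)
    (h2 : Y + (2 * m ^ 2 + m) * t ≤ 2 * (m * t) ^ 2 + m * t) : X * (t ! * oSp m q ^ t) ≤ oSp (m * t) q := by
  refine Nat.le_of_mul_le_mul_left (le_trans ?_ (oSp_ge' hq (m * t))) three_pos
  calc 3 * (X * (t ! * oSp m q ^ t)) = 3 * (X * t !) * oSp m q ^ t := by ring
    _ ≤ 2 * q ^ Y * (q ^ (2 * m ^ 2 + m)) ^ t := Nat.mul_le_mul h1 (Nat.pow_le_pow_left (oSp_le m q) t)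
    _ = 2 * q ^ (Y + (2 * m ^ 2 + m) * t) := by rw [← pow_mul, pow_add, mul_assoc]
    _ ≤ _ := Nat.mul_le_mul_left 2 (Nat.pow_le_pow_right (by omega) h2)

theorem fact_le (j : ℕ) : 3 * (j + 4)! ≤ 2 * 2 ^ ((j + 4) * (j + 2)) := by
  induction j with
  | zero => decide
  | succ j ih =>
    have h1 : j + 5 ≤ 2 ^ (2 * j + 7) := Nat.lt_two_pow_self.le.trans (Nat.pow_le_pow_right two_pos (by omega))
    calc 3 * (j + 1 + 4)! = (j + 5) * (3 * (j + 4)!) := by rw [show j + 1 + 4 = j + 4 + 1 from rfl, factorial_succ]; ring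
      _ ≤ 2 ^ (2 * j + 7) * (2 * 2 ^ ((j + 4) * (j + 2))) := Nat.mul_le_mul h1 ih
      _ = _ := by rw [show (j + 1 + 4) * (j + 1 + 2) = 2 * j + 7 + (j + 4) * (j + 2) by ring, pow_add]; ring

theorem red' {q m t Z : ℕ} (hq : 2 ≤ q) (h1 : 3 * t ! ≤ 2 * 2 ^ Z)
    (h2 : 5 * (m * t) + Z + (2 * m ^ 2 + m) * t ≤ 2 * (m * t) ^ 2 + m * t) :
    ((q + 1) ^ (m * t)) ^ 3 * (t ! * oSp m q ^ t) ≤ oSp (m * t) q := by
  refine red hq ?_ h2
  have h3 : (q + 1) ^ 3 ≤ q ^ 5 := by
    obtain ⟨r, rfl⟩ := Nat.exists_eq_add_of_le' hq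
    ring_nf
    omega
  calc 3 * (((q + 1) ^ (m * t)) ^ 3 * t !) = ((q + 1) ^ 3) ^ (m * t) * (3 * t !) := by rw [← pow_mul, ← pow_mul]; ring
    _ ≤ (q ^ 5) ^ (m * t) * (2 * q ^ Z) :=
      Nat.mul_le_mul (Nat.pow_le_pow_left h3 _) (h1.trans (Nat.mul_le_mul_left 2 (Nat.pow_le_pow_left hq Z)))
    _ = _ := by rw [← pow_mul, pow_add]; ring

theorem num {q m t : ℕ} (hq : 2 ≤ q) (hm : 1 ≤ m) (ht : 3 ≤ t) (hne : m = 1 → t = 3 → 4 ≤ q) :
    ((q + 1) ^ (m * t)) ^ 3 * (t ! * oSp m q ^ t) ≤ oSp (m * t) q := by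
  rcases hm.eq_or_lt with rfl | hm
  · rcases ht.eq_or_lt with rfl | ht
    · rcases (hne rfl rfl).eq_or_lt with rfl | h5
      · decide +kernel
      · refine red (Y := 12) hq ?_ (by norm_num)
        have h1 := Nat.pow_le_pow_left (show 5 * (q + 1) ≤ 6 * q by omega) 9
        have h2 := Nat.mul_le_mul_right (q ^ 9) (Nat.pow_le_pow_left (show 5 ≤ q from h5) 3)
        rw [mul_pow, mul_pow] at h1
        rw [← pow_add] at h2
        rw [← pow_mul, show 3 ! = 6 from rfl]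
        norm_num at h1 h2 ⊢
        omega
    rcases (show 4 ≤ t from ht).eq_or_lt with rfl | ht
    · rcases hq.eq_or_lt with rfl | h3
      · decide +kernel
      · refine red (Y := 24) hq ?_ (by norm_num)
        have h1 := Nat.pow_le_pow_left (show 2 * (q + 1) ≤ q ^ 2 by nlinarith) 12
        rw [mul_pow, ← pow_mul] at h1
        rw [← pow_mul, show 4 ! = 24 from rfl]
        norm_num at h1 ⊢
        omega
    · obtain ⟨j, rfl⟩ := Nat.exists_eq_add_of_le' (show 5 ≤ t from ht)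
      exact red' hq (fact_le (j + 1)) (by nlinarith)
  obtain ⟨m, rfl⟩ := Nat.exists_eq_add_of_le' (show 2 ≤ m from hm)
  rcases ht.eq_or_lt with rfl | ht
  · exact red' (Z := 4) hq (by decide) (by nlinarith)
  · obtain ⟨j, rfl⟩ := Nat.exists_eq_add_of_le' (show 4 ≤ t from ht)
    refine red' hq (fact_le j) ?_
    ring_nf
    omega

theorem num2 : 9 ^ 3 * (3 ! * oSp 1 2 ^ 3) ≤ oSp (1 * 3) 2 := by decide +kernel

theorem num3 : 36 ^ 3 * (3 ! * oSp 1 3 ^ 3) ≤ oSp (1 * 3) 3 := by decide +kernel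

variable {R : Type} [CommRing R] [Finite R]

/-- `F₆₄` -/
theorem field9 (h2 : (2 : R) = 0) (hc : Nat.card R ≤ 64) {a : R} (h9 : a ^ 9 = 1) (h3 : IsUnit (a ^ 3 - 1)) {x : R}
    (hx : x ≠ 0) : IsUnit x := by
  by_contra hu
  obtain ⟨M, hM, hxM⟩ := exists_max_ideal_of_mem_nonunits hu
  let _ := Ideal.Quotient.field M
  have := fin_quot M
  have := Fintype.ofFinite (R ⧸ M)
  have : CharP (R ⧸ M) 2 := (CharP.charP_iff_prime_eq_zero prime_two).2 (by
    have h4 := congrArg (Ideal.Quotient.mk M) h2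
    rwa [map_ofNat, map_zero] at h4)
  have : Fact (Nat.Prime 3) := ⟨prime_three⟩
  obtain ⟨j, -, hj⟩ := FiniteField.card (R ⧸ M) 2
  have h4 : Ideal.Quotient.mk M a ^ 9 = 1 := by rw [← map_pow, h9, map_one]
  have h5 : orderOf (Ideal.Quotient.mk M a) = 3 ^ (1 + 1) := orderOf_eq_prime_pow (fun h5 => by
    have h6 := (h3.map (Ideal.Quotient.mk M)).ne_zero
    rw [map_sub, map_pow, map_one] at h6
    exact h6 (sub_eq_zero.2 h5)) h4
  have h6 : 3 ^ (1 + 1) ∣ 2 ^ (j : ℕ) - 1 := by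
    rw [← h5, ← hj, orderOf_dvd_iff_pow_eq_one]
    exact FiniteField.pow_card_sub_one_eq_one _ fun h0 => by simp [h0] at h4
  have h7 := (Nat.card_le_card_of_surjective _ (Ideal.Quotient.mk_surjective (I := M))).trans hc
  rw [Nat.card_eq_fintype_card, hj] at h7
  have h8 : (j : ℕ) ≤ 6 := (Nat.pow_le_pow_iff_right one_lt_two).1 h7
  have h0 : 0 < (j : ℕ) := j.pos
  have h10 : (j : ℕ) = 6 := by
    generalize (j : ℕ) = i at h6 h8 h0
    interval_cases i <;> first | rfl | exact absurd h6 (by decide)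
  refine hx (((Ideal.Quotient.mk_surjective (I := M)).bijective_of_nat_card_le ?_).1
    ((Ideal.Quotient.eq_zero_iff_mem.2 hxM).trans (map_zero _).symm))
  rw [Nat.card_eq_fintype_card (α := R ⧸ M), hj, h10]
  exact hc

/-- `F₉[y] / y³` -/
theorem loc36 [Nontrivial R] {σ : R →+* R} (h3 : (3 : R) = 0) (Z : Finset R) (hZ : Z.card ≤ 4)
    (hu : ∀ u, u * σ u = 1 → u ^ 3 ∈ Z ∧ u ^ 12 = 1) {δ : R} (hδ : σ δ = -δ) (hδ' : IsUnit δ) (hs : sk σ ⊤ ≤ 27) :
    uu σ ≤ 36 := by
  have h1 : Nat.card {x : R // σ x = -x ∧ x ^ 3 = 0} * Nat.card (Fin 3) ≤ sk σ ⊤ := by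
    rw [← Nat.card_prod]
    refine Nat.card_le_card_of_injective (fun y => ⟨y.1.1 + ![0, δ, -δ] y.2, trivial, ?_⟩) ?_
    · obtain ⟨x, i⟩ := y
      fin_cases i <;> simp [x.2.1, hδ, add_comm]
    · rintro ⟨⟨x, hx, hx'⟩, i⟩ ⟨⟨y, hy, hy'⟩, j⟩ e
      have e1 : x + ![0, δ, -δ] i = y + ![0, δ, -δ] j := congrArg Subtype.val e
      have e2 : ∀ c : R, x - y = δ * (1 + 3 * c) ∨ y - x = δ * (1 + 3 * c) → False := fun c hc => by
        rw [h3, zero_mul, add_zero, mul_one] at hc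
        refine (hδ'.pow 3).ne_zero ?_
        rcases hc with hc | hc <;> rw [← hc]
        · linear_combination hx' - hy' - x * y * (x - y) * h3
        · linear_combination hy' - hx' - x * y * (y - x) * h3
      have e3 : i = j := by
        fin_cases i <;> fin_cases j <;> first | rfl | skip
        all_goals
          exfalso
          simp only [Fin.zero_eta, Fin.mk_one, Fin.reduceFinMk, Matrix.cons_val_zero, Matrix.cons_val_one,
            Matrix.cons_val] at e1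
        · exact e2 0 (Or.inl (by linear_combination e1))
        · exact e2 0 (Or.inr (by linear_combination -e1))
        · exact e2 0 (Or.inr (by linear_combination -e1))
        · exact e2 (-1) (Or.inl (by linear_combination e1))
        · exact e2 0 (Or.inl (by linear_combination e1))
        · exact e2 (-1) (Or.inr (by linear_combination -e1))
      subst e3
      exact Prod.ext (Subtype.ext (add_right_cancel e1)) rfl
  have h2 : uu σ ≤ Nat.card Z * Nat.card {x : R // σ x = -x ∧ x ^ 3 = 0} := by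
    rw [← Nat.card_prod]
    refine Nat.card_le_card_of_injective (fun u => (⟨u.1 ^ 3, (hu _ u.2).1⟩, ⟨u.1 ^ 4 - u.1 ^ 8, ?_, ?_⟩)) ?_
    · have h4 := (hu _ u.2).2
      have h5 : σ u.1 ^ 4 = u.1 ^ 8 := by
        have h6 := congrArg (· ^ 4) u.2
        linear_combination u.1 ^ 8 * h6 - σ u.1 ^ 4 * h4
      rw [map_sub, map_pow, map_pow, show σ u.1 ^ 8 = (σ u.1 ^ 4) ^ 2 by ring, h5]
      linear_combination -u.1 ^ 4 * h4
    · linear_combination (-u.1 ^ 12) * (hu _ u.2).2 + (u.1 ^ 20 - u.1 ^ 16) * h3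
    · rintro ⟨u, hu'⟩ ⟨v, hv'⟩ e
      have e1 : u ^ 3 = v ^ 3 := congrArg (fun y => y.1.1) e
      have e2 : u ^ 4 - u ^ 8 = v ^ 4 - v ^ 8 := congrArg (fun y => y.2.1) e
      have a1 := (hu u hu').2
      have a2 := (hu v hv').2
      have e3 : u ^ 4 = v ^ 4 := by
        generalize hw : u ^ 4 = w
        generalize hw' : v ^ 4 = w'
        have b1 : w ^ 3 = 1 := by rw [← hw, ← pow_mul, a1]
        have b2 : w' ^ 3 = 1 := by rw [← hw', ← pow_mul, a2]
        have b3 : (w - w') * (1 - w - w') = 0 := by rw [← hw, ← hw']; linear_combination e2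
        have b4 : (1 - w - w') ^ 3 = -1 := by
          linear_combination -b1 - b2 + ((w + w') ^ 2 - (w + w') - w * w' * (w + w')) * h3
        linear_combination -(1 - w - w') ^ 2 * b3 + (w - w') * b4
      exact Subtype.ext (by linear_combination u ^ 9 * e3 - v * u ^ 9 * e1 - (u - v) * a1)
  rw [Nat.card_eq_finsetCard] at h2
  rw [Nat.card_fin] at h1
  have h4 : Nat.card {x : R // σ x = -x ∧ x ^ 3 = 0} ≤ 9 := by omega
  exact h2.trans (Nat.mul_le_mul hZ h4)

end Cfsg.Agent.N2C.FrSp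
end

-- part: N2/Cl/Ten/Num
section
prune_inst 0xe56046407462000000000002220020246000019200600000f9000c46094fb3628d40210046801c10184eb2801804000811000070424000000e0034000002000008aa520433340e04080096803087580c00000000000000000000000000051004000000000
set_option linter.all false
open scoped Cfsg.Agent.FastGrp

/-!
# N2 classical, tensor decompositions: the inequalities (helper54)
-/

set_option autoImplicit false

namespace Cfsg.Agent.N2C.Ten

theorem fin_le {c L I q z t e κ S N : ℕ} (hq : 0 < q) (h1 : c * q ^ 2 ≤ κ * q ^ e) (h2 : L * q ^ 3 ≤ t * z * q ^ S)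
    (h3 : q ^ N ≤ 2 * q * I) (h4 : 2 * t * z * κ ^ 3 * q ^ (3 * e + S) ≤ q ^ (N + 8)) : c ^ 3 * L ≤ I := by
  refine Nat.le_of_mul_le_mul_right ?_ (show 0 < 2 * q ^ 9 by positivity)
  calc c ^ 3 * L * (2 * q ^ 9) = 2 * ((c * q ^ 2) ^ 3 * (L * q ^ 3)) := by ring
    _ ≤ 2 * ((κ * q ^ e) ^ 3 * (t * z * q ^ S)) := Nat.mul_le_mul_left _ (Nat.mul_le_mul (Nat.pow_le_pow_left h1 3) h2)
    _ = 2 * t * z * κ ^ 3 * q ^ (3 * e + S) := by ring
    _ ≤ q ^ N * q ^ 8 := by rwa [← pow_add]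
    _ ≤ 2 * q * I * q ^ 8 := Nat.mul_le_mul_right _ h3
    _ = _ := by ring

theorem pw_le {q t T z κ x y E N : ℕ} (hq : 0 < q) (h1 : t ≤ T * q ^ x) (h2 : 2 * T * z * κ ^ 3 ≤ q ^ y)
    (h3 : x + y + E ≤ N) : 2 * t * z * κ ^ 3 * q ^ E ≤ q ^ N :=
  calc 2 * t * z * κ ^ 3 * q ^ E ≤ 2 * (T * q ^ x) * z * κ ^ 3 * q ^ E := by gcongr
    _ = q ^ x * (2 * T * z * κ ^ 3) * q ^ E := by ring
    _ ≤ q ^ x * q ^ y * q ^ E := by gcongr
    _ ≤ q ^ N := by rw [← pow_add, ← pow_add]; exact Nat.pow_le_pow_right hq h3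

theorem sq_le_six {q : ℕ} (hq : 2 ≤ q) (m : ℕ) : (m + 1) * m ≤ 6 * q ^ (m - 2) := by
  refine le_trans ?_ (Nat.mul_le_mul_left 6 (Nat.pow_le_pow_left hq _))
  rcases Nat.lt_or_ge m 2 with h | h
  · interval_cases m <;> simp
  · induction m, h using Nat.le_induction with
    | base => simp
    | succ m hm ih =>
      rw [show m + 1 - 2 = m - 2 + 1 by omega, pow_succ]
      nlinarith

theorem six_le {q z j : ℕ} (hq : 2 ≤ q) (hz : z ≤ q + 1) : 2 * 6 * z * (q ^ j) ^ 3 ≤ q ^ (6 + 3 * j) := by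
  have h1 : 2 ^ 5 ≤ q ^ 5 := Nat.pow_le_pow_left hq 5
  rw [pow_add, ← pow_mul, mul_comm j 3, pow_succ' q 5]
  exact Nat.mul_le_mul_right _ (by nlinarith)

theorem numA {q z t a b m : ℕ} (hq : 2 ≤ q) (hz : z ≤ q + 1) (ha : 4 ≤ a) (hb : 4 ≤ b) (hm : 1 ≤ m) (ht : t ≤ (m + 1) * m) :
    2 * t * z * (q ^ 3) ^ 3 * q ^ (3 * (a * (b * m) ^ 2) + (a ^ 2 + b ^ 2 + m ^ 2)) ≤ q ^ ((a * (b * m)) ^ 2 + 8) := by
  refine pw_le (by omega) (ht.trans (sq_le_six hq m)) (six_le hq hz) ?_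
  obtain ⟨x, rfl⟩ := Nat.exists_eq_add_of_le ha
  obtain ⟨y, rfl⟩ := Nat.exists_eq_add_of_le hb
  obtain ⟨w, rfl⟩ := Nat.exists_eq_add_of_le hm
  ring_nf
  omega

theorem numB {q z t a m : ℕ} (hq : 2 ≤ q) (hz : z ≤ q + 1) (ha : 3 ≤ a) (hm : 1 ≤ m) (ht : t ≤ (m + 1) * m) :
    2 * t * z * (q ^ 2) ^ 3 * q ^ (3 * (3 * m ^ 2 * (a + 1)) + (a ^ 2 + 3 ^ 2 + m ^ 2)) ≤ q ^ ((a * (3 * m)) ^ 2 + 8) := by
  refine pw_le (by omega) (ht.trans (sq_le_six hq m)) (six_le hq hz) ?_
  obtain ⟨x, rfl⟩ := Nat.exists_eq_add_of_le ha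
  obtain ⟨w, rfl⟩ := Nat.exists_eq_add_of_le hm
  ring_nf
  omega

theorem numC {q z t κ a m : ℕ} (hq : 2 ≤ q) (hz : 2 * 6 * z * κ ^ 3 ≤ q ^ 12) (ha : 2 ≤ a) (hn : 5 ≤ a * (2 * m))
    (ht : t ≤ (m + 1) * m) :
    2 * t * z * κ ^ 3 * q ^ (3 * (2 * m ^ 2 * a) + (a ^ 2 + 2 ^ 2 + m ^ 2)) ≤ q ^ ((a * (2 * m)) ^ 2 + 8) := by
  refine pw_le (by omega) (ht.trans (sq_le_six hq m)) hz ?_
  rcases Nat.lt_or_ge m 2 with h | h
  · interval_cases m
    · omega
    · obtain ⟨x, rfl⟩ := Nat.exists_eq_add_of_le (show 3 ≤ a by omega)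
      ring_nf
      omega
  · obtain ⟨x, rfl⟩ := Nat.exists_eq_add_of_le ha
    obtain ⟨w, rfl⟩ := Nat.exists_eq_add_of_le h
    rw [Nat.add_sub_cancel_left]
    ring_nf
    omega

theorem numL {q z : ℕ} (hq : 2 ≤ q) (hz : z ≤ q) : 2 * 6 * z * (q ^ 2) ^ 3 ≤ q ^ 12 := by
  have h1 : 2 ^ 5 ≤ q ^ 5 := Nat.pow_le_pow_left hq 5
  calc 2 * 6 * z * (q ^ 2) ^ 3 ≤ q ^ 5 * q * (q ^ 2) ^ 3 := by gcongr; omega
    _ = _ := by ring

theorem numU {q z : ℕ} (hq : 3 ≤ q) (hz : z ≤ q + 1) : 2 * 6 * z * ((q + 1) ^ 2) ^ 3 ≤ q ^ 12 := by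
  have h1 : 3 ^ 5 ≤ q ^ 5 := Nat.pow_le_pow_left hq 5
  have h2 : (3 * (q + 1)) ^ 7 ≤ (4 * q) ^ 7 := Nat.pow_le_pow_left (by omega) 7
  have h3 : 2 * 6 * z * ((q + 1) ^ 2) ^ 3 ≤ 12 * (q + 1) ^ 7 :=
    calc _ ≤ 2 * 6 * (q + 1) * ((q + 1) ^ 2) ^ 3 := by gcongr
      _ = _ := by ring
  rw [mul_pow, mul_pow] at h2
  rw [show q ^ 12 = q ^ 5 * q ^ 7 by ring]
  nlinarith [Nat.mul_le_mul_right (q ^ 7) h1]

end Cfsg.Agent.N2C.Ten
end

-- part: N2/Cl/D4/GN4A
section
prune_inst 0xe4606604746200000018000242003c26a200009000080000e8400c4205cb3800a841082136a01d0000a690441834000811000030424000000e003000011a0080080252049608a004200080800000000000000000000000000000000000051000000000000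
set_option linter.all false
open scoped Cfsg.Agent.FastGrp

/-!
# N2 (S3519), `PΩ₈⁺(q)`, box GN4: counting and the Hamming code (helper14)

* `card_sol_le`, `card_sol_three` : the vectors `f` with `B(f, aᵏ f) = 2 c δ` for the seven-cycle `a`;
* `exists_ham` : a binary code of length eight with weights `0, 4, 8` which separates the coordinates;
* `num` : the numerical inequality.
-/

set_option autoImplicit false

namespace Cfsg.Agent.N2C.D4.GN4

open Module

/-! ### the equations -/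

/-- the four equations -/
def Eqs {R : Type} [CommRing R] (a b c d e f g h : R) : Prop :=
  a * a + b * b + c * c + d * d + e * e + f * f + g * g + h * h = 1 ∧
  a * a + b * c + c * d + d * e + e * f + f * g + g * h + h * b = 0 ∧
  a * a + b * d + c * e + d * f + e * g + f * h + g * b + h * c = 0 ∧
  a * a + b * e + c * f + d * g + e * h + f * b + g * c + h * d = 0

/-- the solutions -/
def Sol (R : Type) [CommRing R] : Type := {x : Fin 8 → R // Eqs (x 0) (x 1) (x 2) (x 3) (x 4) (x 5) (x 6) (x 7)}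

theorem exists_sgn (F : Type) [Field F] [Fintype F] : ∃ s : F → Bool, ∀ t u, t * t = u * u → s t = s u → t = u := by
  refine ⟨fun t => decide (Fintype.equivFin F t < Fintype.equivFin F (-t)), fun t u h k => ?_⟩
  rcases mul_self_eq_mul_self_iff.1 h with h | h
  · exact h
  · subst h
    simp only [neg_neg, decide_eq_decide] at k
    exact (Fintype.equivFin F).injective (le_antisymm (not_lt.1 fun e => lt_asymm e (k.2 e))
      (not_lt.1 fun e => lt_asymm e (k.1 e)))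

theorem Eqs.sq {R : Type} [CommRing R] {a b c d e f g h : R} (k : Eqs a b c d e f g h) :
    (b + c + d + e + f + g + h) * (b + c + d + e + f + g + h) = 1 - 7 * (a * a) := by
  obtain ⟨h0, h1, h2, h3⟩ := k
  linear_combination h0 + 2 * h1 + 2 * h2 + 2 * h3

theorem card_sol_le (F : Type) [Field F] [Fintype F] (h2 : (2 : F) ≠ 0) :
    Nat.card (Sol F) ≤ 2 * Fintype.card F ^ 6 + 4 * Fintype.card F ^ 4 := by
  classical
  obtain ⟨s, hs⟩ := exists_sgn F
  let φ : Sol F → ((F × F × F × F × F × F) × Bool) ⊕ ((F × F × F × F) × Bool × Bool) := fun x =>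
    if x.1 4 = x.1 6 ∧ x.1 3 = x.1 7 then
      .inr ((x.1 0, x.1 3, x.1 4, x.1 5), s (x.1 1 + x.1 2 + x.1 3 + x.1 4 + x.1 5 + x.1 6 + x.1 7), s (x.1 1 - x.1 2))
    else .inl ((x.1 0, x.1 3, x.1 4, x.1 5, x.1 6, x.1 7), s (x.1 1 + x.1 2 + x.1 3 + x.1 4 + x.1 5 + x.1 6 + x.1 7))
  have key : ∀ x y : Sol F, x.1 0 = y.1 0 → x.1 1 = y.1 1 → x.1 2 = y.1 2 → x.1 3 = y.1 3 → x.1 4 = y.1 4 →
      x.1 5 = y.1 5 → x.1 6 = y.1 6 → x.1 7 = y.1 7 → x = y := fun x y e0 e1 e2 e3 e4 e5 e6 e7 =>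
    Subtype.ext (funext fun i => by fin_cases i <;> assumption)
  have hφ : Function.Injective φ := fun x y h => by
    have hx := x.2
    have hy := y.2
    by_cases c1 : x.1 4 = x.1 6 ∧ x.1 3 = x.1 7 <;> by_cases c2 : y.1 4 = y.1 6 ∧ y.1 3 = y.1 7
    all_goals first | rw [show φ x = _ from if_pos c1] at h | rw [show φ x = _ from if_neg c1] at h
    all_goals first | rw [show φ y = _ from if_pos c2] at h | rw [show φ y = _ from if_neg c2] at h
    all_goals simp only [reduceCtorEq, Sum.inr.injEq, Sum.inl.injEq, Prod.mk.injEq] at h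
    · obtain ⟨⟨e0, e3, e4, e5⟩, e8, e9⟩ := h
      have e6 : x.1 6 = y.1 6 := c1.1.symm.trans (e4.trans c2.1)
      have e7 : x.1 7 = y.1 7 := c1.2.symm.trans (e3.trans c2.2)
      have k1 := hs _ _ (by rw [hx.sq, hy.sq, e0]) e8
      have k2 : x.1 1 + x.1 2 = y.1 1 + y.1 2 := by linear_combination k1 - e3 - e4 - e5 - e6 - e7
      have k3 := hs _ _ (by
        have := hx.1.trans hy.1.symm
        rw [e0, e3, e4, e5, e6, e7] at this
        linear_combination 2 * this - (x.1 1 + x.1 2 + y.1 1 + y.1 2) * k2) e9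
      refine key x y e0 (mul_left_cancel₀ h2 ?_) (mul_left_cancel₀ h2 ?_) e3 e4 e5 e6 e7
      · linear_combination k2 + k3
      · linear_combination k2 - k3
    · obtain ⟨⟨e0, e3, e4, e5, e6, e7⟩, e8⟩ := h
      have k1 := hs _ _ (by rw [hx.sq, hy.sq, e0]) e8
      have k2 : x.1 1 + x.1 2 = y.1 1 + y.1 2 := by linear_combination k1 - e3 - e4 - e5 - e6 - e7
      have k3 : x.1 1 = y.1 1 := by
        by_contra k
        obtain ⟨-, -, a2, a3⟩ := hx
        obtain ⟨-, -, b2, b3⟩ := hy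
        rw [← e0, ← e3, ← e4, ← e5, ← e6, ← e7] at b2 b3
        have k4 : x.1 4 = x.1 6 := mul_left_cancel₀ (sub_ne_zero.2 k) (by
          linear_combination a3 - b3 - (x.1 5 + x.1 6) * k2)
        exact c1 ⟨k4, mul_left_cancel₀ (sub_ne_zero.2 k) (by
          linear_combination a2 - b2 - (x.1 4 + x.1 7) * k2 + (x.1 1 - y.1 1) * k4)⟩
      exact key x y e0 k3 (by linear_combination k2 - k3) e3 e4 e5 e6 e7
  refine (Nat.card_le_card_of_injective φ hφ).trans (le_of_eq ?_)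
  simp only [Nat.card_eq_fintype_card, Fintype.card_sum, Fintype.card_prod, Fintype.card_bool]
  ring

private def chk (a b c d e f g h : ℕ) : Bool :=
  Nat.beq ((a * a + b * b + c * c + d * d + e * e + f * f + g * g + h * h) % 3) 1 &&
  (Nat.beq ((a * a + b * c + c * d + d * e + e * f + f * g + g * h + h * b) % 3) 0 &&
  (Nat.beq ((a * a + b * d + c * e + d * f + e * g + f * h + g * b + h * c) % 3) 0 &&
  Nat.beq ((a * a + b * e + c * f + d * g + e * h + f * b + g * c + h * d) % 3) 0))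

private def chkN (n : ℕ) : Bool :=
  chk (n % 3) (n / 3 % 3) (n / 9 % 3) (n / 27 % 3) (n / 81 % 3) (n / 243 % 3) (n / 729 % 3) (n / 2187 % 3)

private theorem cntN : ((Finset.range 6561).filter (fun n => chkN n = true)).card = 112 := by
  decide +kernel

private theorem chk_of {a b c d e f g h : ZMod 3} (k : Eqs a b c d e f g h) :
    chk a.val b.val c.val d.val e.val f.val g.val h.val = true := by
  obtain ⟨h0, h1, h2, h3⟩ := k
  have z : ∀ (n m : ℕ), (n : ZMod 3) = (m : ZMod 3) → n % 3 = m % 3 := fun n m => (ZMod.natCast_eq_natCast_iff' n m 3).1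
  simp only [chk, Bool.and_eq_true, Nat.beq_eq]
  refine ⟨z _ 1 ?_, z _ 0 ?_, z _ 0 ?_, z _ 0 ?_⟩ <;>
    simp only [Nat.cast_add, Nat.cast_mul, ZMod.natCast_zmod_val, Nat.cast_one, Nat.cast_zero] <;> assumption

private theorem enc_dig {a b c d e f g h n : ℕ} (ha : a < 3) (hb : b < 3) (hc : c < 3) (hd : d < 3) (he : e < 3)
    (hf : f < 3) (hg : g < 3) (hh : h < 3)
    (hn : n = a + 3 * b + 9 * c + 27 * d + 81 * e + 243 * f + 729 * g + 2187 * h) :
    n < 6561 ∧ n % 3 = a ∧ n / 3 % 3 = b ∧ n / 9 % 3 = c ∧ n / 27 % 3 = d ∧ n / 81 % 3 = e ∧ n / 243 % 3 = f ∧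
      n / 729 % 3 = g ∧ n / 2187 % 3 = h := by
  refine ⟨?_, ?_, ?_, ?_, ?_, ?_, ?_, ?_, ?_⟩ <;> omega

theorem card_sol_three (F : Type) [Field F] [Fintype F] (h3 : Fintype.card F = 3) : Nat.card (Sol F) ≤ 112 := by
  let r := (ZMod.ringEquivOfPrime F Nat.prime_three h3).symm
  have dg := fun x : Sol F => enc_dig (r (x.1 0)).val_lt (r (x.1 1)).val_lt (r (x.1 2)).val_lt (r (x.1 3)).val_lt
    (r (x.1 4)).val_lt (r (x.1 5)).val_lt (r (x.1 6)).val_lt (r (x.1 7)).val_lt rfl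
  rw [← cntN, ← Fintype.card_coe, ← Nat.card_eq_fintype_card]
  refine Nat.card_le_card_of_injective (fun x : Sol F => ⟨_, Finset.mem_filter.2 ⟨Finset.mem_range.2 (dg x).1, ?_⟩⟩)
    fun x y h => ?_
  · obtain ⟨h0, h1, h2, h3⟩ := x.2
    obtain ⟨-, d0, d1, d2, d3, d4, d5, d6, d7⟩ := dg x
    rw [chkN, d0, d1, d2, d3, d4, d5, d6, d7]
    refine chk_of ⟨?_, ?_, ?_, ?_⟩
    · simpa only [map_add, map_mul, map_one] using congrArg r h0
    · simpa only [map_add, map_mul, map_zero] using congrArg r h1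
    · simpa only [map_add, map_mul, map_zero] using congrArg r h2
    · simpa only [map_add, map_mul, map_zero] using congrArg r h3
  · obtain ⟨-, d0, d1, d2, d3, d4, d5, d6, d7⟩ := dg x
    obtain ⟨-, c0, c1, c2, c3, c4, c5, c6, c7⟩ := dg y
    have h' := congrArg Subtype.val h
    dsimp only at h'
    rw [h'] at d0 d1 d2 d3 d4 d5 d6 d7
    have k : ∀ i, (r (y.1 i)).val = (r (x.1 i)).val → x.1 i = y.1 i := fun i e =>
      r.injective (ZMod.val_injective 3 e.symm)
    have e0 := k 0 (c0.symm.trans d0)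
    have e1 := k 1 (c1.symm.trans d1)
    have e2 := k 2 (c2.symm.trans d2)
    have e3 := k 3 (c3.symm.trans d3)
    have e4 := k 4 (c4.symm.trans d4)
    have e5 := k 5 (c5.symm.trans d5)
    have e6 := k 6 (c6.symm.trans d6)
    have e7 := k 7 (c7.symm.trans d7)
    exact Subtype.ext (funext fun i => by fin_cases i <;> assumption)

/-! ### numbers -/

theorem num {q n : ℕ} (hq : 5 ≤ q)
    (h : 4 * n = q ^ 12 * (q ^ 4 - 1) * ((q ^ 2 - 1) * (q ^ 4 - 1) * (q ^ 6 - 1))) :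
    (2 * q ^ 6 + 4 * q ^ 4) ^ 3 * 430080 ≤ n * 2 := by
  obtain ⟨u, hu⟩ : ∃ u, q ^ 2 = u + 25 := Nat.exists_eq_add_of_le' (Nat.pow_le_pow_left hq 2)
  have e4 : q ^ 4 = (u + 25) ^ 2 := by rw [← hu]; ring
  have e6 : q ^ 6 = (u + 25) ^ 3 := by rw [← hu]; ring
  have e12 : q ^ 12 = (u + 25) ^ 6 := by rw [← hu]; ring
  have k2 : 24 ≤ q ^ 2 - 1 := by omega
  have k4 : 624 ≤ q ^ 4 - 1 := by
    have := Nat.pow_le_pow_left hq 4
    omega
  have k6 : q ^ 6 - 1 = u ^ 3 + 75 * u ^ 2 + 1875 * u + 15624 := by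
    rw [e6]
    exact Nat.sub_eq_of_eq_add (by ring)
  have k : q ^ 12 * 624 * (24 * 624 * (q ^ 6 - 1)) ≤ 4 * n := by
    rw [h]
    gcongr
  have k' : (2 * q ^ 6 + 4 * q ^ 4) ^ 3 * 430080 * 2 = q ^ 12 * (6881280 * (u + 27) ^ 3) := by
    rw [e4, e6, e12]
    ring
  have k'' : 6881280 * (u + 27) ^ 3 ≤ 624 * (24 * 624 * (q ^ 6 - 1)) := by
    rw [k6]
    have : 624 * (24 * 624 * (u ^ 3 + 75 * u ^ 2 + 1875 * u + 15624)) = 6881280 * (u + 27) ^ 3 +
      (2463744 * u ^ 3 + 143493120 * u ^ 2 + 2472560640 * u + 10562420736) := by ring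
    omega
  have := Nat.mul_le_mul_left (q ^ 12) k''
  rw [← k', ← mul_assoc] at this
  omega

/-! ### the code -/

/-- the sign -/
def sg (R : Type) [Ring R] (a : ZMod 2) : R := if a = 0 then 1 else -1

theorem sg_zero {R : Type} [Ring R] : sg R 0 = 1 := if_pos rfl

theorem sg_one {R : Type} [Ring R] : sg R 1 = -1 := if_neg (by decide)

theorem z2 (a : ZMod 2) : a = 0 ∨ a = 1 := by revert a; decide

theorem sg_add {R : Type} [Ring R] (a b : ZMod 2) : sg R (a + b) = sg R a * sg R b := by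
  rcases z2 a with rfl | rfl <;> rcases z2 b with rfl | rfl
  · simp [sg_zero]
  · simp [sg_zero]
  · simp [sg_zero]
  · rw [show (1 + 1 : ZMod 2) = 0 from rfl, sg_zero, sg_one, neg_mul_neg, one_mul]

theorem sg_sq {R : Type} [Ring R] (a : ZMod 2) : sg R a * sg R a = 1 := by
  rw [← sg_add, show a + a = 0 by revert a; decide, sg_zero]

theorem sg_inj {R : Type} [Ring R] (h2 : (2 : R) ≠ 0) {a b : ZMod 2} (h : sg R a = sg R b) : a = b := by
  have k : (1 : R) ≠ -1 := fun e => h2 (by rw [← one_add_one_eq_two]; exact add_eq_zero_iff_eq_neg.2 e)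
  rcases z2 a with rfl | rfl <;> rcases z2 b with rfl | rfl
  · rfl
  · exact absurd (sg_zero.symm.trans (h.trans sg_one)) k
  · exact absurd (sg_zero.symm.trans (h.symm.trans sg_one)) k
  · rfl

theorem exists_sg {F : Type} [Field F] {c : F} (h : c * c = 1) : ∃ a, c = sg F a := by
  rcases mul_self_eq_one_iff.1 h with h | h
  exacts [⟨0, h.trans sg_zero.symm⟩, ⟨1, h.trans sg_one.symm⟩]

/-- the extended Hamming code -/
def Ham (w : Fin 8 → ZMod 2) : Prop :=
  w 4 = w 0 + w 1 + w 2 ∧ w 5 = w 0 + w 2 + w 3 ∧ w 6 = w 1 + w 2 + w 3 ∧ w 7 = w 0 + w 1 + w 3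

/-- the points of the affine space -/
def lam : Fin 8 → Fin 3 → ZMod 2 :=
  ![![0, 0, 0], ![1, 0, 0], ![0, 1, 0], ![0, 0, 1], ![1, 1, 0], ![0, 1, 1], ![1, 1, 1], ![1, 0, 1]]

theorem lam_inj : Function.Injective lam := by decide

theorem ham_lam (c : ZMod 2) (u : Fin 3 → ZMod 2) : Ham fun i => c + ∑ k, u k * lam i k := by
  unfold Ham
  revert c u
  decide

theorem Ham.ext {w w' : Fin 8 → ZMod 2} (h : Ham w) (h' : Ham w') (e : ∀ k : Fin 4, w (k.castLE (by decide)) = w' (k.castLE (by decide))) :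
    w = w' := by
  have e0 : w 0 = w' 0 := e 0
  have e1 : w 1 = w' 1 := e 1
  have e2 : w 2 = w' 2 := e 2
  have e3 : w 3 = w' 3 := e 3
  obtain ⟨a4, a5, a6, a7⟩ := h
  obtain ⟨b4, b5, b6, b7⟩ := h'
  rw [e0, e1, e2, ← b4] at a4
  rw [e0, e2, e3, ← b5] at a5
  rw [e1, e2, e3, ← b6] at a6
  rw [e0, e1, e3, ← b7] at a7
  exact funext fun i => by fin_cases i <;> assumption

theorem ham_sep {i j : Fin 8} (h : ∀ w, Ham w → w i = w j) : i = j := by
  refine lam_inj (funext fun k => ?_)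
  simpa [Pi.single_apply] using h _ (ham_lam 0 (Pi.single k 1))

/-- the seven-cycle -/
def cy : Equiv.Perm (Fin 8) := ⟨![0, 2, 3, 4, 5, 6, 7, 1], ![0, 7, 1, 2, 3, 4, 5, 6], by decide, by decide⟩

theorem cy_pow : cy ^ 7 = 1 := by decide

theorem Ham.cy {w : Fin 8 → ZMod 2} (h : Ham w) : Ham (w ∘ cy.symm) := by
  unfold Ham at h ⊢
  revert w
  decide +kernel

theorem sum_sg (w : Fin 8 → ZMod 2) (h : Fintype.card {i // w i = 0} = 4) : ∑ i, sg ℤ (w i) = 0 := by
  revert w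
  decide +kernel

/-- **the code is the Hamming code** -/
theorem exists_ham (C : Submodule (ZMod 2) (Fin 8 → ZMod 2)) (h1 : (fun _ => 1) ∈ C)
    (hw : ∀ w ∈ C, (∀ i, w i = w 0) ∨ Fintype.card {i // w i = 0} = 4) (hs : ∀ i j, i ≠ j → ∃ w ∈ C, w i ≠ w j) :
    ∃ σ : Equiv.Perm (Fin 8), ∀ w, w ∈ C ↔ Ham (w ∘ σ) := by
  classical
  let C0 : Submodule (ZMod 2) (Fin 8 → ZMod 2) := C ⊓ LinearMap.ker (LinearMap.proj 0)
  have m0 : ∀ w ∈ C, w - w 0 • (fun _ => 1) ∈ C0 := fun w hw => ⟨C.sub_mem hw (C.smul_mem _ h1), by simp⟩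
  have hs0 : ∀ i j, i ≠ j → ∃ w : C0, w.1 i ≠ w.1 j := fun i j h => by
    obtain ⟨w, hw, e⟩ := hs i j h
    exact ⟨⟨_, m0 w hw⟩, by simpa using e⟩
  have z0 : ∀ w : C0, w.1 0 = 0 := fun w => w.2.2
  have := Fintype.ofFinite C0
  have hc : Fintype.card C0 = 8 := by
    have a1 : ∑ w : C0, ∑ i, sg ℤ (w.1 i) = 8 := by
      rw [Finset.sum_eq_single 0 (fun w _ h => ?_) (by simp)]
      · simp [sg_zero]
      · refine sum_sg _ ((hw _ w.2.1).resolve_left fun k => h (Subtype.ext (funext fun i => (k i).trans (z0 w))))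
    rw [Finset.sum_comm, Finset.sum_eq_single 0 (fun i _ h => ?_) (by simp)] at a1
    · simp only [z0, sg_zero, Finset.sum_const, Finset.card_univ, nsmul_eq_mul, mul_one] at a1
      exact_mod_cast a1
    · obtain ⟨v, hv⟩ := hs0 i 0 h
      have a2 : v.1 i = 1 := (z2 _).resolve_left (z0 v ▸ hv)
      have a3 := Equiv.sum_comp (Equiv.addRight v) fun w : C0 => sg ℤ (w.1 i)
      simp only [Equiv.coe_addRight, Submodule.coe_add, Pi.add_apply, sg_add, a2, sg_one, mul_neg, mul_one,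
        Finset.sum_neg_distrib] at a3
      omega
  have hd : finrank (ZMod 2) C0 = 3 := by
    have := Module.card_eq_pow_finrank (K := ZMod 2) (V := C0)
    rw [hc, ZMod.card] at this
    exact Nat.pow_right_injective le_rfl this.symm
  let β := finBasisOfFinrankEq (ZMod 2) C0 hd
  let μ : Fin 8 → Fin 3 → ZMod 2 := fun i k => (β k).1 i
  have hβ : ∀ (u : Fin 3 → ZMod 2) (i : Fin 8), (∑ k, u k • β k : C0).1 i = ∑ k, u k * μ i k := fun u i => by
    simp [μ, Finset.sum_apply]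
  have hμ : Function.Bijective μ := by
    refine (Fintype.bijective_iff_injective_and_card μ).2 ⟨fun i j h => by_contra fun k => ?_, by simp⟩
    obtain ⟨w, hw⟩ := hs0 i j k
    rw [← β.sum_repr w, hβ, hβ, h] at hw
    exact hw rfl
  have hl : Function.Bijective lam := (Fintype.bijective_iff_injective_and_card lam).2 ⟨lam_inj, by simp⟩
  let σ : Equiv.Perm (Fin 8) := (Equiv.ofBijective lam hl).trans (Equiv.ofBijective μ hμ).symm
  have hσ : ∀ i, μ (σ i) = lam i := fun i => (Equiv.ofBijective μ hμ).apply_symm_apply (lam i)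
  have k : ∀ (c : ZMod 2) (u : Fin 3 → ZMod 2), (c • (fun _ => 1) + (∑ k, u k • β k : C0).1 : Fin 8 → ZMod 2) ∘ σ =
      fun i => c + ∑ k, u k * lam i k := fun c u => funext fun i => by
    rw [Function.comp_apply, Pi.add_apply, hβ, hσ, Pi.smul_apply, smul_eq_mul, mul_one]
  refine ⟨σ, fun w => ⟨fun h => ?_, fun h => ?_⟩⟩
  · have := ham_lam (w 0) (β.repr ⟨_, m0 w h⟩)
    rwa [← k, β.sum_repr, add_sub_cancel] at this
  · have e := h.ext (ham_lam (w (σ 0)) ![w (σ 1) - w (σ 0), w (σ 2) - w (σ 0), w (σ 3) - w (σ 0)]) fun j => by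
      fin_cases j <;> simp [lam, Fin.sum_univ_three]
    rw [← k] at e
    rw [σ.surjective.injective_comp_right e]
    exact C.add_mem (C.smul_mem _ h1) (Subtype.property (p := (· ∈ C0)) _).1

end Cfsg.Agent.N2C.D4.GN4

private theorem dce_bf01a278ac9c : _root_.True := by
  try have : _root_.True := by simp only [_root_.Cfsg.Agent.N2C.D4.GN4.lam.eq_1]
  exact _root_.True.intro
end

-- part: N2/Ex/K/C4Lin
section
prune_inst 0x10000000000000
set_option linter.all false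
open scoped Cfsg.Agent.FastGrp

/-!
# S3519, exceptional groups, box (K): linear algebra for the cofixed space of `F₄`, `p = 2` (helper68)

`ρ` is a matrix representation, `α` an automorphism of the group, `S ρ(g) = ρ(α g) S` (the shift onto the short ideal),
`B` an invariant symmetric form whose radical is the kernel and the image of `S`.
-/

set_option autoImplicit false
set_option linter.unusedSectionVars false

namespace Cfsg.Agent.N2.Ex.K.C4

open Matrix Module

variable {ι K : Type} [Fintype ι] [DecidableEq ι] [Field K]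

/-- the matrix of a partial map -/
def pm (K : Type) [Field K] (φ : ι → Option ι) : Matrix ι ι K := of fun a c => if φ a = some c then 1 else 0

theorem pm_mulVec (φ : ι → Option ι) (v : ι → K) (a : ι) : (pm K φ *ᵥ v) a = (φ a).elim 0 v := by
  rcases h : φ a with _ | b <;> simp [pm, mulVec, dotProduct, h]

theorem pm_mul (φ ψ : ι → Option ι) : pm K φ * pm K ψ = pm K fun a => (φ a).bind ψ := by
  ext a c
  refine (pm_mulVec φ (fun j => pm K ψ j c) a).trans ?_
  rcases h : φ a with _ | b <;> simp [pm, h]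

theorem pm_tr {φ ψ : ι → Option ι} (h : ∀ a c, φ a = some c ↔ ψ c = some a) : (pm K φ)ᵀ = pm K ψ := by
  ext a c
  simp only [pm, transpose_apply, of_apply, h]

theorem pm_add {φ ψ : ι → Option ι} (h : ∀ a, φ a = some a ∧ ψ a = none ∨ φ a = none ∧ ψ a = some a) :
    pm K φ + pm K ψ = 1 := by
  ext a c
  rcases h a with ⟨h1, h2⟩ | ⟨h1, h2⟩ <;> simp [pm, h1, h2, one_apply]

variable {G : Type} [Group G] (ρ : G →* Matrix ι ι K) (α : MulAut G) (S B : Matrix ι ι K)

/-- the data -/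
structure Dat : Prop where
  s : ∀ g, ρ (α g) * S = S * ρ g
  b : ∀ g, (ρ g)ᵀ * B * ρ g = B
  i1 : S * B * B = S
  i2 : B * B + S * Sᵀ = 1
  i3 : Sᵀ * S = B * B
  i4 : Bᵀ = B

/-- the invariant functionals -/
def Iv (Z : Set G) : Submodule K (ι → K) where
  carrier := {f | ∀ z ∈ Z, (ρ z)ᵀ *ᵥ f = f}
  zero_mem' _ _ := mulVec_zero _
  add_mem' hv hw z hz := by rw [mulVec_add, hv z hz, hw z hz]
  smul_mem' c v hv z hz := by rw [mulVec_smul, hv z hz]

/-- the invariant functionals which vanish on the ideal -/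
def Wv (Z : Set G) : Submodule K (ι → K) where
  carrier := {f | f ∈ Iv ρ Z ∧ B *ᵥ (B *ᵥ f) = f}
  zero_mem' := ⟨zero_mem _, by rw [mulVec_zero, mulVec_zero]⟩
  add_mem' hv hw := ⟨add_mem hv.1 hw.1, by rw [mulVec_add, mulVec_add, hv.2, hw.2]⟩
  smul_mem' c v hv := ⟨Submodule.smul_mem _ c hv.1, by rw [mulVec_smul, mulVec_smul, hv.2]⟩

variable {ρ α S B} {Z : Set G}

theorem tr_inj (z : G) {u v : ι → K} (h : (ρ z)ᵀ *ᵥ u = (ρ z)ᵀ *ᵥ v) : u = v := by
  have h1 := congrArg ((ρ z⁻¹)ᵀ *ᵥ ·) h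
  simpa only [mulVec_mulVec, ← transpose_mul, ← map_mul, mul_inv_cancel, map_one, transpose_one, one_mulVec] using h1

theorem Dat.fix (d : Dat ρ α S B) {f : ι → K} (hf : f ∈ Wv ρ B Z) {z : G} (hz : z ∈ Z) :
    ρ (α z) *ᵥ (S *ᵥ (B *ᵥ f)) = S *ᵥ (B *ᵥ f) := by
  have h1 : B *ᵥ (ρ z *ᵥ (B *ᵥ f)) = B *ᵥ (B *ᵥ f) := by
    refine tr_inj (ρ := ρ) z ?_
    rw [mulVec_mulVec, mulVec_mulVec (B *ᵥ f), d.b, hf.2, hf.1 z hz]
  have h2 : ∀ v, S *ᵥ v = (S * B) *ᵥ (B *ᵥ v) := fun v => by rw [mulVec_mulVec, d.i1]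
  rw [mulVec_mulVec, d.s, ← mulVec_mulVec, h2, h1, ← h2]

theorem Dat.inj (d : Dat ρ α S B) {f : ι → K} (hf : f ∈ Wv ρ B Z) (h : S *ᵥ (B *ᵥ f) = 0) : f = 0 := by
  have h1 : B *ᵥ (B *ᵥ (B *ᵥ f)) = 0 := by
    rw [mulVec_mulVec (B *ᵥ f), ← d.i3, ← mulVec_mulVec, h, mulVec_zero]
  rw [hf.2] at h1
  rw [← hf.2, h1, mulVec_zero]

theorem Dat.split (d : Dat ρ α S B) (Z : Set G) :
    finrank K (Iv ρ Z) ≤ finrank K (Wv ρ B (α ⁻¹' Z)) + finrank K (Wv ρ B Z) := by
  rw [← LinearMap.finrank_range_add_finrank_ker ((toLin' Sᵀ).domRestrict (Iv ρ Z))]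
  refine add_le_add (Submodule.finrank_mono ?_) ?_
  · rintro _ ⟨⟨f, hf⟩, rfl⟩
    refine ⟨fun z hz => ?_, ?_⟩
    · show (ρ z)ᵀ *ᵥ (Sᵀ *ᵥ f) = Sᵀ *ᵥ f
      rw [mulVec_mulVec, ← transpose_mul, ← d.s, transpose_mul, ← mulVec_mulVec, hf _ hz]
    · show B *ᵥ (B *ᵥ (Sᵀ *ᵥ f)) = Sᵀ *ᵥ f
      have h1 := congrArg transpose d.i1
      rw [transpose_mul, transpose_mul, d.i4] at h1
      rw [mulVec_mulVec f B, mulVec_mulVec, h1]
  · rw [← Submodule.finrank_map_subtype_eq]
    refine Submodule.finrank_mono ?_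
    rintro _ ⟨⟨f, hf⟩, h, rfl⟩
    refine ⟨hf, ?_⟩
    have h1 : Sᵀ *ᵥ f = 0 := h
    have h2 := congrArg (· *ᵥ f) d.i2
    simp only [add_mulVec, ← mulVec_mulVec, h1, mulVec_zero, add_zero, one_mulVec] at h2
    exact h2

/-- the bound for a fixed space which is conjugate into a space meeting the ideal in dimension two -/
theorem Dat.le_two (d : Dat ρ α S B) (g : G) (i j : ι)
    (h : ∀ v, (∀ z ∈ Z, ρ (α z) *ᵥ v = v) → ∀ u, ρ g *ᵥ v = S *ᵥ u → (S *ᵥ u) i = 0 → (S *ᵥ u) j = 0 → S *ᵥ u = 0) :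
    finrank K (Wv ρ B Z) ≤ 2 := by
  let θ : (ι → K) →ₗ[K] K × K := (LinearMap.proj i).prod (LinearMap.proj j) ∘ₗ toLin' (ρ g * S * B)
  have h1 : Function.Injective (θ.domRestrict (Wv ρ B Z)) := by
    rw [injective_iff_map_eq_zero]
    rintro ⟨f, hf⟩ h0
    have h2 : ρ g *ᵥ (S *ᵥ (B *ᵥ f)) = S *ᵥ (ρ (α⁻¹ g) *ᵥ (B *ᵥ f)) := by
      rw [mulVec_mulVec, mulVec_mulVec (B *ᵥ f), ← d.s, MulAut.apply_inv_self]
    have h3 : (ρ g * S * B) *ᵥ f = S *ᵥ (ρ (α⁻¹ g) *ᵥ (B *ᵥ f)) := by rw [← h2, mulVec_mulVec, mulVec_mulVec]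
    have h4 := h _ (fun z hz => d.fix hf hz) _ h2 (h3 ▸ congrArg Prod.fst h0) (h3 ▸ congrArg Prod.snd h0)
    have h5 := congrArg (ρ g⁻¹ *ᵥ ·) (h2.trans h4)
    simp only [mulVec_mulVec _ (ρ g⁻¹), ← map_mul, inv_mul_cancel, map_one, one_mulVec, mulVec_zero] at h5
    exact Subtype.ext (d.inj hf h5)
  simpa using LinearMap.finrank_le_finrank_of_injective h1

/-- the cofixed space is dual to the space of invariant functionals -/
theorem quot_le {C : Submodule K (ι → K)} (h : ∀ z ∈ Z, ∀ v, ρ z *ᵥ v - v ∈ C) :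
    finrank K ((ι → K) ⧸ C) ≤ finrank K (Iv ρ Z) := by
  rw [(Subspace.quotEquivAnnihilator C).finrank_eq, ← (dotProductEquiv K ι).symm.finrank_map_eq]
  refine Submodule.finrank_mono ?_
  rintro _ ⟨φ, hφ, rfl⟩ z hz
  obtain ⟨f, rfl⟩ := (dotProductEquiv K ι).surjective φ
  have e : ((dotProductEquiv K ι).symm : Dual K (ι → K) →ₗ[K] ι → K) (dotProductEquiv K ι f) = f :=
    (dotProductEquiv K ι).symm_apply_apply f
  rw [e]
  refine dotProduct_eq _ _ fun v => ?_
  have h1 : f ⬝ᵥ (ρ z *ᵥ v - v) = 0 := (Submodule.mem_dualAnnihilator _).1 hφ _ (h z hz v)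
  rw [dotProduct_sub, sub_eq_zero, dotProduct_mulVec] at h1
  rw [mulVec_transpose, h1]

theorem form_entry (M : Matrix ι ι K) (a c : ι) :
    (Mᵀ * B * M) a c = toLinearMap₂' K B (M *ᵥ Pi.single a 1) (M *ᵥ Pi.single c 1) := by
  rw [toLinearMap₂'_apply', mulVec_single_one, mulVec_single_one, Matrix.mul_assoc, mul_apply]
  rfl

end Cfsg.Agent.N2.Ex.K.C4

private theorem dce_c146f599884a : _root_.True := by
  try have : _root_.True := by simp only [_root_.Cfsg.Agent.N2.Ex.K.C4.pm.eq_1]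
  exact _root_.True.intro
end

-- part: N2/Ex/Mu/Num/E9
section
prune_inst 0xc5600640004000000000000240003c06c0000190002b0000d9400c460c063b220d002f2044801c001868a2800000004000000070405000000e0004000000000008aa5204b33cac04100096803083580c00000000000000000000000000051004000000000
set_option linter.all false
open scoped Cfsg.Agent.FastGrp

/-!
# A simple group of order 360, 6048 or 25920 has a subgroup `3 ^ 2` (helper69)
-/

set_option autoImplicit false
set_option linter.unusedSectionVars false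

namespace Cfsg.Agent.N2.Ex.Mu.E69

open Subgroup MulAction

variable {G : Type} [Group G]

/-- the normaliser of the group generated by `s` -/
def NN (s : G) : Subgroup G where
  carrier := {g | MulAut.conj g s = s ∨ MulAut.conj g s = s⁻¹}
  one_mem' := .inl (by simp)
  mul_mem' := by
    rintro a b (h | h) (k | k) <;> simp only [Set.mem_ofPred_eq, map_mul, MulAut.mul_apply, k, map_inv, h, inv_inv, true_or, or_true]
  inv_mem' := by
    rintro a (h | h)
    · exact .inl (by rw [map_inv, MulAut.inv_def, MulEquiv.symm_apply_eq, h])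
    · exact .inr (by rw [map_inv, MulAut.inv_def, MulEquiv.symm_apply_eq, map_inv, h, inv_inv])

theorem mem_NN {s g : G} : g ∈ NN s ↔ MulAut.conj g s = s ∨ MulAut.conj g s = s⁻¹ := Iff.rfl

theorem ne_inv {s : G} (hs : orderOf s = 3) : s ≠ s⁻¹ := fun h => by
  have : orderOf s ∣ 2 := orderOf_dvd_of_pow_eq_one (by rw [pow_two, ← eq_inv_iff_mul_eq_one]; exact h)
  rw [hs] at this
  exact absurd this (by decide)

theorem of_comm {s g : G} (h : g * s = s * g) : g ∈ NN s := .inl (by rw [MulAut.conj_apply, h, mul_inv_cancel_right])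

variable [Finite G] (H : ∀ a b : G, orderOf a = 3 → orderOf b = 3 → a * b = b * a → b = a ∨ b = a⁻¹) {s : G} (hs : orderOf s = 3)
include H hs

theorem three {u : G} (hu : orderOf u = 3) (h : u ∈ NN s) : u = s ∨ u = s⁻¹ := by
  rcases h with h | h
  · exact H s u hs hu (by rw [MulAut.conj_apply, mul_inv_eq_iff_eq_mul] at h; exact h.symm)
  · refine absurd ?_ (ne_inv hs)
    have h1 : MulAut.conj (u * (u * u)) s = s⁻¹ := by simp only [map_mul, MulAut.mul_apply, h, map_inv, inv_inv]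
    rwa [← pow_three, ← hu, pow_orderOf_eq_one, map_one, MulAut.one_apply] at h1

theorem free {P : Subgroup G} (hP : IsPGroup 3 P) (hz : ∀ y ∈ P, y * s = s * y) (y : P) (hy : y ≠ 1) {ω : G ⧸ NN s} (h : y • ω = ω) :
    ω = ((1 : G) : G ⧸ NN s) := by
  have := Fact.mk Nat.prime_three
  obtain ⟨g, rfl⟩ := QuotientGroup.mk_surjective ω
  have h1 : 3 ∣ orderOf y := (hP.dvd_orderOf hy)
  have h2 : orderOf ((y ^ (orderOf y / 3) : P) : G) = 3 := by
    rw [orderOf_coe, orderOf_pow_orderOf_div (orderOf_pos y).ne' h1]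
  have h3 : y ^ (orderOf y / 3) ∈ stabilizer P (g : G ⧸ NN s) := pow_mem (mem_stabilizer_iff.2 h) _
  generalize y ^ (orderOf y / 3) = z at h2 h3
  have h4 : MulAut.conj g⁻¹ (z : G) ∈ NN s := by
    have h5 : ((z * g : G) : G ⧸ NN s) = g := h3
    have h6 := QuotientGroup.eq.1 h5.symm
    rwa [MulAut.conj_apply, inv_inv, mul_assoc]
  have h5 := three H hs (by rw [MulEquiv.orderOf_eq, h2]) h4
  rw [QuotientGroup.eq, mul_one, mem_NN]
  rcases H s z hs h2 (hz z z.2).symm with k | k <;> rw [k] at h5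
  · exact h5
  · rw [map_inv, inv_inj, inv_eq_iff_eq_inv] at h5
    exact h5.symm

omit hs in
theorem main [IsSimpleGroup G] (hc : ¬ IsMulCommutative G) (h : Nat.card G = 360 ∨ Nat.card G = 6048 ∨ Nat.card G = 25920) : False := by
  classical
  have := Fact.mk Nat.prime_three
  have := Fact.mk Nat.prime_two
  obtain ⟨P⟩ : Nonempty (Sylow 3 G) := inferInstance
  have hP := P.card_eq_multiplicity
  have hP3 : Nat.card G = 360 ∧ Nat.card P = 9 ∨ Nat.card G = 6048 ∧ Nat.card P = 27 ∨ Nat.card G = 25920 ∧ Nat.card P = 81 := by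
    have e : ∀ k m, ¬ 3 ∣ m → Nat.card G = 3 ^ k * m → Nat.card P = 3 ^ k := fun k m h1 h2 => by
      rw [hP, h2, Nat.factorization_mul (by positivity) (show m ≠ 0 from fun h0 => h1 (h0 ▸ dvd_zero 3)), Nat.prime_three.factorization_pow,
        Finsupp.add_apply, Finsupp.single_eq_same, Nat.factorization_eq_zero_of_not_dvd h1, add_zero]
    exact h.imp (fun k => ⟨k, e 2 40 (by decide) k⟩) (Or.imp (fun k => ⟨k, e 3 224 (by decide) k⟩) fun k => ⟨k, e 4 320 (by decide) k⟩)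
  have : Nontrivial P := Finite.one_lt_card_iff_nontrivial.1 (by omega)
  have := P.2.center_nontrivial
  obtain ⟨s₀, hs₀⟩ := exists_prime_orderOf_dvd_card' (G := center P) 3
    ((P.2.to_subgroup _).card_eq_or_dvd.resolve_left Finite.one_lt_card.ne')
  obtain ⟨s, hsP, hs, hz⟩ : ∃ s ∈ (P : Subgroup G), orderOf s = 3 ∧ ∀ y ∈ (P : Subgroup G), y * s = s * y :=
    ⟨s₀.1.1, s₀.1.2, by rw [orderOf_coe, orderOf_coe, hs₀], fun y hy => congrArg Subtype.val (mem_center_iff.1 s₀.2 ⟨y, hy⟩)⟩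
  have hcy : IsCyclic P := by
    have e : ∀ A : Subgroup P, Nat.card A = 3 → A = zpowers ⟨s, hsP⟩ := fun A hA => by
      obtain ⟨a, ha⟩ := exists_prime_orderOf_dvd_card' (G := A) 3 hA.symm.dvd
      refine (eq_of_le_of_card_ge (zpowers_le.2 ?_) (by rw [hA, Nat.card_zpowers, orderOf_mk, hs])).symm
      rcases H a.1.1 s (by rw [orderOf_coe, orderOf_coe, ha]) hs (hz _ a.1.2) with k | k
      · exact (Subtype.ext k : (⟨s, hsP⟩ : P) = a.1) ▸ a.2
      · exact (Subtype.ext k : (⟨s, hsP⟩ : P) = a.1⁻¹) ▸ inv_mem a.2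
    exact (S0016.result 3 P.2 fun A B hA hB => (e A hA).trans (e B hB).symm).resolve_right fun k => absurd k.1 (by decide)
  have fix : ∀ g ∈ NN s, g • ((1 : G) : G ⧸ NN s) = ((1 : G) : G ⧸ NN s) := fun g hg =>
    QuotientGroup.eq.2 (by simpa using hg)
  have hPN : (P : Subgroup G) ≤ NN s := fun y hy => of_comm (hz y hy)
  have i1 := card_eq_card_quotient_mul_card_subgroup (NN s)
  obtain ⟨m, hm⟩ := card_dvd_of_le hPN
  have i2 : Nat.card P ∣ Nat.card (G ⧸ NN s) + (Nat.card P - 1) := by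
    have := Fintype.ofFinite P
    have := Fintype.ofFinite (G ⧸ NN s)
    have := Fintype.ofFinite (Quotient (orbitRel P (G ⧸ NN s)))
    have k := sum_card_fixedBy_eq_card_orbits_mul_card_group P (G ⧸ NN s)
    have e : ∀ y ∈ Finset.univ.erase (1 : P), Fintype.card (fixedBy (G ⧸ NN s) y) = 1 := fun y hy => Fintype.card_eq_one_iff.2
      ⟨⟨_, fix y (hPN y.2)⟩, fun ω => Subtype.ext (free H hs P.2 hz y (Finset.ne_of_mem_erase hy) ω.2)⟩
    rw [← Finset.add_sum_erase _ _ (Finset.mem_univ 1)] at k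
    replace k := (congrArg _ (Finset.sum_congr rfl e)).symm.trans k
    rw [Finset.sum_const, Finset.card_erase_of_mem (Finset.mem_univ _), Finset.card_univ, smul_eq_mul, mul_one] at k
    simp only [← Nat.card_eq_fintype_card, fixedBy_one_eq_univ, Nat.card_univ] at k
    exact Dvd.intro_left _ k.symm
  have ker : ∀ g : G, (∀ ω : G ⧸ NN s, g • ω = ω) → g = 1 ∨ NN s = ⊤ := fun g hg => by
    rcases (inferInstance : (NN s).normalCore.Normal).eq_bot_or_eq_top with k | k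
    · refine .inl (mem_bot.1 (k ▸ ?_))
      rw [normalCore_eq_ker]
      exact Equiv.ext hg
    · exact .inr (top_le_iff.1 (k ▸ normalCore_le _))
  have nt : NN s ≠ ⊤ := fun k => by
    have : (zpowers s).Normal := ⟨fun x hx g => by
      obtain ⟨i, rfl⟩ := hx
      rw [← MulAut.conj_apply, map_zpow]
      rcases (k.ge (mem_top g) : g ∈ NN s) with k | k <;> rw [k]
      exacts [zpow_mem (mem_zpowers s) _, zpow_mem (inv_mem (mem_zpowers s)) _]⟩
    have k2 := Nat.card_zpowers s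
    rcases this.eq_bot_or_eq_top with k1 | k1 <;> rw [k1, hs] at k2
    · rw [card_bot] at k2; omega
    · rw [card_top] at k2; omega
  have i3 : Nat.card (G ⧸ NN s) ≠ 1 := fun k => nt (index_eq_one.1 k)
  have i4 : Nat.card (G ⧸ NN s) = Nat.card P + 1 ∧ Nat.card (NN s) ∣ 2 ^ 3 * 3 ^ 3 ∧ 2 * Nat.card P < Nat.card (NN s) := by
    rw [hm] at i1 ⊢
    generalize Nat.card (G ⧸ NN s) = n at i1 i2 i3
    rcases hP3 with ⟨k1, k2⟩ | ⟨k1, k2⟩ | ⟨k1, k2⟩ <;> rw [k1] at i1 <;> rw [k2] at i1 i2 ⊢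
    · have e : n * m = 40 := by linarith
      have := Nat.le_of_dvd (by norm_num) (Dvd.intro _ e)
      interval_cases n <;> first | omega | (obtain rfl : m = 4 := by omega); decide
    · have e : n * m = 224 := by linarith
      obtain ⟨c, hc⟩ := i2
      obtain rfl : n = 27 * (c - 1) + 1 := by omega
      have := Nat.le_of_dvd (by norm_num) (Dvd.intro _ e)
      have : c - 1 ≤ 8 := by omega
      generalize c - 1 = d at *
      interval_cases d <;> first | omega | (obtain rfl : m = 8 := by omega); decide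
    · have e : n * m = 320 := by linarith
      obtain ⟨c, hc⟩ := i2
      obtain rfl : n = 81 * (c - 1) + 1 := by omega
      have := Nat.le_of_dvd (by norm_num) (Dvd.intro _ e)
      have : c - 1 ≤ 3 := by omega
      generalize c - 1 = d at *
      interval_cases d <;> omega
  let C := centralizer ({s} : Set G)
  have hC : ∀ g, g ∈ C ↔ MulAut.conj g s = s := fun g => by
    rw [mem_centralizer_singleton_iff, MulAut.conj_apply, mul_inv_eq_iff_eq_mul]
  have hCN : C ≤ NN s := fun g hg => .inl ((hC g).1 hg)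
  have hPC : (P : Subgroup G) ≤ C := fun y hy => mem_centralizer_singleton_iff.2 (hz y hy)
  have i5 : Nat.card (NN s) ≤ 2 * Nat.card C := by
    have k : C.relIndex (NN s) ∣ 2 := by
      rw [relIndex_dvd_two_iff]
      by_cases k : ∃ a, MulAut.conj a s = s⁻¹
      · obtain ⟨a, k⟩ := k
        refine ⟨a, .inr k, fun b hb => hb.symm.imp (fun hb => (hC _).2 ?_) (hC b).2⟩
        rw [map_mul, MulAut.mul_apply, k, map_inv, hb, inv_inv]
      · exact ⟨1, one_mem _, fun b hb => .inr ((hC b).2 (hb.resolve_right fun e => k ⟨b, e⟩))⟩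
    rw [← (C.subgroupOf (NN s)).index_mul_card, Nat.card_congr (subgroupOfEquivOfLe hCN).toEquiv]
    exact Nat.mul_le_mul_right _ (Nat.le_of_dvd two_pos k)
  let Q := (P : Subgroup G).subgroupOf C
  have eQ := subgroupOfEquivOfLe hPC
  have hQ : IsCyclic Q := isCyclic_of_surjective eQ.symm eQ.symm.surjective
  let _ : CommGroup Q := IsCyclic.commGroup
  let V : C →* Q := MonoidHom.transfer (MonoidHom.id Q)
  have hV : ∀ z : C, orderOf z = 3 → z ∉ V.ker := fun z h1 h2 => by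
    have h3 : (z : G) = s ∨ (z : G) = s⁻¹ := three H hs (by rw [orderOf_coe, h1]) (hCN z.2)
    have h4 : z ∈ Q := by
      rcases h3 with k | k <;> rw [mem_subgroupOf, k]
      exacts [hsP, inv_mem hsP]
    have h5 := Transfer.CentralTransfer.transfer_of_mem_center' (MonoidHom.id Q) ⟨z, h4⟩ (mem_center_iff.2 fun g => Subtype.ext (by
      have := mem_centralizer_singleton_iff.1 g.2
      rcases h3 with k | k <;> rw [coe_mul, coe_mul, k]
      exacts [this, (Commute.inv_right this).eq]))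
    have h6 : orderOf (⟨z, h4⟩ : Q) ∣ Q.index := orderOf_dvd_of_pow_eq_one (h5.symm.trans h2)
    rw [orderOf_mk, h1] at h6
    exact P.not_dvd_index (h6.trans (relIndex_dvd_index_of_le hPC))
  have hK : IsPGroup 2 V.ker := by
    have k1 : (Nat.card V.ker).Coprime (3 ^ 3) := (Nat.Coprime.pow_left 3 ((Nat.Prime.coprime_iff_not_dvd Nat.prime_three).2 fun k => by
      obtain ⟨z, hz⟩ := exists_prime_orderOf_dvd_card' 3 k
      exact hV z (by rw [orderOf_coe, hz]) z.2)).symm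
    obtain ⟨i, -, hi⟩ := (Nat.dvd_prime_pow Nat.prime_two).1
      (k1.dvd_of_dvd_mul_right (((card_subgroup_dvd_card _).trans (card_dvd_of_le hCN)).trans i4.2.1))
    exact .of_card hi
  obtain ⟨ω, h1, h2⟩ := hK.exists_fixed_point_of_prime_dvd_card_of_fixed_point (G ⧸ NN s)
    (by rw [i4.1]; rcases hP3 with k | k | k <;> rw [k.2] <;> decide) (a := ((1 : G) : G ⧸ NN s)) fun k => fix _ (hCN k.1.2)
  have bij : Function.Bijective fun o : Option P => o.elim ((1 : G) : G ⧸ NN s) (· • ω) := by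
    refine (Nat.bijective_iff_injective_and_card _).2 ⟨?_, by rw [Finite.card_option, i4.1]⟩
    have e : ∀ y : P, ((1 : G) : G ⧸ NN s) ≠ y • ω := fun y k => h2 (by
      rw [← inv_smul_eq_iff] at k
      exact (fix _ (hPN y⁻¹.2)).symm.trans k)
    rintro (_ | a) (_ | b) k
    · rfl
    · exact absurd k (e b)
    · exact absurd k.symm (e a)
    · by_contra k1
      refine h2 (free H hs P.2 hz (b⁻¹ * a) (fun k2 => k1 (by rw [inv_mul_eq_one.1 k2])) ?_).symm
      rw [mul_smul, inv_smul_eq_iff]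
      exact k
  have inj : Function.Injective V := (MonoidHom.ker_eq_bot_iff V).1 ((eq_bot_iff_forall _).2 fun k hk => Subtype.ext
    ((ker k fun ω' => by
      obtain ⟨_ | y, rfl⟩ := bij.2 ω'
      · exact fix _ (hCN k.2)
      · have k1 : ((y : G)⁻¹ * k * (y : G)⁻¹⁻¹) • ω = ω :=
          h1 ⟨_, (inferInstance : V.ker.Normal).conj_mem k hk (⟨y, hPC y.2⟩ : C)⁻¹⟩
        rw [inv_inv, mul_smul, mul_smul, inv_smul_eq_iff] at k1
        exact k1).resolve_right nt))
  have i6 := Nat.card_le_card_of_injective V inj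
  rw [Nat.card_congr eQ.toEquiv] at i6
  omega

omit H hs in
/-- **e9** -/
theorem e9_of (h1 : IsSimpleGroup G) (hc : ¬ IsMulCommutative G) (h : Nat.card G = 360 ∨ Nat.card G = 6048 ∨ Nat.card G = 25920) :
    ∃ a b : G, orderOf a = 3 ∧ orderOf b = 3 ∧ a * b = b * a ∧ b ≠ a ∧ b ≠ a⁻¹ := by
  by_contra k
  refine main (fun a b ha hb e => ?_) hc h
  by_contra k1
  exact k ⟨a, b, ha, hb, e, fun x => k1 (.inl x), fun x => k1 (.inr x)⟩

end Cfsg.Agent.N2.Ex.Mu.E69
end

-- part: N2/Ex/K/CoTab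
section
prune_inst 0x21406004646200000018000260001c62e2000092006b00008800004405c90d602d012f21b630011018a2004460340048110000000240000004000000011800800000400083080004200090800004400000000000000000000000000000000000000000000
set_option linter.all false
open scoped Cfsg.Agent.FastGrp

/-!
# S3519, exceptional groups, box (K): the invariant form of the adjoint module (helper68)

`J(h_i, h_j) = A i j`, `J(e_s, e_{-s}) = c s`; `iv_le` compares invariant functionals and fixed vectors of a perfect group.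
-/

set_option autoImplicit false
set_option linter.unusedSectionVars false

namespace Cfsg.Agent.N2.Ex.K.Co

open Matrix Module Cfsg Cfsg.Lie Cfsg.Lie.ChevalleyDatum
open Cfsg.Agent.ChevalleyStructure Cfsg.Agent.ChevalleyStructure.GraphColumns Cfsg.Agent.ChevalleyStructure.Elts
open Cfsg.Agent.H79.SimpleGen Cfsg.Agent.N2.Ex.K.C4
open scoped commutatorElement

set_option maxRecDepth 100000

section Lin

variable {ι K : Type} [Fintype ι] [DecidableEq ι] [Field K] {G : Type} [Group G] {ρ : G →* Matrix ι ι K}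
  {J : Matrix ι ι K}

/-- a perfect group fixes the vectors which it fixes modulo fixed vectors -/
theorem fix_of_perf (h2 : ∀ g v, J *ᵥ v = 0 → ρ g *ᵥ v = v) {Z : Subgroup G} (perf : ⁅Z, Z⁆ = Z) {v : ι → K}
    (hv : ∀ z ∈ Z, J *ᵥ (ρ z *ᵥ v - v) = 0) {z : G} (hz : z ∈ Z) : ρ z *ᵥ v = v := by
  let φ : Z →* Multiplicative (ι → K) := MonoidHom.mk' (fun z => Multiplicative.ofAdd (ρ z *ᵥ v - v)) fun a b => by
    have h := h2 a _ (hv b b.2)
    rw [mulVec_sub, mulVec_mulVec, sub_eq_iff_eq_add] at h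
    rw [← ofAdd_add, Subgroup.coe_mul, map_mul, h]
    congr 1
    abel
  have h1 : ⁅Z, Z⁆ ≤ φ.ker.map Z.subtype := Subgroup.commutator_le.2 fun a ha b hb =>
    ⟨⁅(⟨a, ha⟩ : Z), (⟨b, hb⟩ : Z)⁆, by
      rw [SetLike.mem_coe, MonoidHom.mem_ker, map_commutatorElement, commutatorElement_eq_one_iff_mul_comm, mul_comm], rfl⟩
  obtain ⟨y, hy, rfl⟩ := h1 (perf.ge hz)
  exact sub_eq_zero.1 (Multiplicative.ofAdd.injective (MonoidHom.mem_ker.1 hy))

theorem iv_le (h1 : ∀ g, (ρ g)ᵀ * J * ρ g = J) (h2 : ∀ g v, J *ᵥ v = 0 → ρ g *ᵥ v = v) {Z : Subgroup G}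
    (perf : ⁅Z, Z⁆ = Z) {F : Submodule K (ι → K)} (hF : ∀ v, (∀ z ∈ Z, ρ z *ᵥ v = v) → v ∈ F) :
    finrank K (Iv ρ (Z : Set G)) ≤ finrank K F := by
  have a1 : Iv ρ (Z : Set G) ⊓ LinearMap.range (toLin' J) ≤ F.map (toLin' J) := by
    rintro _ ⟨hf, v, rfl⟩
    refine ⟨v, hF v fun z hz => fix_of_perf h2 perf (fun y hy => ?_) hz, rfl⟩
    rw [mulVec_sub, sub_eq_zero]
    refine tr_inj (ρ := ρ) y ?_
    rw [mulVec_mulVec, mulVec_mulVec v, h1]
    exact (hf y hy).symm
  have a2 : LinearMap.ker (toLin' J) ≤ F := fun v hv => hF v fun z _ => h2 z v hv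
  have b1 := Submodule.finrank_mono a1
  have b2 := Submodule.finrank_sup_add_finrank_inf_eq (Iv ρ (Z : Set G)) (LinearMap.range (toLin' J))
  have b3 := Submodule.finrank_le (Iv ρ (Z : Set G) ⊔ LinearMap.range (toLin' J))
  have b4 := LinearMap.finrank_range_add_finrank_ker (toLin' J)
  have b5 := LinearMap.finrank_range_add_finrank_ker ((toLin' J).domRestrict F)
  rw [LinearMap.range_domRestrict, LinearMap.ker_domRestrict, (Submodule.comapSubtypeEquivOfLe a2).finrank_eq] at b5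
  omega

end Lin

variable (D : ChevalleyDatum) (c : ℕ → ℤ)

/-- the form on the torus -/
def fa (i j : ℕ) : ℤ := (D.cartanSR.getD i #[]).getD (D.simple j) 0 * c (D.simple j)

/-- the entries of the chains -/
def tb (r : ℕ) : List (ℕ × ℕ × ℕ × ℤ) :=
  (D.chain.getD r #[]).toList.flatMap fun e => e.2.toList.zipIdx.map fun q => (e.1, q.1.1, q.2 + 1, q.1.2)

/-- the checks for one root -/
def Ok (r : ℕ) : Prop :=
  D.negIdx.getD r 0 = D.nroots - (r + 1) ∧ D.nroots - (r + 1) ≠ r ∧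
  (∀ q ∈ tb D r, q.2.1 < D.nroots ∧ q.1 ≠ r ∧ q.1 ≠ D.nroots - (r + 1)) ∧
  ((tb D r).map fun q => (D.nroots - (q.2.1 + 1), q.1, q.2.2.1, c (D.nroots - (q.2.1 + 1)) * q.2.2.2)).isPerm
    ((tb D r).map fun q => (q.1, D.nroots - (q.2.1 + 1), q.2.2.1, (-1) ^ q.2.2.1 * q.2.2.2 * c (D.nroots - (q.2.1 + 1)))) =
      true ∧
  ∀ i : Fin D.rank, ∑ j : Fin D.rank, fa D c i j * (D.coroot.getD r #[]).getD j 0 = (D.cartanSR.getD i #[]).getD r 0 * c r

instance (r : ℕ) : Decidable (Ok D c r) := by unfold Ok; infer_instance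

/-- all checks -/
def OkA : Prop := (∀ s < D.nroots, c (D.nroots - (s + 1)) = c s) ∧ (∀ i < D.rank, ∀ j < D.rank, fa D c i j = fa D c j i) ∧
  ∀ i < D.rank, Ok D c (D.simple i) ∧ Ok D c (D.neg (D.simple i))

instance : Decidable (OkA D c) := by unfold OkA; infer_instance

/-- the lengths of the coroots of `F₄` -/
def cF (r : ℕ) : ℤ := [1, 1, 1, 2, 1, 1, 1, 2, 2, 2, 2, 2, 2, 2, 2, 1, 1, 1, 2, 2, 2, 1, 1, 1, 1, 1, 1, 2, 2, 2, 1, 1, 1, 2,
  2, 2, 2, 2, 2, 2, 2, 1, 1, 1, 2, 1, 1, 1].getD r 1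

theorem cF_cases : ∀ r < 48, cF r = 1 ∨ cF r = 2 := by decide +kernel

private noncomputable def cd (q : ℕ × ℕ × ℕ × ℤ) : ℕ :=
  Nat.pair (Nat.pair q.1 q.2.1) (Nat.pair q.2.2.1 (Int.rec (fun n => Nat.mul 2 n) (fun n => Nat.succ (Nat.mul 2 n)) q.2.2.2))

private theorem cd_inj : Function.Injective cd := by
  rintro ⟨a, b, k, z⟩ ⟨a', b', k', z'⟩ h
  simp only [cd, Nat.pair_eq_pair] at h
  obtain ⟨⟨rfl, rfl⟩, rfl, h⟩ := h
  have : z = z' := by
    cases z <;> cases z' <;> simp only [Nat.mul_eq, Nat.succ_eq_add_one] at h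
    · congr 1; omega
    · omega
    · omega
    · congr 1; omega
  rw [this]

private noncomputable def rm (a : ℕ) (m : List ℕ) : (List ℕ → Bool) → Bool :=
  List.rec (fun _ => false) (fun b t ih k => Bool.rec (ih fun u => k (b :: u)) (k t) (Nat.beq a b)) m

private theorem rm_spec (a : ℕ) (m : List ℕ) : ∀ k, rm a m k = true → ∃ u, m.Perm (a :: u) ∧ k u = true := by
  induction m with
  | nil => intro k h; cases h
  | cons b t ih =>
    intro k h
    change (Bool.rec (rm a t fun u => k (b :: u)) (k t) (Nat.beq a b) : Bool) = true at h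
    cases e : Nat.beq a b
    · rw [e] at h
      obtain ⟨u, h1, h2⟩ := ih _ h
      exact ⟨b :: u, (h1.cons b).trans (List.Perm.swap a b u), h2⟩
    · rw [e] at h
      rw [← Nat.eq_of_beq_eq_true e]
      exact ⟨t, List.Perm.refl _, h⟩

private noncomputable def pm (l : List ℕ) : List ℕ → Bool := List.rec List.isEmpty (fun a _ ih m => rm a m ih) l

private theorem pm_spec (l : List ℕ) : ∀ m, pm l m = true → l.Perm m := by
  induction l with
  | nil => intro m h; rw [List.isEmpty_iff.1 h]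
  | cons a l ih =>
    intro m h
    obtain ⟨u, h1, h2⟩ := rm_spec a m _ h
    exact ((ih u h2).cons a).trans h1.symm

private def Ok2 (r : ℕ) : Prop :=
  D.negIdx.getD r 0 = D.nroots - (r + 1) ∧ D.nroots - (r + 1) ≠ r ∧
  (∀ q ∈ tb D r, q.2.1 < D.nroots ∧ q.1 ≠ r ∧ q.1 ≠ D.nroots - (r + 1)) ∧
  pm (((tb D r).map fun q => (D.nroots - (q.2.1 + 1), q.1, q.2.2.1, c (D.nroots - (q.2.1 + 1)) * q.2.2.2)).map cd)
    (((tb D r).map fun q => (q.1, D.nroots - (q.2.1 + 1), q.2.2.1,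
      (-1) ^ q.2.2.1 * q.2.2.2 * c (D.nroots - (q.2.1 + 1)))).map cd).reverse = true ∧
  ∀ i : Fin D.rank, ∑ j : Fin D.rank, fa D c i j * (D.coroot.getD r #[]).getD j 0 = (D.cartanSR.getD i #[]).getD r 0 * c r

@[reducible] private noncomputable def instOk2 (r : ℕ) : Decidable (Ok2 D c r) := by unfold Ok2; infer_instance

attribute [local instance] instOk2

private def OkA2 : Prop := (∀ s < D.nroots, c (D.nroots - (s + 1)) = c s) ∧
  (∀ i < D.rank, ∀ j < D.rank, fa D c i j = fa D c j i) ∧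
  ∀ i < D.rank, Ok2 D c (D.simple i) ∧ Ok2 D c (D.neg (D.simple i))

@[reducible] private noncomputable def instOkA2 : Decidable (OkA2 D c) := by unfold OkA2; infer_instance

attribute [local instance] instOkA2

private theorem ok_of {r : ℕ} (h : Ok2 D c r) : Ok D c r :=
  ⟨h.1, h.2.1, h.2.2.1, List.isPerm_iff.2 ((List.map_perm_map_iff cd_inj).1
    ((pm_spec _ _ h.2.2.2.1).trans (List.reverse_perm _))), h.2.2.2.2⟩

private theorem okA_of (h : OkA2 D c) : OkA D c :=
  ⟨h.1, h.2.1, fun i hi => ⟨ok_of D c (h.2.2 i hi).1, ok_of D c (h.2.2 i hi).2⟩⟩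

theorem ok4 : OkA chevF4 cF := okA_of _ _ (by (refine of_decide_eq_true ?_; delta Cfsg.Agent.N2.Ex.K.Co.Ok2 Cfsg.Agent.N2.Ex.K.Co.OkA2 Cfsg.Agent.N2.Ex.K.Co.fa Cfsg.Agent.N2.Ex.K.Co.instOk2 Cfsg.Agent.N2.Ex.K.Co.instOkA2 Cfsg.Agent.N2.Ex.K.Co.tb; rewrite [Cfsg.Agent.ChevFast.F4.chain, Cfsg.Agent.ChevFast.F4.coroot, Cfsg.Agent.ChevFast.F4.neg, Cfsg.Agent.ChevFast.F4.negA]; (try set_option simprocs false in simp -zeta only [Cfsg.Agent.ChevFast.F4.cartanR]); decide +kernel))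

theorem ok6 : OkA chevE6 fun _ => 1 := okA_of _ _ (by (refine of_decide_eq_true ?_; delta Cfsg.Agent.N2.Ex.K.Co.Ok2 Cfsg.Agent.N2.Ex.K.Co.OkA2 Cfsg.Agent.N2.Ex.K.Co.fa Cfsg.Agent.N2.Ex.K.Co.instOk2 Cfsg.Agent.N2.Ex.K.Co.instOkA2 Cfsg.Agent.N2.Ex.K.Co.tb; rewrite [Cfsg.Agent.ChevFast.E6.chain, Cfsg.Agent.ChevFast.E6.coroot, Cfsg.Agent.ChevFast.E6.neg, Cfsg.Agent.ChevFast.E6.negA]; (try set_option simprocs false in simp -zeta only [Cfsg.Agent.ChevFast.E6.cartanR]); decide +kernel))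

theorem ok7 : OkA chevE7 fun _ => 1 := okA_of _ _ (by (refine of_decide_eq_true ?_; delta Cfsg.Agent.N2.Ex.K.Co.Ok2 Cfsg.Agent.N2.Ex.K.Co.OkA2 Cfsg.Agent.N2.Ex.K.Co.fa Cfsg.Agent.N2.Ex.K.Co.instOk2 Cfsg.Agent.N2.Ex.K.Co.instOkA2 Cfsg.Agent.N2.Ex.K.Co.tb; rewrite [Cfsg.Agent.ChevFast.E7.chain, Cfsg.Agent.ChevFast.E7.coroot, Cfsg.Agent.ChevFast.E7.neg, Cfsg.Agent.ChevFast.E7.negA]; (try set_option simprocs false in simp -zeta only [Cfsg.Agent.ChevFast.E7.cartanR]); decide +kernel))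

theorem ok8 : OkA chevE8 fun _ => 1 := okA_of _ _ (by (refine of_decide_eq_true ?_; delta Cfsg.Agent.N2.Ex.K.Co.Ok2 Cfsg.Agent.N2.Ex.K.Co.OkA2 Cfsg.Agent.N2.Ex.K.Co.fa Cfsg.Agent.N2.Ex.K.Co.instOk2 Cfsg.Agent.N2.Ex.K.Co.instOkA2 Cfsg.Agent.N2.Ex.K.Co.tb; rewrite [Cfsg.Agent.ChevFast.E8.chain, Cfsg.Agent.ChevFast.E8.coroot, Cfsg.Agent.ChevFast.E8.neg, Cfsg.Agent.ChevFast.E8.negA]; (try set_option simprocs false in simp -zeta only [Cfsg.Agent.ChevFast.E8.cartanR]); decide +kernel))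

variable {D c} {K : Type} [Field K]

theorem sum_flt {α : Type} (l : List α) (P : α → Prop) [DecidablePred P] (f : α → K) :
    ((l.filter fun a => P a).map f).sum = (l.map fun a => if P a then f a else 0).sum := by
  induction l with
  | nil => rfl
  | cons a l ih => by_cases h : P a <;> simp [h, ih]

theorem cc_sum (f : ℕ × ℤ → K) (r v w : ℕ) :
    ((D.chainCoeff r v w).map f).sum = ((tb D r).map fun q => if q.1 = v ∧ q.2.1 = w then f q.2.2 else 0).sum := by
  unfold chainCoeff tb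
  induction (D.chain.getD r #[]).toList with
  | nil => rfl
  | cons e l ih =>
    rw [List.flatMap_cons, List.map_append, List.sum_append, ← ih, List.map_map]
    by_cases h : e.1 = v
    · rw [List.filter_cons_of_pos (by simpa using h), List.flatMap_cons, List.map_append, List.sum_append, List.map_map,
        sum_flt _ fun q : (ℕ × ℤ) × ℕ => q.1.1 = w]
      simp [h, Function.comp_def]
    · rw [List.filter_cons_of_neg (by simpa using h)]
      simp [h, Function.comp_def]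

theorem rev_eq {n : ℕ} {s : Fin n} {w : ℕ} (hw : w < n) : w = s.rev.val ↔ n - (w + 1) = s.val := by
  have := s.2
  rw [Fin.val_rev]
  omega

theorem x_rr {r : Fin D.nroots} (h : Ok D c r) (t : K) (w v : Fin D.nroots) :
    D.xMat K r t (Sum.inr w) (Sum.inr v) = (if w = v then 1 else 0) + (if v = r.rev ∧ w = r then -(t ^ 2) else 0) +
      ((tb D r).map fun q => if q.1 = v.val ∧ q.2.1 = w.val then ((q.2.2.2 : ℤ) : K) * t ^ q.2.2.1 else 0).sum := by
  have hn : r.rev ≠ r := fun e => h.2.1 (congrArg Fin.val e)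
  have h0 : ∀ v : Fin D.nroots, v = r ∨ v = r.rev →
      ((tb D r).map fun q => if q.1 = v.val ∧ q.2.1 = w.val then ((q.2.2.2 : ℤ) : K) * t ^ q.2.2.1 else 0).sum = 0 :=
      fun v hv => by
    refine List.sum_eq_zero fun x hx => ?_
    obtain ⟨q, hq, rfl⟩ := List.mem_map.1 hx
    refine if_neg fun e => ?_
    rcases hv with rfl | rfl
    · exact (h.2.2.1 q hq).2.1 e.1
    · exact (h.2.2.1 q hq).2.2 e.1
  have h1 : v.val = D.negIdx.getD r 0 ↔ v = r.rev := by rw [h.1, Fin.ext_iff, Fin.val_rev]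
  rw [xMat_rr]
  by_cases e1 : v = r
  · rw [if_pos e1, h0 v (Or.inl e1), e1, if_neg fun e : r = r.rev ∧ w = r => hn e.1.symm, add_zero, add_zero]
  by_cases e2 : v = r.rev
  · rw [if_neg e1, if_pos (h1.2 e2), h0 v (Or.inr e2), add_zero]
    by_cases e3 : w = v
    · rw [if_pos e3, if_pos e3, if_neg fun e => e1 (e3.symm.trans e.2), add_zero]
    · simp [e2, e2 ▸ e3]
  · rw [if_neg e1, if_neg (h1.not.2 e2), if_neg fun e : v = r.rev ∧ w = r => e2 e.1, add_zero, cc_sum]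

theorem x_symm (hc : ∀ s < D.nroots, c (D.nroots - (s + 1)) = c s) {r : Fin D.nroots} (h : Ok D c r) (t : K)
    (s u : Fin D.nroots) : (c s : K) * D.xMat K r t (Sum.inr s.rev) (Sum.inr u) =
      D.xMat K r (-t) (Sum.inr u.rev) (Sum.inr s) * (c u : K) := by
  have h1 := ((List.isPerm_iff.1 h.2.2.2.1).map fun q : ℕ × ℕ × ℕ × ℤ =>
    if q.1 = s ∧ q.2.1 = u then ((q.2.2.2 : ℤ) : K) * t ^ q.2.2.1 else 0).sum_eq
  rw [List.map_map, List.map_map] at h1
  rw [x_rr h, x_rr h, mul_add, mul_add, add_mul, add_mul, ← List.sum_map_mul_left, ← List.sum_map_mul_right]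
  refine congrArg₂ _ (congrArg₂ _ ?_ ?_) ((congrArg List.sum (List.map_congr_left fun q hq => ?_)).trans
    (h1.trans (congrArg List.sum (List.map_congr_left fun q hq => ?_))))
  · by_cases e : s.rev = u
    · subst e
      rw [if_pos rfl, if_pos (Fin.rev_rev s), Fin.val_rev, hc s s.2, mul_comm]
    · rw [if_neg e, if_neg fun e' => e (by rw [← e', Fin.rev_rev]), mul_zero, zero_mul]
  · by_cases e : u = r.rev ∧ s.rev = r
    · obtain ⟨rfl, rfl⟩ := e
      simp only [mul_comm, _root_.Fin.rev_rev, _root_.and_self, ↓ _root_.reduceIte, _root_.mul_neg, _root_.even_two, _root_.Even.neg_pow]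
    · rw [if_neg e, if_neg fun e' => e ⟨by rw [← e'.2, Fin.rev_rev], by rw [e'.1, Fin.rev_rev]⟩, mul_zero, zero_mul]
  · simp only [Function.comp_apply, rev_eq (h.2.2.1 q hq).1]
    by_cases e : q.1 = u ∧ D.nroots - (q.2.1 + 1) = s
    · rw [if_pos e, if_pos e.symm, e.2, Int.cast_mul, mul_assoc]
    · rw [if_neg e, if_neg fun e' => e e'.symm, mul_zero]
  · simp only [Function.comp_apply, rev_eq (h.2.2.1 q hq).1]
    split_ifs with e
    · rw [e.2, neg_pow t]
      push_cast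
      ring
    · rw [zero_mul]

variable (D c K) in
/-- the form -/
def fm : Matrix D.Idx D.Idx K := of fun a b =>
  match a, b with
  | Sum.inl i, Sum.inl j => ((fa D c i j : ℤ) : K)
  | Sum.inr s, Sum.inr u => if u = s.rev then ((c s : ℤ) : K) else 0
  | _, _ => 0

theorem fm_l (i : Fin D.rank) (v : D.Idx → K) :
    (fm D c K *ᵥ v) (Sum.inl i) = ∑ j : Fin D.rank, ((fa D c i j : ℤ) : K) * v (Sum.inl j) := by
  simp only [mulVec, dotProduct, fm, _root_.Matrix.of_apply, _root_.Fintype.sum_sum_type, _root_.MulZeroClass.zero_mul, _root_.Finset.sum_const_zero, _root_.add_zero]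

theorem fm_r (s : Fin D.nroots) (v : D.Idx → K) : (fm D c K *ᵥ v) (Sum.inr s) = ((c s : ℤ) : K) * v (Sum.inr s.rev) := by
  simp only [mulVec, dotProduct, fm, _root_.Matrix.of_apply, _root_.Fintype.sum_sum_type, _root_.MulZeroClass.zero_mul, _root_.Finset.sum_const_zero, _root_.ite_mul, _root_.Finset.sum_ite_eq', _root_.Finset.mem_univ, ↓ _root_.reduceIte, _root_.zero_add]

theorem fm_tr (h : OkA D c) : (fm D c K)ᵀ = fm D c K := by
  ext a b
  rcases a with i | s <;> rcases b with j | u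
  · exact congrArg Int.cast (h.2.1 j j.2 i i.2)
  · rfl
  · rfl
  · show (if s = u.rev then ((c u : ℤ) : K) else 0) = if u = s.rev then ((c s : ℤ) : K) else 0
    by_cases e : s = u.rev
    · subst e
      rw [if_pos rfl, if_pos (Fin.rev_rev u).symm, Fin.val_rev, h.1 u u.2]
    · rw [if_neg e, if_neg fun e' => e (by rw [e', Fin.rev_rev])]

theorem fm_x (hA : OkA D c) {r : Fin D.nroots} (h : Ok D c r) (t : K) :
    fm D c K * D.xMat K r t = (D.xMat K r (-t))ᵀ * fm D c K := by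
  have k0 : ∀ (t : K) a b, (fm D c K * D.xMat K r t) a b = (fm D c K *ᵥ fun j => D.xMat K r t j b) a := fun _ _ _ => rfl
  have k1 : ∀ (t : K) a b, ((D.xMat K r t)ᵀ * fm D c K) a b = (fm D c K *ᵥ fun j => D.xMat K r t j a) b := fun t a b => by
    rw [← k0, ← transpose_apply (fm D c K * _), transpose_mul, fm_tr hA]
  have hn : r.rev ≠ r := fun e => h.2.1 (congrArg Fin.val e)
  have k2 : ∀ (t : K) i u, (fm D c K *ᵥ fun j => D.xMat K r t j (Sum.inr u)) (Sum.inl i) =
      (fm D c K *ᵥ fun j => D.xMat K r (-t) j (Sum.inl i)) (Sum.inr u) := fun t i u => by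
    have h1 : u.val = D.negIdx.getD r 0 ↔ u.rev = r := by rw [h.1, Fin.rev_eq_iff, Fin.ext_iff, Fin.val_rev]
    rw [fm_l, fm_r, xMat_rl]
    simp only [xMat_lr, h1]
    by_cases e : u.rev = r
    · have e1 : u ≠ r := fun e' => hn (e' ▸ e)
      have e2 := congrArg (Int.cast (R := K)) (h.2.2.2.2 i)
      rw [← e, Fin.val_rev, hA.1 u u.2, ← Fin.val_rev, e] at e2
      push_cast at e2
      simp only [e, e1, if_true, if_false, ← mul_assoc, ← Finset.sum_mul, e2]
      ring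
    · simp only [e, ↓ _root_.reduceIte, _root_.ite_self, _root_.MulZeroClass.mul_zero, _root_.Finset.sum_const_zero]
  ext a b
  rw [k0, k1]
  rcases a with i | s <;> rcases b with j | u
  · rw [fm_l, fm_l]
    simp only [xMat_ll, hA.2.1 i i.2 j j.2, _root_.mul_ite, _root_.mul_one, _root_.MulZeroClass.mul_zero, _root_.Finset.sum_ite_eq', _root_.Finset.mem_univ, ↓ _root_.reduceIte]
  · exact k2 t i u
  · rw [k2, neg_neg]
  · rw [fm_r, fm_r, x_symm hA.1 h, mul_comm]

variable (D K) in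
/-- the adjoint representation -/
def rh : D.group K →* Matrix D.Idx D.Idx K := (Units.coeHom _).comp (D.group K).subtype

theorem x_ok (hD : InList D) (hA : OkA D c) (hc : ∀ s < D.nroots, (c s : K) ≠ 0) {r : ℕ} (hr : r < D.nroots)
    (h : Ok D c r) (t : K) : (rh D K (xS hD r t))ᵀ * fm D c K * rh D K (xS hD r t) = fm D c K ∧
      ∀ v, fm D c K *ᵥ v = 0 → rh D K (xS hD r t) *ᵥ v = v := by
  have e : ∀ t, rh D K (xS hD r t) = D.xMat K ⟨r, hr⟩ t := fun t => (mat_xS hD r t).trans (_root_.Cfsg.Agent.ChevalleyStructure.GraphColumns.x_of_lt D K hr t)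
  have h1 := fm_x hA (r := ⟨r, hr⟩) h t
  have h2 : ∀ v, fm D c K *ᵥ v = 0 → ∀ s, v (Sum.inr s) = 0 := fun v hv s => by
    have h3 := congrFun hv (Sum.inr s.rev)
    rw [fm_r, Fin.rev_rev] at h3
    exact (mul_eq_zero.1 h3).resolve_left (hc _ s.rev.2)
  refine ⟨?_, fun v hv => funext fun a => ?_⟩
  · rw [Matrix.mul_assoc, e, h1, ← Matrix.mul_assoc, ← transpose_mul, ← e, ← e, ← map_mul, xS_mul, neg_add_cancel, xS_zero,
      map_one, transpose_one, Matrix.one_mul]
  · rw [e]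
    rcases a with i | s
    · simp only [mulVec, dotProduct, xMat_ll, h2 v hv, _root_.Fintype.sum_sum_type, _root_.ite_mul, _root_.one_mul, _root_.MulZeroClass.zero_mul, _root_.Finset.sum_ite_eq, _root_.Finset.mem_univ, ↓ _root_.reduceIte, _root_.MulZeroClass.mul_zero, _root_.Finset.sum_const_zero, _root_.add_zero]
    · rw [h2 v hv]
      exact h2 _ (by rw [mulVec_mulVec, h1, ← mulVec_mulVec, hv, mulVec_zero]) s

/-- the form is invariant and its radical is fixed -/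
theorem fm_inv (hD : InList D) (hA : OkA D c) (hc : ∀ s < D.nroots, (c s : K) ≠ 0) (g : D.group K) :
    (rh D K g)ᵀ * fm D c K * rh D K g = fm D c K ∧ ∀ v, fm D c K *ᵥ v = 0 → rh D K g *ᵥ v = v := by
  have k : ∀ a : D.group K, rh D K a * rh D K a⁻¹ = 1 := fun a => by rw [← map_mul, mul_inv_cancel, map_one]
  let H : Subgroup (D.group K) :=
    { carrier := {g | (rh D K g)ᵀ * fm D c K * rh D K g = fm D c K ∧ ∀ v, fm D c K *ᵥ v = 0 → rh D K g *ᵥ v = v}
      one_mem' := by simp only [_root_.Set.mem_ofPred_eq, _root_.map_one, _root_.Matrix.transpose_one, _root_.one_mul, _root_.mul_one, _root_.Matrix.one_mulVec, _root_.implies_true, _root_.and_self]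
      mul_mem' := fun {a b} ha hb => ⟨by
        rw [map_mul, transpose_mul, Matrix.mul_assoc _ (rh D K a)ᵀ, ← Matrix.mul_assoc _ (rh D K a),
          Matrix.mul_assoc _ _ (rh D K a), ha.1]
        exact hb.1, fun v hv => by rw [map_mul, ← mulVec_mulVec, hb.2 v hv, ha.2 v hv]⟩
      inv_mem' := fun {a} ha => ⟨by
        conv_lhs => rw [← ha.1]
        rw [Matrix.mul_assoc, Matrix.mul_assoc _ (rh D K a), k, Matrix.mul_one, ← Matrix.mul_assoc,
          ← transpose_mul, k, transpose_one, Matrix.one_mul], fun v hv => by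
        conv_lhs => rw [← ha.2 v hv]
        rw [mulVec_mulVec, ← map_mul, inv_mul_cancel, map_one, one_mulVec]⟩ }
  have h : H = ⊤ := eq_top_of_simple hD H (fun i hi t => x_ok hD hA hc (simple_lt hD hi) (hA.2.2 i hi).1 t)
    fun i hi t => x_ok hD hA hc (neg_simple_lt hD hi) (hA.2.2 i hi).2 t
  exact h.ge (Subgroup.mem_top g)

end Cfsg.Agent.N2.Ex.K.Co

private theorem dce_e8c39e23c93e : _root_.True := by
  try have : _root_.True := by simp only [_root_.Cfsg.Agent.N2.Ex.K.Co.fm.eq_1]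
  try have : _root_.True := by simp only [_root_.Cfsg.Agent.N2.Ex.K.Co.fm._sparseCasesOn_1.else_eq]
  try have : _root_.True := by simp only [_root_.Cfsg.Agent.N2.Ex.K.Co.fm._sparseCasesOn_2.else_eq]
  exact _root_.True.intro
end

-- part: SB/SporD/Fi/D22Chk
section
set_option linter.all false
open scoped Cfsg.Agent.FastGrp

/-!
# S5765, the row `Fi22`: kernel checks for `BoxD22` (helper78)
-/

set_option autoImplicit false
set_option maxRecDepth 100000
set_option exponentiation.threshold 5000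

namespace Cfsg.Agent.SB.SporD.Fi.D22

open Cfsg.Spor Cfsg.Spor.Fi22 Cfsg.Agent.Lib.PermNet Cfsg.Agent.Lib.PermNetOrbit Cfsg.Agent.Lib.PermNetFix
open Cfsg.Agent.Fischer Cfsg.Agent.Fischer.Fi22PtsRep Cfsg.Agent.H834
open Cfsg.Agent.Fischer.Fi22Order (nws nws_ok)

/-- the mask of the points of a list of transpositions -/
noncomputable def msk (l : List (List Gen × Gen)) : ℕ :=
  List.rec (motive := fun _ => ℕ) 0 (fun c _ ih => Nat.lor (Nat.pow 2 (twp c)) ih) l

theorem exists_of_msk {l : List (List Gen × Gen)} {q : ℕ} (h : (msk l).testBit q = true) : ∃ c ∈ l, twp c = q := by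
  induction l with
  | nil => exact absurd h (by simp [msk])
  | cons c l ih =>
    have h1 : (2 ^ twp c ||| msk l).testBit q = true := h
    rw [Nat.testBit_or, Bool.or_eq_true, Nat.testBit_two_pow, decide_eq_true_eq] at h1
    rcases h1 with h1 | h1
    · exact ⟨c, List.mem_cons_self, h1⟩
    · obtain ⟨d, hd, h2⟩ := ih h1
      exact ⟨d, List.mem_cons_of_mem _ hd, h2⟩

/-- the points commuting with `a`, `c`, `e` -/
noncomputable def K3 : ℕ := interB [([], .a), ([], .c), ([], .e)] full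

/-- the points commuting with `a`, `c`, `e`, `h` -/
noncomputable def K4 : ℕ := interB [([], .a), ([], .c), ([], .e), ([], .h)] full

/-- words commuting with `a`, `c` -/
def w1 : List (List Gen) := [[.e], [.f], [.g], [.h], [.i], [.a], [.c], [.d, .h, .e, .d, .c, .d, .e, .h, .d],
  [.b, .c, .d, .h, .e, .d, .c, .b, .a, .b, .c, .d, .e, .h, .d, .c, .b]]

/-- words commuting with `a`, `c`, `e` -/
def w2 : List (List Gen) := [[.i], [.h], [.d, .h, .e, .d, .c, .d, .e, .h, .d],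
  [.f, .e, .d, .h, .g, .f, .e, .d, .c, .d, .e, .f, .g, .h, .d, .e, .f],
  [.b, .c, .d, .h, .e, .d, .c, .b, .a, .b, .c, .d, .e, .h, .d, .c, .b],
  [.f, .e, .b, .c, .d, .h, .g, .f, .e, .d, .c, .b, .a, .b, .c, .d, .e, .f, .g, .h, .d, .c, .b, .e, .f]]

/-- the hexad -/
def Hl : List (List Gen × Gen) := [([], .a), ([], .c), ([], .g), ([], .e),
  ([.d, .h, .i, .c, .d, .h, .b, .c, .d, .e, .a, .b, .c, .d, .h, .i, .d, .e, .f, .c, .d, .e, .b, .c, .d, .h, .g, .f,
    .e, .d, .c, .b], .a),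
  ([.d, .h, .i, .e, .d, .h, .b, .c, .d, .e, .a, .b, .c, .d, .h, .i, .d, .e, .f, .c, .d, .e, .b, .c, .d, .h, .g, .f,
    .e, .d, .c, .b], .a)]

/-- the base -/
def Bl : List (List Gen × Gen) := [([], .a), ([], .c), ([], .g), ([], .e), ([], .h), ([.d, .h, .e, .d], .c),
  ([.f, .e, .d, .h, .g, .f, .e, .d], .c), ([.b, .c, .d, .h, .e, .d, .c, .b], .a),
  ([.f, .e, .b, .c, .d, .h, .g, .f, .e, .d, .c, .b], .a),
  ([.d, .e, .f, .c, .d, .e, .b, .c, .d, .h, .g, .f, .e, .d, .c, .b], .a),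
  ([.d, .h, .f, .c, .d, .e, .b, .c, .d, .h, .g, .f, .e, .d, .c, .b], .a),
  ([.d, .h, .e, .f, .d, .e, .b, .c, .d, .h, .g, .f, .e, .d, .c, .b], .a),
  ([.f, .e, .d, .h, .c, .d, .e, .b, .c, .d, .h, .f, .e, .d, .c, .b], .a),
  ([.b, .c, .d, .h, .e, .f, .d, .e, .c, .d, .h, .g, .f, .e, .d, .c], .b),
  ([.i, .h, .d, .e, .c, .d, .h, .i, .f, .e, .b, .c, .d, .h, .g, .f, .e, .d, .c, .b], .a),
  ([.i, .h, .d, .e, .c, .d, .h, .i, .d, .e, .f, .c, .d, .e, .b, .c, .d, .h, .g, .f, .e, .d, .c, .b], .a),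
  ([.i, .h, .d, .e, .c, .d, .h, .i, .d, .h, .f, .c, .d, .e, .b, .c, .d, .h, .g, .f, .e, .d, .c, .b], .a),
  ([.i, .h, .d, .e, .c, .d, .h, .i, .d, .h, .e, .f, .d, .e, .b, .c, .d, .h, .g, .f, .e, .d, .c, .b], .a),
  ([.i, .h, .b, .c, .d, .e, .a, .b, .c, .d, .h, .i, .d, .h, .f, .c, .d, .e, .b, .c, .d, .h, .g, .f, .e, .d, .c,
    .b], .a),
  ([.i, .h, .b, .c, .d, .e, .a, .b, .c, .d, .h, .i, .d, .e, .f, .c, .d, .e, .b, .c, .d, .h, .g, .f, .e, .d, .c,
    .b], .a),
  ([.d, .h, .i, .c, .d, .h, .b, .c, .d, .e, .a, .b, .c, .d, .h, .i, .d, .e, .f, .c, .d, .e, .b, .c, .d, .h, .g, .f,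
    .e, .d, .c, .b], .a),
  ([.d, .h, .i, .e, .d, .h, .b, .c, .d, .e, .a, .b, .c, .d, .h, .i, .d, .e, .f, .c, .d, .e, .b, .c, .d, .h, .g, .f,
    .e, .d, .c, .b], .a)]

/-- an involution commuting with `a`, `b`, `c` -/
def u0 : List Gen := [.e, .h]

/-- an element of order three commuting with `a`, `b`, `c` -/
def v0 : List Gen := [.f, .d, .e, .c, .d, .h, .i, .b, .c, .d, .h, .e, .d, .c, .b, .a, .b, .c, .d, .e, .h, .d, .c,
  .b, .i, .h, .d, .c, .e, .d]

/-- an involution which preserves the hexad and the base -/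
def u1 : List Gen := [.b, .a, .c, .b]

/-- an element of order three which preserves the hexad and the base -/
def v1 : List Gen := [.b, .a, .d, .e, .f, .e, .d, .g, .h, .d, .e, .f, .i, .h, .d, .c, .e, .d, .h, .c, .d, .e, .b,
  .c, .d, .h, .i, .f, .e, .d, .h, .g, .e, .f, .e, .d, .a, .b]

theorem chk1 : rcB [0, 6] w1 2 5 (Nat.xor full (Nat.lor (cmk ([], .a)) (cmk ([], .c)))) = true := by decide +kernel

set_option Elab.async false in
theorem chk2 : rcB [0, 6, 40] w2 43 2 (Nat.xor K3 (msk Hl)) = true := by (rewrite [show @Cfsg.Agent.SB.SporD.Fi.D22.msk = delta% @Cfsg.Agent.SB.SporD.Fi.D22.msk from by delta Cfsg.Agent.SB.SporD.Fi.D22.msk; rfl, show @Cfsg.Agent.H834.twp = delta% @Cfsg.Agent.H834.twp from by delta Cfsg.Agent.H834.twp; rfl, show @Cfsg.Agent.SB.SporD.Fi.D22.K3 = delta% @Cfsg.Agent.SB.SporD.Fi.D22.K3 from by delta Cfsg.Agent.SB.SporD.Fi.D22.K3; rfl, show @Cfsg.Agent.H834.interB = delta% @Cfsg.Agent.H834.interB from by delta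 Cfsg.Agent.H834.interB; rfl, show @Cfsg.Agent.H834.cmk = delta% @Cfsg.Agent.H834.cmk from by delta Cfsg.Agent.H834.cmk; rfl, show @Cfsg.Agent.H834.fixm = delta% @Cfsg.Agent.H834.fixm from by delta Cfsg.Agent.H834.fixm; rfl, show @Cfsg.Agent.H834.rcB = delta% @Cfsg.Agent.H834.rcB from by delta Cfsg.Agent.H834.rcB; rfl, show @Cfsg.Agent.Lib.PermNetOrbit.fixAllB = delta% @Cfsg.Agent.Lib.PermNetOrbit.fixAllB from by delta Cfsg.Agent.Lib.PermNetOrbit.fixAllB; rfl, show @Cfsg.Agent.Lib.PermNetOrbit.fixB = delta% @Cfsg.Agent.Lib.PermNetOrbit.fixB from by delta Cfsg.Agent.Lib.PermNetOrbit.fixB; rfl, Cfsg.Agent.Lib.PermNetFast.ptWord_fast, Cfsg.Agent.Lib.PermNetFast.moved_fast]; decide +kernel)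

theorem chk3 : Nat.beq (interB Hl K3) K3 = true := by decide +kernel

theorem chk4 : Nat.beq (interB Bl K4) K4 = true := by decide +kernel

theorem chk5 : Nat.beq (Nat.land (msk Bl) K4) K4 = true := by decide +kernel

theorem chk6 : closedB (nws [u1, v1]) K3 = true := by decide +kernel

theorem chk7 : closedB (nws [u1, v1]) K4 = true := by decide +kernel

theorem chk8 : fixAllB (nws [u0, v0]) [0, 2, 6] = true := by decide +kernel

theorem ord_u0 : checkEq 12 (wpow (nw u0) 2) [] = true := by decide +kernel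

set_option Elab.async false in
theorem ord_v0 : checkEq 12 (wpow (nw v0) 3) [] = true := by (rewrite [Cfsg.Agent.Lib.PermNetFast.checkEq_fast]; decide +kernel)

set_option Elab.async false in
theorem ord_uv0 : checkEq 12 (wpow (nw (u0 ++ v0)) 5) [] = true := by (rewrite [Cfsg.Agent.Lib.PermNetFast.checkEq_fast]; decide +kernel)

theorem ord_u1 : checkEq 12 (wpow (nw u1) 2) [] = true := by decide +kernel

set_option Elab.async false in
theorem ord_v1 : checkEq 12 (wpow (nw v1) 3) [] = true := by (rewrite [Cfsg.Agent.Lib.PermNetFast.checkEq_fast]; decide +kernel)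

set_option Elab.async false in
theorem ord_uv1 : checkEq 12 (wpow (nw (u1 ++ v1)) 5) [] = true := by (rewrite [Cfsg.Agent.Lib.PermNetFast.checkEq_fast]; decide +kernel)

theorem ne_u0 : Nat.beq (ptWord (nw u0) 16) 16 = false := by decide +kernel

theorem ne_u1 : Nat.beq (ptWord (nw u1) 0) 0 = false := by decide +kernel

theorem com_ac : (cmk ([], .a)).testBit 6 = true := by decide +kernel

theorem com_ae : (cmk ([], .a)).testBit 40 = true := by decide +kernel

theorem com_ce : (cmk ([], .c)).testBit 40 = true := by decide +kernel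

end Cfsg.Agent.SB.SporD.Fi.D22

private theorem dce_c897c225d8c2 : _root_.True := by
  try have : _root_.True := by simp only [_root_.Cfsg.Agent.SB.SporD.Fi.D22.msk.eq_1]
  exact _root_.True.intro
end
end

-- part: N2/Ex/Sim/U3M
section
prune_inst 0x10000000000000
set_option linter.all false
open scoped Cfsg.Agent.FastGrp

/-!
# N2 (S3519), simple socle: `(2, n, n)`-triples in `U₃(q)`, the matrices (helper67)

`C` is the companion matrix of `T³ - t T² + s T - 1`, `s = t ^ q`; it keeps the hermitian form `fJ`, whose Gram matrix is a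
Toeplitz matrix; `X = -1 + e₀ fJ(·, e₀)` is an involution, and `X C` has the characteristic polynomial of `C⁻¹`.
-/

set_option autoImplicit false
set_option linter.unusedSectionVars false

namespace Cfsg.Agent.N2.Ex.Sm.U3

open Cfsg Matrix Module Cfsg.Agent.LieClassical.HermBasic
open scoped MatrixGroups

/-- equal cubic relations, equal orders -/
theorem transfer {F A B : Type*} [Field F] [Ring A] [Algebra F A] [Ring B] [Algebra F B] {a b c : F} {x : A} {y : B}
    (hx : x ^ 3 = a • x ^ 2 + b • x + c • (1 : A)) (hy : y ^ 3 = a • y ^ 2 + b • y + c • (1 : B))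
    (hi : ∀ u v w : F, u • x ^ 2 + v • x + w • (1 : A) = 0 → u = 0 ∧ v = 0 ∧ w = 0) {k : ℕ} (hk : x ^ k = 1) :
    y ^ k = 1 := by
  have key : ∀ k : ℕ, ∃ u v w : F, x ^ k = u • x ^ 2 + v • x + w • (1 : A) ∧ y ^ k = u • y ^ 2 + v • y + w • (1 : B) := by
    intro k
    induction k with
    | zero => exact ⟨0, 0, 1, by simp, by simp only [_root_.pow_zero, _root_.zero_smul, _root_.add_zero, _root_.one_smul, _root_.zero_add]⟩
    | succ k ih =>
      obtain ⟨u, v, w, h1, h2⟩ := ih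
      refine ⟨u * a + v, u * b + w, u * c, ?_, ?_⟩
      · rw [pow_succ, h1, add_mul, add_mul, smul_mul_assoc, smul_mul_assoc, smul_mul_assoc, ← pow_succ, hx, one_mul, ← pow_two]
        module
      · rw [pow_succ, h2, add_mul, add_mul, smul_mul_assoc, smul_mul_assoc, smul_mul_assoc, ← pow_succ, hy, one_mul, ← pow_two]
        module
  obtain ⟨u, v, w, h1, h2⟩ := key k
  obtain ⟨h3, h4, h5⟩ := hi u v (w - 1) (by rw [sub_smul, one_smul, ← add_sub_assoc, ← h1, hk, sub_self])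
  rw [h2, h3, h4, sub_eq_zero.1 h5]
  simp

section

variable {F : Type*} [Field F]

/-- no proper invariant subspace -/
def Irr (A : Matrix (Fin 3) (Fin 3) F) : Prop :=
  ∀ W : Submodule F (Fin 3 → F), W ≠ ⊥ → W ≠ ⊤ → (∀ v ∈ W, A *ᵥ v ∈ W) → False

theorem Irr.of_pow {A : Matrix (Fin 3) (Fin 3) F} {k : ℕ} (h : Irr (A ^ k)) : Irr A := by
  intro W h0 h1 hW
  refine h W h0 h1 ?_
  clear h
  induction k with
  | zero => intro v hv; simpa using hv
  | succ k ih => intro v hv; rw [pow_succ', ← mulVec_mulVec]; exact hW _ (ih v hv)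

theorem span_ne_top (u v : Fin 3 → F) : Submodule.span F ({u, v} : Set (Fin 3 → F)) ≠ ⊤ := by
  classical
  intro h1
  have h2 := finrank_span_le_card (R := F) ({u, v} : Set (Fin 3 → F))
  rw [h1, finrank_top, Module.finrank_fin_fun, Set.toFinset_insert, Set.toFinset_singleton] at h2
  have := Finset.card_le_two (a := u) (b := v)
  omega

theorem Irr.indep {A : Matrix (Fin 3) (Fin 3) F} (h : Irr A) (u v w : F)
    (h0 : u • A ^ 2 + v • A + w • (1 : Matrix (Fin 3) (Fin 3) F) = 0) : u = 0 ∧ v = 0 ∧ w = 0 := by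
  have he : (Pi.single 0 1 : Fin 3 → F) ≠ 0 := fun h1 => by simpa using congrFun h1 0
  obtain ⟨e, hed⟩ : ∃ e : Fin 3 → F, e = Pi.single 0 1 := ⟨_, rfl⟩
  rw [← hed] at he
  have key : ∀ a b : F, A *ᵥ (A *ᵥ e) = a • A *ᵥ e + b • e → False := by
    intro a b h1
    have m1 : e ∈ Submodule.span F ({e, A *ᵥ e} : Set (Fin 3 → F)) := Submodule.subset_span (by simp)
    have m2 : A *ᵥ e ∈ Submodule.span F ({e, A *ᵥ e} : Set (Fin 3 → F)) := Submodule.subset_span (by simp)
    refine h _ (fun h2 => he (by rwa [h2, Submodule.mem_bot] at m1)) (span_ne_top e (A *ᵥ e)) fun x hx => ?_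
    obtain ⟨c, d, rfl⟩ := Submodule.mem_span_pair.1 hx
    rw [mulVec_add, mulVec_smul, mulVec_smul, h1]
    exact add_mem (Submodule.smul_mem _ _ m2)
      (Submodule.smul_mem _ _ (add_mem (Submodule.smul_mem _ _ m2) (Submodule.smul_mem _ _ m1)))
  have h1 : u • A *ᵥ (A *ᵥ e) + v • A *ᵥ e + w • e = 0 := by
    have := congrArg (fun M => M *ᵥ e) h0
    simpa only [add_mulVec, smul_mulVec, one_mulVec, zero_mulVec, pow_two, ← mulVec_mulVec] using this
  have hu : u = 0 := by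
    by_contra hu
    refine key (-(u⁻¹ * v)) (-(u⁻¹ * w)) ?_
    have h2 : A *ᵥ (A *ᵥ e) = u⁻¹ • (u • A *ᵥ (A *ᵥ e)) := by rw [smul_smul, inv_mul_cancel₀ hu, one_smul]
    rw [h2, eq_neg_of_add_eq_zero_left ((add_assoc _ _ _).symm.trans h1)]
    module
  rw [hu, zero_smul, zero_add] at h1
  have hv : v = 0 := by
    by_contra hv
    refine key (-(v⁻¹ * w)) 0 ?_
    have h2 : A *ᵥ e = (-(v⁻¹ * w)) • e := by
      have h2 : A *ᵥ e = v⁻¹ • (v • A *ᵥ e) := by rw [smul_smul, inv_mul_cancel₀ hv, one_smul]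
      rw [h2, eq_neg_of_add_eq_zero_left h1]
      module
    conv_lhs => rw [h2, mulVec_smul]
    rw [zero_smul, add_zero]
  rw [hv, zero_smul, zero_add] at h1
  exact ⟨hu, hv, (smul_eq_zero.1 h1).resolve_right he⟩

/-- the companion matrix -/
def Cm (t s : F) : Matrix (Fin 3) (Fin 3) F := !![0, 0, 1; 1, 0, -s; 0, 1, t]

/-- the involution -/
def Xm (t s : F) : Matrix (Fin 3) (Fin 3) F := !![1, t + s, t * (t + s) - 2 * s + (t + s); 0, -1, 0; 0, 0, -1]

private theorem lin3 (u v a₀ a₁ a₂ a₃ a₄ a₅ a₆ a₇ a₈ b₀ b₁ b₂ b₃ b₄ b₅ b₆ b₇ b₈ c₀ c₁ c₂ c₃ c₄ c₅ c₆ c₇ c₈ : F)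
    (h₀ : c₀ = u * a₀ + v * b₀ + 1 * 1) (h₁ : c₁ = u * a₁ + v * b₁ + 1 * 0) (h₂ : c₂ = u * a₂ + v * b₂ + 1 * 0)
    (h₃ : c₃ = u * a₃ + v * b₃ + 1 * 0) (h₄ : c₄ = u * a₄ + v * b₄ + 1 * 1) (h₅ : c₅ = u * a₅ + v * b₅ + 1 * 0)
    (h₆ : c₆ = u * a₆ + v * b₆ + 1 * 0) (h₇ : c₇ = u * a₇ + v * b₇ + 1 * 0) (h₈ : c₈ = u * a₈ + v * b₈ + 1 * 1) :
    !![c₀, c₁, c₂; c₃, c₄, c₅; c₆, c₇, c₈] = u • !![a₀, a₁, a₂; a₃, a₄, a₅; a₆, a₇, a₈] +
      v • !![b₀, b₁, b₂; b₃, b₄, b₅; b₆, b₇, b₈] + (1 : F) • (1 : Matrix (Fin 3) (Fin 3) F) := by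
  rw [Matrix.one_fin_three]
  ext i j
  fin_cases i <;> fin_cases j
  exacts [h₀, h₁, h₂, h₃, h₄, h₅, h₆, h₇, h₈]

theorem Cm_cube (t s : F) : Cm t s ^ 3 = t • Cm t s ^ 2 + (-s) • Cm t s + (1 : F) • (1 : Matrix (Fin 3) (Fin 3) F) := by
  rw [pow_succ, pow_two, Cm, Matrix.mul_fin_three, Matrix.mul_fin_three]
  apply lin3 <;> ring

theorem Zm_cube (t s : F) : (Xm t s * Cm t s) ^ 3 = s • (Xm t s * Cm t s) ^ 2 + (-t) • (Xm t s * Cm t s) +
    (1 : F) • (1 : Matrix (Fin 3) (Fin 3) F) := by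
  have h : Xm t s * Cm t s = !![t + s, t * (t + s) - 2 * s + (t + s), 1 - (t + s) * s + (t * (t + s) - 2 * s + (t + s)) * t;
      -1, 0, s; 0, -1, -t] := by
    rw [Xm, Cm, Matrix.mul_fin_three]
    simp only [mul_zero, zero_mul, mul_one, one_mul, add_zero, zero_add, neg_mul, mul_neg, neg_neg, neg_zero, sub_eq_add_neg]
  rw [h, pow_succ, pow_two, Matrix.mul_fin_three, Matrix.mul_fin_three]
  apply lin3 <;> ring

theorem Cm_indep (t s u v w : F) (h0 : u • Cm t s ^ 2 + v • Cm t s + w • (1 : Matrix (Fin 3) (Fin 3) F) = 0) :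
    u = 0 ∧ v = 0 ∧ w = 0 := by
  have h1 := congrFun (congrFun h0 0) 0
  have h2 := congrFun (congrFun h0 1) 0
  have h3 := congrFun (congrFun h0 2) 0
  simp only [Cm, pow_succ, _root_.pow_zero, _root_.one_mul, _root_.Matrix.cons_mul, _root_.Nat.succ_eq_add_one, _root_.Nat.reduceAdd, _root_.Matrix.vecMul_cons, _root_.Matrix.head_cons, _root_.zero_smul, _root_.Matrix.tail_cons, _root_.one_smul, _root_.Matrix.empty_vecMul, _root_.add_zero, _root_.zero_add, _root_.neg_smul, _root_.Matrix.smul_cons, _root_.smul_eq_mul, _root_.MulZeroClass.mul_zero, _root_.mul_one, _root_.Matrix.smul_empty, _root_.Matrix.neg_cons, _root_.neg_zero, _root_.Matrix.neg_empty, _root_.Matrix.add_cons, _root_.Matrix.empty_add_empty, _root_.Matrix.empty_mul, _root_.Equiv.symm_apply_apply, _root_.Matrix.smul_of, _root_.mul_neg, _root_.Matrix.of_add_of, _root_.Fin.isValue, _root_.Matrix.add_apply, _root_.Matrix.of_apply, _root_.Matrix.cons_val', _root_.Matrix.cons_val_zero,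 _root_.Matrix.cons_val_fin_one, _root_.Matrix.smul_apply, _root_.Matrix.one_apply_eq, _root_.Matrix.zero_apply, _root_.Matrix.cons_val_one, _root_.ne_eq, _root_.one_ne_zero, _root_.not_false_eq_true, _root_.Matrix.one_apply_ne, _root_.Matrix.cons_val, _root_.Fin.reduceEq] at h1 h2 h3
  exact ⟨h3, h2, h1⟩

theorem Xm_sq (t s : F) : Xm t s * Xm t s = 1 := by
  ext i j
  (revert i j; simp only [Xm, Matrix.mul_apply, Fin.sum_univ_three, _root_.Fin.forall_fin_succ, _root_.Matrix.of_apply, _root_.Matrix.cons_val', _root_.Matrix.cons_val_fin_one, Fin.isValue, _root_.Matrix.cons_val_zero, _root_.Matrix.cons_val_one, _root_.Matrix.cons_val, _root_.mul_one, _root_.MulZeroClass.mul_zero, _root_.add_zero, _root_.Matrix.cons_val_succ, _root_.mul_neg, _root_.IsEmpty.forall_iff, _root_.Matrix.one_apply_eq, _root_.one_mul, _root_.neg_add_rev, _root_.add_add_neg_add_cancel, _root_.add_neg_cancel, Nat.reduceAdd, _root_.Fin.succ_zero_eq_one, _root_.ne_eq,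 _root_.zero_ne_one, _root_.not_false_eq_true, _root_.Matrix.one_apply_ne, _root_.neg_sub, _root_.Fin.succ_one_eq_two, Fin.reduceEq, _root_.Fin.succ_ne_zero, _root_.MulZeroClass.zero_mul, _root_.neg_neg, _root_.zero_add, _root_.neg_zero, _root_.and_true, _root_.true_and]) <;> (repeat' with_reducible apply And.intro)
  ring

theorem det_Cm (t s : F) : (Cm t s).det = 1 := by
  simp [Cm, det_fin_three]

theorem det_Xm (t s : F) : (Xm t s).det = 1 := by
  simp only [Xm, det_fin_three, _root_.Fin.isValue, _root_.Matrix.of_apply, _root_.Matrix.cons_val', _root_.Matrix.cons_val_zero, _root_.Matrix.cons_val_fin_one, _root_.Matrix.cons_val_one, _root_.mul_neg, _root_.mul_one, _root_.Matrix.cons_val, _root_.neg_neg, _root_.MulZeroClass.mul_zero, _root_.sub_zero, _root_.neg_zero, _root_.add_zero, _root_.neg_add_rev, _root_.neg_sub]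

theorem Cm_vec (t s : F) (u : Fin 3 → F) :
    (Cm t s *ᵥ u) 0 = u 2 ∧ (Cm t s *ᵥ u) 1 = u 0 - s * u 2 ∧ (Cm t s *ᵥ u) 2 = u 1 + t * u 2 := by
  refine ⟨?_, ?_, ?_⟩ <;> simp only [Cm, mulVec, dotProduct, Fin.sum_univ_three, _root_.Fin.isValue, _root_.Matrix.of_apply, _root_.Matrix.cons_val', _root_.Matrix.cons_val_fin_one, _root_.Matrix.cons_val_zero, _root_.MulZeroClass.zero_mul, _root_.Matrix.cons_val_one, _root_.add_zero, _root_.Matrix.cons_val, _root_.one_mul, _root_.zero_add, _root_.neg_mul]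
  ring

theorem Xm_vec (t s : F) (u : Fin 3 → F) :
    (Xm t s *ᵥ u) 0 = u 0 + (t + s) * u 1 + (t * (t + s) - 2 * s + (t + s)) * u 2 ∧ (Xm t s *ᵥ u) 1 = -u 1 ∧
      (Xm t s *ᵥ u) 2 = -u 2 := by
  refine ⟨?_, ?_, ?_⟩ <;> simp only [Xm, mulVec, dotProduct, Fin.sum_univ_three, _root_.Fin.isValue, _root_.Matrix.of_apply, _root_.Matrix.cons_val', _root_.Matrix.cons_val_fin_one, _root_.Matrix.cons_val_zero, _root_.one_mul, _root_.Matrix.cons_val_one, _root_.Matrix.cons_val, _root_.MulZeroClass.zero_mul, _root_.neg_mul, _root_.zero_add, _root_.add_zero]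

/-- an irreducible companion matrix has no eigenvalue one -/
theorem ne_of_irr {t s : F} (h : Irr (Cm t s)) : s ≠ t := by
  rintro rfl
  have h1 : Cm s s *ᵥ ![1, 1 - s, 1] = ![1, 1 - s, 1] := by
    obtain ⟨h1, h2, h3⟩ := Cm_vec s s ![1, 1 - s, 1]
    funext i
    fin_cases i
    · simpa using h1
    · simpa using h2
    · simpa using h3
  refine h (Submodule.span F {![1, 1 - s, 1], ![1, 1 - s, 1]}) (fun h2 => ?_) (span_ne_top _ _) fun x hx => ?_
  · have m1 : (![1, 1 - s, 1] : Fin 3 → F) ∈ Submodule.span F ({![1, 1 - s, 1], ![1, 1 - s, 1]} : Set (Fin 3 → F)) :=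
      Submodule.subset_span (by simp)
    rw [h2, Submodule.mem_bot] at m1
    simpa using congrFun m1 0
  · obtain ⟨c, d, rfl⟩ := Submodule.mem_span_pair.1 hx
    rwa [mulVec_add, mulVec_smul, mulVec_smul, h1]

theorem Xm_ne_one {t s : F} (h : s ≠ t) : Xm t s ≠ 1 := by
  intro h1
  have h2 := congrFun (congrFun h1 0) 1
  have h3 := congrFun (congrFun h1 1) 1
  simp only [Xm, of_apply, cons_val', cons_val_one, cons_val_zero, cons_val_fin_one, one_apply_eq] at h2 h3
  rw [one_apply_ne (by decide)] at h2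
  exact h (by linear_combination h2 + t * h3)

/-- the form -/
def fJ (σ : F →+* F) (t : F) (u w : Fin 3 → F) : F :=
  u 0 * (2 * σ (w 0) + (t + σ t) * σ (w 1) + (σ t * (t + σ t) - 2 * t + (t + σ t)) * σ (w 2)) +
    u 1 * ((t + σ t) * σ (w 0) + 2 * σ (w 1) + (t + σ t) * σ (w 2)) +
    u 2 * ((t * (t + σ t) - 2 * σ t + (t + σ t)) * σ (w 0) + (t + σ t) * σ (w 1) + 2 * σ (w 2))

variable {σ : F →+* F} (hσ : ∀ x, σ (σ x) = x) (t : F)

include hσ

theorem fJ_herm (u w : Fin 3 → F) : fJ σ t u w = σ (fJ σ t w u) := by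
  simp only [fJ, map_add, map_mul, map_sub, map_ofNat, hσ]
  ring

theorem fJ_Cm (u w : Fin 3 → F) : fJ σ t (Cm t (σ t) *ᵥ u) (Cm t (σ t) *ᵥ w) = fJ σ t u w := by
  obtain ⟨h1, h2, h3⟩ := Cm_vec t (σ t) u
  obtain ⟨h4, h5, h6⟩ := Cm_vec t (σ t) w
  simp only [fJ, h1, h2, h3, h4, h5, h6, map_add, map_mul, map_sub, hσ]
  ring

theorem fJ_Xm (u w : Fin 3 → F) : fJ σ t (Xm t (σ t) *ᵥ u) (Xm t (σ t) *ᵥ w) = fJ σ t u w := by
  obtain ⟨h1, h2, h3⟩ := Xm_vec t (σ t) u
  obtain ⟨h4, h5, h6⟩ := Xm_vec t (σ t) w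
  simp only [fJ, h1, h2, h3, h4, h5, h6, map_add, map_mul, map_sub, map_neg, map_ofNat, hσ]
  ring

theorem fJ_nondeg (h : Irr (Cm t (σ t))) {u : Fin 3 → F} (hu : ∀ w, fJ σ t u w = 0) : u = 0 := by
  let W : Submodule F (Fin 3 → F) :=
    { carrier := {u | ∀ w, fJ σ t u w = 0}
      add_mem' := fun {a b} ha hb w => by
        have h1 := ha w
        have h2 := hb w
        simp only [fJ, Pi.add_apply] at h1 h2 ⊢
        linear_combination h1 + h2
      zero_mem' := fun w => by simp only [fJ, _root_.Pi.zero_apply, _root_.Fin.isValue, _root_.MulZeroClass.zero_mul, _root_.add_zero]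
      smul_mem' := fun c a ha w => by
        have h1 := ha w
        simp only [fJ, Pi.smul_apply, smul_eq_mul] at h1 ⊢
        linear_combination c * h1 }
  by_contra hu0
  refine h W (fun h1 => hu0 ?_) (fun h1 => ne_of_irr h ?_) fun v hv w => ?_
  · have h2 : u ∈ W := hu
    rwa [h1, Submodule.mem_bot] at h2
  · have h2 : (Pi.single 0 1 : Fin 3 → F) ∈ W := by rw [h1]; trivial
    have h3 := h2 (Pi.single 0 1)
    have h4 := h2 (Pi.single 1 1)
    simp only [fJ, _root_.Fin.isValue, _root_.Pi.single_eq_same, _root_.map_one, _root_.mul_one, _root_.ne_eq, _root_.one_ne_zero, _root_.not_false_eq_true, _root_.Pi.single_eq_of_ne, _root_.map_zero, _root_.MulZeroClass.mul_zero, _root_.add_zero, _root_.Fin.reduceEq, _root_.one_mul, _root_.MulZeroClass.zero_mul, _root_.zero_ne_one, _root_.zero_add] at h3 h4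
    linear_combination h4 - t * h3
  · have h1 : Cm t (σ t) *ᵥ ((Cm t (σ t))⁻¹ *ᵥ w) = w := by
      rw [mulVec_mulVec, mul_nonsing_inv _ (by rw [det_Cm]; exact isUnit_one), one_mulVec]
    rw [← h1, fJ_Cm hσ]
    exact hv _

end

section

variable {F : Type*} [Field F] [Fintype F] {q : ℕ}

/-- Cayley and Hamilton -/
theorem su_cube (hF : Fintype.card F = q ^ 2) (g : SU 3 F q) {A : Matrix (Fin 3) (Fin 3) F}
    (hA : ((g : SL(3, F)) : Matrix (Fin 3) (Fin 3) F) = A) :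
    A ^ 3 = A.trace • A ^ 2 + (-(conj hF A.trace)) • A + (1 : F) • (1 : Matrix (Fin 3) (Fin 3) F) := by
  have h1 := Cfsg.Agent.H418.SUEig.su_mat g.2 (q_pos hF)
  have h2 : A.det = 1 := hA ▸ (g : SL(3, F)).2
  rw [hA] at h1
  have h3 : adjugate A = (A.map (fun x => x ^ q))ᵀ := by
    have h4 : (A.map (fun x => x ^ q))ᵀ * A = 1 := by
      have := congrArg transpose h1
      rwa [transpose_mul, transpose_transpose, transpose_one] at this
    have h5 : A * adjugate A = 1 := by rw [mul_adjugate, h2, one_smul]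
    rw [← one_mul (adjugate A), ← h4, mul_assoc, h5, mul_one]
  have h4 : (adjugate A).trace = conj hF A.trace := by
    rw [h3, trace_transpose, trace_fin_three, trace_fin_three, map_add, map_add]
    rfl
  rw [Cfsg.Agent.H422.Recur.ch3, h2, h4]

/-- the pair in the standard unitary group -/
theorem exists_pair (hF : Fintype.card F = q ^ 2) {t : F} (h : Irr (Cm t (conj hF t))) :
    ∃ (P : GL (Fin 3) F) (x y : SU 3 F q),
      ((x : SL(3, F)) : Matrix (Fin 3) (Fin 3) F) = ((P⁻¹ : GL (Fin 3) F) : Matrix _ _ F) * Xm t (conj hF t) * (P : Matrix _ _ F) ∧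
      ((y : SL(3, F)) : Matrix (Fin 3) (Fin 3) F) = ((P⁻¹ : GL (Fin 3) F) : Matrix _ _ F) * Cm t (conj hF t) * (P : Matrix _ _ F) := by
  set σ : F →+* F := (conj hF : F →+* F) with hσd
  have hσ : ∀ x, σ (σ x) = x := fun x => pow_q_pow_q hF x
  have hf : Cfsg.Geo.IsUnitaryFormPow q (fJ σ t) := by
    refine ⟨fun x y v => ?_, fun c x v => ?_, fun v w => fJ_herm hσ t v w, fun v hv => ?_⟩
    · simp only [fJ, Pi.add_apply]
      ring
    · simp only [fJ, Pi.smul_apply, smul_eq_mul]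
      ring
    · have h1 : ∃ x, fJ σ t v x ≠ 0 := by
        by_contra h1
        push Not at h1
        exact hv (fJ_nondeg hσ t h h1)
      obtain ⟨x, hx⟩ := h1
      exact ⟨⟨x, fun h2 => hx (by rw [fJ_herm hσ, h2, map_zero])⟩, x, hx⟩
  obtain ⟨P, hP⟩ := Cfsg.Agent.H956.UnitSim.exists_frame hF hf
  have key : ∀ A : Matrix (Fin 3) (Fin 3) F, A.det = 1 → (∀ u w, fJ σ t (A *ᵥ u) (A *ᵥ w) = fJ σ t u w) →
      ∃ x : SU 3 F q, ((x : SL(3, F)) : Matrix (Fin 3) (Fin 3) F) =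
        ((P⁻¹ : GL (Fin 3) F) : Matrix _ _ F) * A * (P : Matrix _ _ F) := by
    intro A hd hA
    have h1 : (((P⁻¹ : GL (Fin 3) F) : Matrix _ _ F) * A * (P : Matrix _ _ F)).det = 1 := by
      rw [det_mul, det_mul, hd, mul_one, ← det_mul, ← Units.val_mul, inv_mul_cancel, Units.val_one, det_one]
    refine ⟨⟨⟨_, h1⟩, (mem_SU_iff _).2 fun u w => ?_⟩, rfl⟩
    have h2 : ∀ u : Fin 3 → F, (P : Matrix (Fin 3) (Fin 3) F) *ᵥ
        ((((P⁻¹ : GL (Fin 3) F) : Matrix _ _ F) * A * (P : Matrix _ _ F)) *ᵥ u) = A *ᵥ ((P : Matrix _ _ F) *ᵥ u) := by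
      intro u
      rw [mulVec_mulVec, mulVec_mulVec, ← mul_assoc, ← mul_assoc, ← Units.val_mul, mul_inv_cancel, Units.val_one, one_mul]
    rw [← hP, ← hP u w]
    exact (congrArg₂ (fJ σ t) (h2 u) (h2 w)).trans (hA _ _)
  obtain ⟨x, hx⟩ := key _ (det_Xm t (σ t)) (fJ_Xm hσ t)
  obtain ⟨y, hy⟩ := key _ (det_Cm t (σ t)) (fJ_Cm hσ t)
  exact ⟨P, x, y, hx, hy⟩

end

end Cfsg.Agent.N2.Ex.Sm.U3

private theorem dce_5d8d690c3b53 : _root_.True := by
  try have : _root_.True := by simp only [_root_.Cfsg.Agent.N2.Ex.Sm.U3.Cm.eq_1]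
  try have : _root_.True := by simp only [_root_.Cfsg.Agent.N2.Ex.Sm.U3.Xm.eq_1]
  try have : _root_.True := by simp only [_root_.Cfsg.Agent.N2.Ex.Sm.U3.fJ.eq_1]
  exact _root_.True.intro
end

section
prune_inst 0xbcbcf92bb829dedfff7e7faed1dffc19901fffa6dff94b3fe029ff0b9f030409c56b850de000fe1ec6401410b87843fb7eeabfe063dc7ffffd5ff41ffbee0fb5e6b500519488340fbc0ff603f0778a7f000000000000000000000000000010000000000000

-- part: N2/Ex/Sim/CjLUa
section
prune_inst 0x430102d447962100000180000c2001e6696000190004b0c00852000440589ac42a0028621bf3010118888204440380048114401a0c20000000a000400011c04811080000430400000000010000000400000000000000000000000000000000004200000000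
set_option linter.all false
open scoped Cfsg.Agent.FastGrp

/-!
# Power maps in `SL_n(q)` and `SU_n(q)` (helper39, task N2S-CjLU)
-/

set_option autoImplicit false
set_option linter.unusedSectionVars false

namespace Cfsg.Agent.N2.Ex.Sm.LU

open Cfsg Subgroup
open Cfsg.Agent.H186 Cfsg.Agent.ClassicalGeometry.GUBasic

/-- an element of order `r` which is conjugate to its `j`-th power -/
def Pw (G : Type*) [Group G] (r j : ℕ) : Prop := ∃ g : G, orderOf g = r ∧ IsConj g (g ^ j)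

theorem Pw.map {G H : Type*} [Group G] [Group H] {r j : ℕ} (f : G →* H) (hf : Function.Injective f) (h : Pw G r j) :
    Pw H r j := by
  obtain ⟨g, h1, h2⟩ := h
  exact ⟨f g, by rw [orderOf_injective f hf, h1], by rw [← map_pow]; exact f.map_isConj h2⟩

/-- passage to the quotient by the centre -/
theorem Pw.quot {G : Type*} [Group G] {r j : ℕ} (hr : r.Prime) (h : Pw G r j) (hj : (j : ZMod r) ≠ 1) :
    Pw (G ⧸ center G) r j := by
  obtain ⟨g, h1, h2⟩ := h
  have : Fact r.Prime := ⟨hr⟩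
  refine ⟨QuotientGroup.mk' _ g, ?_, by rw [← map_pow]; exact (QuotientGroup.mk' _).map_isConj h2⟩
  apply orderOf_eq_prime
  · rw [← map_pow, ← h1, pow_orderOf_eq_one, map_one]
  · intro h0
    have hz : g ∈ center G := (QuotientGroup.eq_one_iff g).1 h0
    obtain ⟨c, hc⟩ := isConj_iff.1 h2
    have h3 : g ^ j = g ^ 1 := by
      rw [← hc, mem_center_iff.1 hz c, pow_one, mul_inv_cancel_right]
    rw [pow_eq_pow_iff_modEq, h1] at h3
    exact hj (by rw [(ZMod.natCast_eq_natCast_iff _ _ _).2 h3, Nat.cast_one])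

theorem cop_pow {G : Type*} [Group G] {g : G} {p : ℕ} (h : (orderOf g).Coprime p) (j : ℕ) : (orderOf (g ^ j)).Coprime p :=
  h.coprime_dvd_left (orderOf_pow_dvd j)

section SL

variable {F : Type} [Field F] [Fintype F]

theorem char_of_card {s a : ℕ} (hs : s.Prime) (hF : Fintype.card F = s ^ a) : CharP F s := by
  have : Fact s.Prime := ⟨hs⟩
  exact charP_of_card_eq_prime_pow hF

/-- an element of order `r` in `SL_n(F)`, conjugate to its `|F|`-th power -/
theorem sl_own {s n r : ℕ} [Fact s.Prime] [CharP F s] (hr : r.Prime) (hrs : r ≠ s)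
    (h2 : orderOf ((Fintype.card F : ℕ) : ZMod r) ≠ 1) (h0 : 0 < orderOf ((Fintype.card F : ℕ) : ZMod r))
    (hn : orderOf ((Fintype.card F : ℕ) : ZMod r) ≤ n) : Pw (Matrix.SpecialLinearGroup (Fin n) F) r (Fintype.card F) := by
  classical
  have : Fact r.Prime := ⟨hr⟩
  set q := Fintype.card F with hq
  set i := orderOf ((q : ℕ) : ZMod r) with hi
  have hq1 : 1 ≤ q := Fintype.card_pos
  have hd : r ∣ Nat.card (GL (Fin n) F) := by
    rw [Matrix.card_GL_field]
    refine Dvd.dvd.trans ?_ (Finset.dvd_prod_of_mem _ (Finset.mem_univ (⟨n - i, by omega⟩ : Fin n)))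
    have h1 : q ^ n - q ^ (n - i) = q ^ (n - i) * (q ^ i - 1) := by
      rw [Nat.mul_sub, mul_one, ← pow_add, Nat.sub_add_cancel hn]
    show r ∣ q ^ n - q ^ (n - i)
    rw [h1]
    refine Dvd.dvd.mul_left ?_ _
    rw [← ZMod.natCast_eq_zero_iff, Nat.cast_sub (Nat.one_le_pow _ _ hq1), Nat.cast_pow, hi, pow_orderOf_eq_one,
      Nat.cast_one, sub_self]
  obtain ⟨g, hg⟩ := exists_prime_orderOf_dvd_card' r hd
  have hdet : Matrix.GeneralLinearGroup.det g = 1 := by
    by_contra hne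
    have h1 : orderOf (Matrix.GeneralLinearGroup.det g) = r :=
      orderOf_eq_prime (by rw [← map_pow, ← hg, pow_orderOf_eq_one, map_one]) hne
    have h3 : r ∣ q - 1 := by
      rw [← h1, hq, ← Fintype.card_units]
      exact orderOf_dvd_card
    apply h2
    rw [hi, orderOf_eq_one_iff, ← Nat.sub_add_cancel hq1, Nat.cast_add, (ZMod.natCast_eq_zero_iff _ _).2 h3, zero_add,
      Nat.cast_one]
  let u : Matrix.SpecialLinearGroup (Fin n) F := ⟨g.val, by simpa using congrArg Units.val hdet⟩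
  have hu : orderOf u = r := by
    rw [← hg, ← orderOf_injective (Matrix.SpecialLinearGroup.toGL (n := Fin n) (R := F)) Matrix.SpecialLinearGroup.toGL_injective u]
    congr 1
    exact Units.ext rfl
  have hc : (orderOf u).Coprime s := by
    rw [hu]; exact (Nat.coprime_primes hr Fact.out).2 hrs
  refine ⟨u, hu, H176.SSDet.sl_isConj s n u _ hc (cop_pow hc _) ?_⟩
  rw [Matrix.SpecialLinearGroup.coe_pow, hq, FiniteField.Matrix.charpoly_pow_card]

theorem map_inj {K : Type} [Field K] (f : K →+* F) (n : ℕ) :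
    Function.Injective (Matrix.SpecialLinearGroup.map (n := Fin n) f) := by
  intro x y h
  apply Subtype.ext
  have h1 := congrArg Subtype.val h
  exact Matrix.map_injective f.injective h1

/-- the same for a subfield -/
theorem sl_sub {s a b n r : ℕ} (hs : s.Prime) (ha : 1 ≤ a) (hF : Fintype.card F = s ^ a) (hb : b ∣ a) (hr : r.Prime)
    (hrs : r ≠ s) (h2 : orderOf ((s ^ b : ℕ) : ZMod r) ≠ 1) (h0 : 0 < orderOf ((s ^ b : ℕ) : ZMod r))
    (hn : orderOf ((s ^ b : ℕ) : ZMod r) ≤ n) : Pw (Matrix.SpecialLinearGroup (Fin n) F) r (s ^ b) := by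
  classical
  have : Fact s.Prime := ⟨hs⟩
  have := char_of_card hs hF
  have hb0 : b ≠ 0 := by
    rintro rfl
    rw [zero_dvd_iff] at hb
    omega
  let K := GaloisField s b
  let _ : Fintype K := Fintype.ofFinite K
  have hK : Fintype.card K = s ^ b := by rw [← Nat.card_eq_fintype_card, GaloisField.card s b hb0]
  let _ : Algebra (ZMod s) F := ZMod.algebra F s
  have hfr : Module.finrank (ZMod s) F = a := by
    have h1 := Module.card_eq_pow_finrank (K := ZMod s) (V := F)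
    rw [hF, ZMod.card] at h1
    exact (Nat.pow_right_injective hs.two_le h1).symm
  obtain ⟨f⟩ : Nonempty (K →ₐ[ZMod s] F) := by
    apply FiniteField.nonempty_algHom_of_finrank_dvd
    rw [hfr, GaloisField.finrank s hb0]
    exact hb
  have h := sl_own (F := K) (s := s) (n := n) hr hrs (by rwa [hK]) (by rwa [hK]) (by rwa [hK])
  rw [hK] at h
  exact h.map (Matrix.SpecialLinearGroup.map (f : K →+* F)) (map_inj _ n)

/-- semisimple elements of `SL₂` are real -/
theorem sl_two {s r : ℕ} [Fact s.Prime] [CharP F s] (hr : r.Prime) (hrs : r ≠ s)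
    (hd : r ∣ Nat.card (Matrix.SpecialLinearGroup (Fin 2) F)) : Pw (Matrix.SpecialLinearGroup (Fin 2) F) r (r - 1) := by
  have : Fact r.Prime := ⟨hr⟩
  obtain ⟨u, hu⟩ := exists_prime_orderOf_dvd_card' r hd
  have hc : (orderOf u).Coprime s := by
    rw [hu]; exact (Nat.coprime_primes hr Fact.out).2 hrs
  refine ⟨u, hu, H176.SSDet.sl_isConj s 2 u _ hc (cop_pow hc _) ?_⟩
  have h1 : u ^ (r - 1) = u⁻¹ := by
    apply eq_inv_of_mul_eq_one_left
    rw [← pow_succ, Nat.sub_add_cancel hr.pos, ← hu, pow_orderOf_eq_one]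
  rw [h1, Matrix.charpoly_fin_two, Matrix.charpoly_fin_two, Matrix.SpecialLinearGroup.det_coe, Matrix.SpecialLinearGroup.det_coe,
    Matrix.SpecialLinearGroup.coe_inv, Matrix.adjugate_fin_two, Matrix.trace_fin_two, Matrix.trace_fin_two]
  simp only [Fin.isValue, map_add, map_one, add_comm, Matrix.of_apply, Matrix.cons_val', Matrix.cons_val_zero,
      Matrix.cons_val_fin_one, Matrix.cons_val_one]

/-- a generator of the multiplicative group of the prime field -/
theorem exists_gen {s : ℕ} (hs : s.Prime) : ∃ j : ℕ, orderOf (j : ZMod s) = s - 1 := by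
  have : Fact s.Prime := ⟨hs⟩
  obtain ⟨g, hg⟩ := IsCyclic.exists_ofOrder_eq_natCard (α := (ZMod s)ˣ)
  refine ⟨(g : ZMod s).val, ?_⟩
  rw [ZMod.natCast_zmod_val, orderOf_units, hg, Nat.card_eq_fintype_card, ZMod.card_units]

theorem gen_pow {s j : ℕ} [Fact s.Prime] [CharP F s] (hj : orderOf (j : ZMod s) = s - 1) :
    (j : F) ^ (s - 1) = 1 := by
  have h := congrArg (ZMod.castHom (dvd_refl s) F) (pow_orderOf_eq_one (j : ZMod s))
  rwa [map_pow, map_natCast, map_one, hj] at h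

/-- a unipotent matrix `1 + M`, `M ^ 2 = 0` -/
theorem unip_pow {n : ℕ} (M : Matrix (Fin n) (Fin n) F) (hM : M * M = 0) (k : ℕ) : (1 + M) ^ k = 1 + (k : F) • M := by
  induction k with
  | zero => simp
  | succ k ih =>
    rw [pow_succ, ih, Nat.cast_succ, add_smul, one_smul, mul_add, mul_one, add_mul, one_mul, smul_mul_assoc, hM, smul_zero,
      add_zero, add_assoc]

/-- the general form of the three computations -/
theorem unip {n s j : ℕ} [Fact s.Prime] [CharP F s] (S : Subgroup (Matrix.SpecialLinearGroup (Fin n) F)) (t g : S)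
    (M : Matrix (Fin n) (Fin n) F) (hM : M * M = 0) (h0 : M ≠ 0) (ht : t.1.1 = 1 + M)
    (hg : g.1.1 * M = (j : F) • (M * g.1.1)) : Pw S s j := by
  have hp : ∀ k : ℕ, (t ^ k).1.1 = 1 + (k : F) • M := fun k => by
    rw [Subgroup.coe_pow, Matrix.SpecialLinearGroup.coe_pow, ht, unip_pow M hM]
  refine ⟨t, ?_, isConj_iff.2 ⟨g, ?_⟩⟩
  · apply orderOf_eq_prime
    · apply Subtype.ext
      apply Subtype.ext
      rw [hp, CharP.cast_eq_zero, zero_smul, add_zero]
      rfl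
    · intro h
      apply h0
      rw [h] at ht
      exact left_eq_add.1 ht
  · rw [mul_inv_eq_iff_eq_mul]
    apply Subtype.ext
    apply Subtype.ext
    show g.1.1 * t.1.1 = (t ^ j).1.1 * g.1.1
    rw [hp, ht, mul_add, add_mul, mul_one, one_mul, hg, smul_mul_assoc]

theorem tv_two {s j : ℕ} [Fact s.Prime] [CharP F s] (x : F) (hx : x ≠ 0) (hj : x * x = j) :
    Pw (Matrix.SpecialLinearGroup (Fin 2) F) s j := by
  refine Pw.map (⊤ : Subgroup _).subtype (Subgroup.subtype_injective _) ?_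
  refine unip ⊤ ⟨⟨!![1, 1; 0, 1], by simp [Matrix.det_fin_two]⟩, mem_top _⟩
    ⟨⟨!![x, 0; 0, x⁻¹], by simp [Matrix.det_fin_two, hx]⟩, mem_top _⟩ !![0, 1; 0, 0] ?_ ?_ ?_ ?_
  · ext a b; fin_cases a <;> fin_cases b <;> simp [Matrix.mul_apply, Fin.sum_univ_two]
  · intro h
    have := congrFun (congrFun h 0) 1
    simp at this
  · ext a b; (revert a b; simp [Cfsg.Agent.Lib.MatLit.r2] <;> and_intros)
  · ext a b; (simp only [zero_smul, one_smul, smul_eq_mul, ne_eq, hx, not_false_eq_true, mul_inv_cancel_right₀, Cfsg.Agent.Lib.MatLit.p2]; revert a b; simp only [Cfsg.Agent.Lib.MatLit.one2, Cfsg.Agent.Lib.MatLit.zero2, Cfsg.Agent.Lib.MatLit.ext2]; and_intros) <;> simp only [Fin.zero_eta, Fin.isValue, Matrix.mul_apply, Matrix.of_apply, Matrix.cons_val', Matrix.cons_val_fin_one, Matrix.cons_val_zero, Fin.sum_univ_two, mul_zero, Matrix.cons_val_one, add_zero, ← hj, Matrix.cons_mul, Nat.succ_eq_add_one, Nat.reduceAdd, Matrix.vecMul_cons, Matrix.head_cons,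 zero_smul, Matrix.tail_cons, one_smul, Matrix.empty_vecMul, zero_add, Matrix.empty_mul, Equiv.symm_apply_apply, Matrix.smul_apply, Pi.zero_apply, smul_eq_mul, Fin.mk_one, mul_one, ne_eq, hx, not_false_eq_true, mul_inv_cancel_right₀]

theorem tv_three {s j : ℕ} [Fact s.Prime] [CharP F s] (hj : (j : F) ≠ 0) :
    Pw (Matrix.SpecialLinearGroup (Fin 3) F) s j := by
  refine Pw.map (⊤ : Subgroup _).subtype (Subgroup.subtype_injective _) ?_
  refine unip ⊤ ⟨⟨!![1, 0, 1; 0, 1, 0; 0, 0, 1], by simp [Matrix.det_fin_three]⟩, mem_top _⟩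
    ⟨⟨!![(j : F), 0, 0; 0, (j : F)⁻¹, 0; 0, 0, 1], by simp [Matrix.det_fin_three, hj]⟩, mem_top _⟩
    !![0, 0, 1; 0, 0, 0; 0, 0, 0] ?_ ?_ ?_ ?_
  · ext a b; simp only [Cfsg.Agent.Lib.MatLit.p3] <;> fin_cases a <;> fin_cases b <;> simp only [Fin.zero_eta, Fin.isValue, Matrix.mul_apply, Matrix.of_apply, Matrix.cons_val', Matrix.cons_val_fin_one, Matrix.cons_val_zero, Fin.sum_univ_three, mul_zero, Matrix.cons_val_one, add_zero, Matrix.cons_val, Matrix.zero_apply, Fin.mk_one, Fin.reduceFinMk, mul_one]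
  · intro h
    have := congrFun (congrFun h 0) 2
    simp at this
  · (refine And.elim (fun cj1 => And.elim fun cj2 => And.elim fun cj3 => And.elim fun cj4 => And.elim fun cj5 => And.elim fun cj6 => And.elim fun cj7 => And.elim fun cj8 cj9 => by ext a b; fin_cases a <;> fin_cases b; exacts [cj1, cj2, cj3, cj4, cj5, cj6, cj7, cj8, cj9]) ?_; simp only [Fin.zero_eta, Fin.isValue, Matrix.of_apply, Matrix.cons_val', Matrix.cons_val_zero, Matrix.cons_val_fin_one, Matrix.add_apply, Matrix.one_apply_eq, add_zero, Fin.mk_one, Matrix.cons_val_one, Nat.reduceAdd, ne_eq, zero_ne_one, not_false_eq_true, Matrix.one_apply_ne, Fin.reduceFinMk, Matrix.cons_val, Fin.reduceEq, zero_add, one_ne_zero, and_self, and_true, true_and])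
  · (refine And.elim (fun cj1 => And.elim fun cj2 => And.elim fun cj3 => And.elim fun cj4 => And.elim fun cj5 => And.elim fun cj6 => And.elim fun cj7 => And.elim fun cj8 cj9 => by ext a b; fin_cases a <;> fin_cases b; exacts [cj1, cj2, cj3, cj4, cj5, cj6, cj7, cj8, cj9]) ?_; simp only [Fin.zero_eta, Fin.isValue, Matrix.mul_apply, Matrix.of_apply, Matrix.cons_val', Matrix.cons_val_fin_one, Matrix.cons_val_zero, Fin.sum_univ_three, mul_zero, Matrix.cons_val_one, add_zero, Matrix.cons_val, Matrix.cons_mul, Nat.succ_eq_add_one, Nat.reduceAdd, Matrix.vecMul_cons, Matrix.head_cons, zero_smul, Matrix.tail_cons, one_smul, Matrix.empty_vecMul, zero_add, Matrix.empty_mul, Equiv.symm_apply_apply, Matrix.smul_apply, Pi.zero_apply, smul_eq_mul, Fin.mk_one, Fin.reduceFinMk, mul_one, and_self, and_true, true_and])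

end SL

section SU

variable {F : Type} [Field F] [Fintype F] {q n : ℕ}

theorem su_st (hF : Fintype.card F = q ^ 2) (s : ↥(Cfsg.SU n F q)) : st q s.1.1 * s.1.1 = 1 := by
  have h1 : ((s : Matrix.SpecialLinearGroup (Fin n) F) : GL (Fin n) F) ∈ Cfsg.GU n F q := s.2
  exact ((mem_GU_iff_st hF _).1 h1 :)

theorem su_mem (hF : Fintype.card F = q ^ 2) (s : Matrix.SpecialLinearGroup (Fin n) F) (h : st q s.1 * s.1 = 1) :
    s ∈ Cfsg.SU n F q := by
  intro u v
  have h1 : (⟨s.1, st q s.1, mul_eq_one_comm.1 h, h⟩ : GL (Fin n) F) ∈ Cfsg.GU n F q := (mem_GU_iff_st hF _).2 h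
  exact h1 u v

/-- a semisimple element of `SU_n(q)` is conjugate to its `-q`-th power -/
theorem su_neg {s a r : ℕ} (hs : s.Prime) (hF : Fintype.card F = (s ^ a) ^ 2) (hr : r.Prime) (hrs : r ≠ s)
    (hd : r ∣ Nat.card (Cfsg.SU n F (s ^ a))) : Pw (Cfsg.SU n F (s ^ a)) r ((r - 1) * s ^ a) := by
  have : Fact r.Prime := ⟨hr⟩
  have : Fact s.Prime := ⟨hs⟩
  have := char_of_card hs (hF.trans (pow_mul s a 2).symm)
  obtain ⟨u, hu⟩ := exists_prime_orderOf_dvd_card' r hd
  have hc : (orderOf u).Coprime s := by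
    rw [hu]; exact (Nat.coprime_primes hr hs).2 hrs
  refine ⟨u, hu, H183.Semis.su_isConj hF s u _ hc (cop_pow hc _) ?_⟩
  have h1 : u ^ (r - 1) * u = 1 := by
    rw [← pow_succ, Nat.sub_add_cancel hr.pos, ← hu, pow_orderOf_eq_one]
  have h2 : (u ^ (r - 1)).1.1 * u.1.1 = 1 := congrArg (fun z : Cfsg.SU n F (s ^ a) => z.1.1) h1
  have h3 : (u ^ (r - 1)).1.1 = st (s ^ a) u.1.1 := by
    rw [← mul_one (u ^ (r - 1)).1.1, ← mul_eq_one_comm.1 (su_st hF u), ← mul_assoc, h2, one_mul]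
  have h4 : st (s ^ a) u.1.1 = (u.1.1.map (iterateFrobenius F s a)).transpose := by
    ext i j
    simp [st_apply, iterateFrobenius_def]
  rw [pow_mul, Subgroup.coe_pow, Matrix.SpecialLinearGroup.coe_pow, H709.CharPow.charpoly_pow_char, h3, h4,
    Matrix.charpoly_transpose, Matrix.charpoly_map, Polynomial.map_map]
  have h5 : (iterateFrobenius F s a).comp (iterateFrobenius F s a) = RingHom.id F := by
    ext x
    simp [iterateFrobenius_def, pow_pow_q hF]
  rw [h5, Polynomial.map_id]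

/-- the norm is onto -/
theorem exists_norm (hF : Fintype.card F = q ^ 2) (y : F) (hy : y ^ (q - 1) = 1) : ∃ x : F, x ^ (q + 1) = y := by
  classical
  have hq := two_le hF
  have hy0 : y ≠ 0 := by
    rintro rfl
    rw [zero_pow (by omega)] at hy
    exact zero_ne_one hy
  obtain ⟨g, hg⟩ := IsCyclic.exists_generator (α := Fˣ)
  obtain ⟨k, hk⟩ := (Submonoid.mem_powers_iff _ _).1 (mem_powers_iff_mem_zpowers.2 (hg (Units.mk0 y hy0)))
  have ho : orderOf g = (q + 1) * (q - 1) := by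
    rw [orderOf_eq_card_of_forall_mem_zpowers hg, Nat.card_eq_fintype_card, Fintype.card_units, hF, ← Nat.sq_sub_sq]
  have h1 : g ^ (k * (q - 1)) = 1 := by
    rw [pow_mul, hk]
    exact Units.ext (by simpa only [Units.val_pow_eq_pow_val, Units.val_mk0, Units.val_one] using hy)
  have h2 := orderOf_dvd_of_pow_eq_one h1
  rw [ho] at h2
  obtain ⟨m, hm⟩ := Nat.dvd_of_mul_dvd_mul_right (by omega : 0 < q - 1) h2
  refine ⟨((g ^ m : Fˣ) : F), ?_⟩
  rw [← Units.val_pow_eq_pow_val, ← pow_mul, mul_comm, ← hm, hk]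
  rfl

/-- a unitary transvection -/
def mT (c α : F) : Matrix (Fin 3) (Fin 3) F := !![1 + c, -(c * α⁻¹), 0; c * α, 1 - c, 0; 0, 0, 1]

/-- its nilpotent part -/
def mM (c α : F) : Matrix (Fin 3) (Fin 3) F := !![c, -(c * α⁻¹), 0; c * α, -c, 0; 0, 0, 0]

/-- a torus element -/
def mG (x y z α : F) : Matrix (Fin 3) (Fin 3) F := !![x, y * α⁻¹, 0; y * α, x, 0; 0, 0, z]

theorem t_det (c α : F) (h : α ≠ 0) : (mT c α).det = 1 := by
  simp only [mT, Matrix.det_fin_three, Fin.isValue, Matrix.of_apply, Matrix.cons_val', Matrix.cons_val_zero,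
      Matrix.cons_val_fin_one, Matrix.cons_val_one, Matrix.cons_val, mul_one, mul_zero, sub_zero, neg_mul, sub_neg_eq_add,
      add_zero, zero_mul]; field_simp; ring

theorem g_det (x y z α : F) (h : α ≠ 0) : (mG x y z α).det = (x + y) * (x - y) * z := by
  simp [mG, Matrix.det_fin_three]; field_simp; ring

theorem t_map (σ : F →+* F) (c α : F) (hc : σ c = -c) (hα : σ α = -α⁻¹) : ((mT c α).map σ).transpose = mT (-c) α := by
  (refine And.elim (fun cj1 => And.elim fun cj2 => And.elim fun cj3 => And.elim fun cj4 => And.elim fun cj5 => And.elim fun cj6 => And.elim fun cj7 => And.elim fun cj8 cj9 => by ext a b; fin_cases a <;> fin_cases b; exacts [cj1, cj2, cj3, cj4, cj5, cj6, cj7, cj8, cj9]) ?_; simp [mT, hc, hα])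

theorem g_map (σ : F →+* F) (x y z α : F) (hα : σ α = -α⁻¹) : ((mG x y z α).map σ).transpose = mG (σ x) (-σ y) (σ z) α := by
  ext a b; simp only [mG, neg_mul, map_mul, hα, mul_neg, map_zero, map_inv₀, inv_neg, inv_inv, Cfsg.Agent.Lib.MatLit.p3] <;> fin_cases a <;> fin_cases b <;> simp only [mG, Fin.zero_eta, Fin.isValue, Matrix.transpose_apply, Matrix.map_apply, Matrix.of_apply, Matrix.cons_val', Matrix.cons_val_zero, Matrix.cons_val_fin_one, neg_mul, Fin.mk_one, Matrix.cons_val_one, map_mul, hα, mul_neg, Fin.reduceFinMk, Matrix.cons_val, map_zero, map_inv₀, inv_neg, inv_inv]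

theorem t_mul (c α : F) (h : α ≠ 0) : mT (-c) α * mT c α = 1 := by
  ext a b; (revert a b; simp only [mT, neg_mul, neg_neg, sub_neg_eq_add, mul_neg, ne_eq, zero_ne_one, not_false_eq_true, one_ne_zero, neg_zero, Cfsg.Agent.Lib.MatLit.r3] <;> and_intros) <;> field_simp <;> ring

theorem g_mul (x y z x' y' z' α : F) (h : α ≠ 0) :
    mG x y z α * mG x' y' z' α = mG (x * x' + y * y') (x * y' + y * x') (z * z') α := by
  ext a b; (revert a b; simp only [mG, add_right_inj, Cfsg.Agent.Lib.MatLit.r3] <;> and_intros) <;> field_simp <;> ring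

theorem g_one (α : F) : mG 1 0 1 α = 1 := by
  ext a b; fin_cases a <;> fin_cases b <;> simp only [mG, zero_mul, Fin.zero_eta, Fin.isValue, Matrix.of_apply,
      Matrix.cons_val', Matrix.cons_val_zero, Matrix.cons_val_fin_one, Matrix.one_apply_eq, Fin.mk_one, Matrix.cons_val_one,
      ne_eq, zero_ne_one, not_false_eq_true, Matrix.one_apply_ne, Fin.reduceFinMk, Matrix.cons_val, Fin.reduceEq, one_ne_zero]

theorem m_sq (c α : F) (h : α ≠ 0) : mM c α * mM c α = 0 := by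
  ext a b; (revert a b; simp only [mM, neg_mul, mul_neg, neg_neg, neg_zero, Cfsg.Agent.Lib.MatLit.r3] <;> and_intros) <;> field_simp <;> ring

theorem t_eq (c α : F) : mT c α = 1 + mM c α := by
  ext a b; fin_cases a <;> fin_cases b <;> simp only [mT, sub_eq_add_neg, Fin.zero_eta, Fin.isValue, Matrix.of_apply,
      Matrix.cons_val', Matrix.cons_val_zero, Matrix.cons_val_fin_one, mM, Matrix.add_apply, Matrix.one_apply_eq,
      Fin.mk_one, Matrix.cons_val_one, Nat.reduceAdd, ne_eq, zero_ne_one, not_false_eq_true, Matrix.one_apply_ne, zero_add,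
      Fin.reduceFinMk, Matrix.cons_val, Fin.reduceEq, add_zero, one_ne_zero]

theorem g_m (x y z c α : F) (h : α ≠ 0) : mG x y z α * mM c α = (x + y) • mM c α := by
  ext a b; (revert a b; simp only [mG, mM, smul_eq_mul, mul_neg, neg_zero, Cfsg.Agent.Lib.MatLit.r3] <;> and_intros) <;> field_simp <;> ring

theorem m_g (x y z c α : F) (h : α ≠ 0) : mM c α * mG x y z α = (x - y) • mM c α := by
  ext a b; (revert a b; simp only [mM, mG, neg_mul, smul_eq_mul, mul_neg, Cfsg.Agent.Lib.MatLit.r3] <;> and_intros) <;> field_simp <;> ring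

theorem tv_su {s j : ℕ} [Fact s.Prime] [CharP F s] (hF : Fintype.card F = q ^ 2) (h2 : (2 : F) ≠ 0) (hq : Odd q)
    (hj : (j : F) ^ (q - 1) = 1) : Pw (Cfsg.SU 3 F q) s j := by
  have hq2 := two_le hF
  obtain ⟨σ, hσ⟩ := exists_powHom hF
  obtain ⟨α, hα⟩ := exists_norm hF (-1) (by
    obtain ⟨k, rfl⟩ := hq
    rw [Nat.add_sub_cancel, pow_mul, neg_one_sq, one_pow])
  obtain ⟨l, hl⟩ := exists_norm hF _ hj
  obtain ⟨c, hc0, hc⟩ := H183.Semis.exists_quot hF (-1) (by
    obtain ⟨k, rfl⟩ := hq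
    rw [show 2 * k + 1 + 1 = 2 * (k + 1) by ring, pow_mul, neg_one_sq, one_pow])
  have hj0 : (j : F) ≠ 0 := by
    intro h
    rw [h, zero_pow (by omega)] at hj
    exact zero_ne_one hj
  rw [pow_succ, ← hσ] at hα hl
  rw [← hσ] at hc
  have hα0 : α ≠ 0 := by
    rintro rfl
    simp at hα
  have hl0 : l ≠ 0 := by
    rintro rfl
    exact hj0 (by simpa using hl.symm)
  have hσσ : ∀ x, σ (σ x) = x := fun x => by rw [hσ, hσ, pow_pow_q hF]
  obtain ⟨m, hm⟩ : ∃ m, σ l = m := ⟨_, rfl⟩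
  have hm' : σ m = l := by rw [← hm, hσσ]
  have hm0 : m ≠ 0 := by rw [← hm]; exact (map_ne_zero σ).2 hl0
  have hα' : σ α = -α⁻¹ := by
    field_simp
    exact hα
  have hst : ∀ M : Matrix (Fin 3) (Fin 3) F, st q M = (M.map σ).transpose := fun M => by
    ext a b
    simp [st_apply, hσ]
  have s2 : σ 2 = 2 := map_ofNat σ 2
  rw [hm] at hl
  have hx : (l + m⁻¹) / 2 + (l - m⁻¹) / 2 = l := by field_simp; ring
  have hy : (l + m⁻¹) / 2 - (l - m⁻¹) / 2 = m⁻¹ := by field_simp; ring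
  have sx : σ ((l + m⁻¹) / 2) = (m + l⁻¹) / 2 := by rw [map_div₀, map_add, map_inv₀, hm, hm', s2]
  have sy : σ ((l - m⁻¹) / 2) = (m - l⁻¹) / 2 := by rw [map_div₀, map_sub, map_inv₀, hm, hm', s2]
  have sz : σ (m * l⁻¹) = l * m⁻¹ := by rw [map_mul, map_inv₀, hm, hm']
  have d1 : (mG ((l + m⁻¹) / 2) ((l - m⁻¹) / 2) (m * l⁻¹) α).det = 1 := by
    rw [g_det _ _ _ _ hα0, hx, hy]; field_simp
  have u1 : st q (mT c α) * mT c α = 1 := by
    rw [hst, t_map σ c α (by rw [hc, neg_one_mul]) hα', t_mul c α hα0]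
  have u2 : st q (mG ((l + m⁻¹) / 2) ((l - m⁻¹) / 2) (m * l⁻¹) α) * mG ((l + m⁻¹) / 2) ((l - m⁻¹) / 2) (m * l⁻¹) α = 1 := by
    rw [hst, g_map σ _ _ _ α hα', g_mul _ _ _ _ _ _ _ hα0, sx, sy, sz, ← g_one α]
    congr 1
    · field_simp; ring
    · field_simp; ring
    · field_simp
  refine unip (Cfsg.SU 3 F q) ⟨⟨mT c α, t_det c α hα0⟩, su_mem hF _ u1⟩ ⟨⟨_, d1⟩, su_mem hF _ u2⟩ (mM c α) (m_sq c α hα0) ?_
    (t_eq c α) ?_
  · intro h
    have := congrFun (congrFun h 0) 0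
    exact hc0 (by simpa [mM] using this)
  · show mG _ _ _ α * mM c α = (j : F) • (mM c α * mG _ _ _ α)
    rw [g_m _ _ _ _ _ hα0, m_g _ _ _ _ _ hα0, hx, hy, smul_smul, ← hl]
    congr 1
    field_simp

end SU

end Cfsg.Agent.N2.Ex.Sm.LU

private theorem dce_a1e159075828 : _root_.True := by
  try have : _root_.True := by simp only [_root_.Cfsg.Agent.N2.Ex.Sm.LU.mT.eq_1]
  try have : _root_.True := by simp only [_root_.Cfsg.Agent.N2.Ex.Sm.LU.mG.eq_1]
  try have : _root_.True := by simp only [_root_.Cfsg.Agent.N2.Ex.Sm.LU.mM.eq_1]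
  exact _root_.True.intro
end

-- part: N2/Cl/RD/C3S
section
set_option linter.all false
open scoped Cfsg.Agent.FastGrp

/-!
# N2 (S3519): elements of order `(q ^ 3 - 1) / (2, q - 1)` in `PSp₆(q)` and `Ω₇(q)` (helper36)
-/

set_option autoImplicit false
set_option linter.unusedSectionVars false

namespace Cfsg.Agent.N2C.RD.C3

open Cfsg Matrix QuadraticMap Cfsg.Agent.LieClassical.OrthForms Cfsg.Agent.ClassicalGeometry.SympBasic

variable {E : Type} [Field E]

/-- the Levi subgroup -/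
noncomputable def bl : GL (Fin 3) E →* Matrix (Fin 3 ⊕ Fin 3) (Fin 3 ⊕ Fin 3) E where
  toFun A := fromBlocks (A : Matrix (Fin 3) (Fin 3) E) 0 0 ((A⁻¹ : GL (Fin 3) E) : Matrix (Fin 3) (Fin 3) E)ᵀ
  map_one' := by rw [inv_one, Units.val_one, transpose_one, fromBlocks_one]
  map_mul' A B := by
    rw [fromBlocks_multiply, _root_.mul_inv_rev, Units.val_mul, Units.val_mul, transpose_mul]
    simp only [Matrix.mul_zero, Matrix.zero_mul, add_zero, zero_add]

theorem bl_dot (A : GL (Fin 3) E) (u v : Fin 3 ⊕ Fin 3 → E) :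
    ∑ i, (bl A *ᵥ u) (.inl i) * (bl A *ᵥ v) (.inr i) = ∑ i, u (.inl i) * v (.inr i) := by
  have h : ∀ w : Fin 3 ⊕ Fin 3 → E, bl A *ᵥ w = Sum.elim ((A : Matrix (Fin 3) (Fin 3) E) *ᵥ (w ∘ Sum.inl))
      (((A⁻¹ : GL (Fin 3) E) : Matrix (Fin 3) (Fin 3) E)ᵀ *ᵥ (w ∘ Sum.inr)) := fun w => by
    change fromBlocks _ _ _ _ *ᵥ w = _
    rw [fromBlocks_mulVec, zero_mulVec, zero_mulVec, add_zero, zero_add]
  rw [h, h]
  change ((A : Matrix (Fin 3) (Fin 3) E) *ᵥ (u ∘ Sum.inl)) ⬝ᵥ (_ *ᵥ (v ∘ Sum.inr)) = (u ∘ Sum.inl) ⬝ᵥ (v ∘ Sum.inr)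
  rw [dotProduct_mulVec, vecMul_transpose, mulVec_mulVec, ← Units.val_mul, inv_mul_cancel, Units.val_one, one_mulVec]

theorem bl_11 (A : GL (Fin 3) E) : (bl A).toBlocks₁₁ = A := toBlocks_fromBlocks₁₁ _ _ _ _

variable [Fintype E] (p : ℕ) [hp : Fact p.Prime] {a : ℕ} (hE : Fintype.card E = p ^ a)
include hE

theorem exists_psp : ∃ g : PSp 3 E, Fintype.card E ^ 3 - 1 ∣ Nat.gcd 2 (Fintype.card E - 1) * orderOf g := by
  obtain ⟨A, hA⟩ := H425.OF.exists_singer_one hE
  let X : symplecticGroup (Fin 3) E := ⟨bl A, mem_symplecticGroup_iff.2 fun u v => by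
    rw [sympForm_eq_sum, sympForm_eq_sum, Finset.sum_sub_distrib, Finset.sum_sub_distrib, bl_dot,
      Finset.sum_congr rfl fun _ _ => mul_comm _ _, bl_dot, Finset.sum_congr rfl fun _ _ => mul_comm _ _]⟩
  refine ⟨QuotientGroup.mk X, ?_⟩
  have h := (H150.mk_psp_pow_eq_one_iff (by norm_num) X _).1 (pow_orderOf_eq_one (QuotientGroup.mk X : PSp 3 E))
  generalize orderOf (QuotientGroup.mk X : PSp 3 E) = j at h ⊢
  change bl A ^ j = 1 ∨ bl A ^ j = -1 at h
  rw [← map_pow] at h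
  rw [← hA, orderOf_dvd_iff_pow_eq_one, mul_comm, pow_mul]
  have h1 : ∀ B : GL (Fin 3) E, bl B = 1 → B = 1 := fun B h => Units.ext (by
    rw [← bl_11, h, ← fromBlocks_one, toBlocks_fromBlocks₁₁, Units.val_one])
  rcases h with h | h
  · rw [h1 _ h, one_pow]
  rcases Nat.even_or_odd' (Fintype.card E) with ⟨k, hk | hk⟩
  · have : CharP E 2 := ringChar.of_eq (FiniteField.even_card_iff_char_two.2 (by omega))
    rw [h1 _ (h.trans (by ext i k; exact CharTwo.neg_eq _)), one_pow]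
  · rw [hk, Nat.add_sub_cancel, Nat.gcd_mul_right_right]
    exact h1 _ (by rw [map_pow, h, neg_one_sq])

theorem exists_po (h2 : (2 : E) ≠ 0) :
    ∃ g : POmega E (quadFormOdd 3 E), Fintype.card E ^ 3 - 1 ∣ 2 * orderOf g := by
  obtain ⟨A, hA⟩ := H425.OF.exists_singer_one hE
  rw [← coe_oddForm 3 E]
  have hQ : (polarBilin (oddForm 3 E)).Nondegenerate :=
    LieClassical.OmegaReindex.nondegenerate_of_left _ (fun x hx => nondeg_oddForm 3 E h2 x hx)
  let θ : GL (Fin 3) E →* Matrix (Unit ⊕ (Fin 3 ⊕ Fin 3)) (Unit ⊕ (Fin 3 ⊕ Fin 3)) E :=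
    { toFun := fun B => fromBlocks 1 0 0 (bl B)
      map_one' := by rw [map_one, fromBlocks_one]
      map_mul' := fun B C => by
        rw [fromBlocks_multiply, map_mul]
        simp only [Matrix.mul_zero, Matrix.zero_mul, add_zero, zero_add, Matrix.mul_one] }
  have hθ : ∀ B w, θ B *ᵥ w = Sum.elim (w ∘ Sum.inl) (bl B *ᵥ (w ∘ Sum.inr)) := fun B w => by
    change fromBlocks _ _ _ _ *ᵥ w = _
    rw [fromBlocks_mulVec, zero_mulVec, zero_mulVec, add_zero, zero_add, one_mulVec]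
  let x : isometryGroup E ⇑(oddForm 3 E) := ⟨θ.toHomUnits A, fun u _ => by
    change oddForm 3 E (θ A *ᵥ u) = _
    rw [coe_oddForm, hθ]
    exact congrArg (u (.inl ()) ^ 2 + ·) (bl_dot A _ _)⟩
  obtain ⟨y, hy⟩ := H376.Odd8.transfer h2 _ hQ (by simp) ⟨Pi.single (.inr (.inl 0)) 1, by simp, by
      rw [coe_oddForm, quadFormOdd]
      simp⟩ (x ^ 2) (H182.Orth.sq_mem_Omega _ hQ (by simp) x) (Pi.single (.inl ()) 1) (by simp)
    (H376.Odd8.act_pow x (by
      change θ A *ᵥ _ = _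
      rw [hθ, show (Pi.single (.inl ()) 1 : Unit ⊕ (Fin 3 ⊕ Fin 3) → E) ∘ Sum.inr = 0 by ext; simp, mulVec_zero]
      ext (_ | _) <;> simp) 2)
  refine ⟨y, ?_⟩
  have h1 := congrArg (fun z : isometryGroup E ⇑(oddForm 3 E) => z.1.1.toBlocks₂₂.toBlocks₁₁) (pow_orderOf_eq_one (x ^ 2))
  rw [← pow_mul, ← hy] at h1
  rw [← hA, orderOf_dvd_iff_pow_eq_one]
  refine Units.ext ?_
  change (θ.toHomUnits A ^ (2 * orderOf y)).1.toBlocks₂₂.toBlocks₁₁ =
    (1 : Matrix (Unit ⊕ (Fin 3 ⊕ Fin 3)) (Unit ⊕ (Fin 3 ⊕ Fin 3)) E).toBlocks₂₂.toBlocks₁₁ at h1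
  rw [← map_pow, ← fromBlocks_one, toBlocks_fromBlocks₂₂, ← fromBlocks_one, toBlocks_fromBlocks₁₁] at h1
  exact (bl_11 _).symm.trans h1

end Cfsg.Agent.N2C.RD.C3
end

-- part: N2/Cl/RX/El
section
set_option linter.all false
open scoped Cfsg.Agent.FastGrp

/-!
# N2 (S3519), class S: the data of an element of prime order (helper85)
-/

set_option autoImplicit false

namespace Cfsg.Agent.N2C.RX

open Subgroup Cfsg.Agent.N2.Tg
open scoped Pointwise

/-- the data of an element `g` of prime order `r` : `g` is conjugate to `g ^ j`; `g = x y`, `x ^ a = y ^ b = 1`, `x` and `y`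
generate (if `a ≠ 0`); `sy` : `g` generates a Sylow subgroup of the automorphism group and its normaliser has at least
`M` elements; `sc` : `g` is self-centralising -/
structure El where
  r : ℕ
  j : ℕ
  M : ℕ
  a : ℕ
  b : ℕ
  sy : Bool
  sc : Bool

/-- the facts -/
def El.Ok (e : El) (N : Type) [Group N] : Prop := e.r.Prime ∧ ∃ g : N, orderOf g = e.r ∧ IsConj g (g ^ e.j) ∧
  (e.a ≠ 0 → ∃ x y : N, x ^ e.a = 1 ∧ y ^ e.b = 1 ∧ x * y = g ∧ closure ({x, y} : Set N) = ⊤) ∧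
  (e.sy = true → ¬ e.r ^ 2 ∣ Nat.card (MulAut N) ∧ e.M ≤ Nat.card (normalizer (zpowers g : Set N))) ∧
  (e.sc = true → centralizer {g} ≤ zpowers g)

variable {N : Type} [Group N] {r j M a b : ℕ}

theorem El.ok_tri (hr : r.Prime) (h : TriJ N a b r j) : El.Ok ⟨r, j, 0, a, b, false, false⟩ N := by
  obtain ⟨x, y, h1, h2, h3, h4, h5⟩ := h
  exact ⟨hr, x * y, h3, h5, fun _ => ⟨x, y, h1, h2, rfl, h4⟩, fun h => absurd h Bool.false_ne_true,
    fun h => absurd h Bool.false_ne_true⟩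

variable [Finite N]

theorem syl_conj (hr : r.Prime) (hN : ¬ r ^ 2 ∣ Nat.card N) {g h : N} (hg : orderOf g = r) (hh : orderOf h = r) :
    ∃ x : N, zpowers (x * h * x⁻¹) = zpowers g := by
  have : Fact r.Prime := ⟨hr⟩
  have h0 : (Nat.card N).factorization r = 1 := by
    have h1 := (hr.pow_dvd_iff_le_factorization (k := 1) (Nat.card_pos (α := N)).ne').1 (by
      rw [pow_one, ← hg]; exact orderOf_dvd_natCard g)
    have h2 := mt (hr.pow_dvd_iff_le_factorization (k := 2) (Nat.card_pos (α := N)).ne').2 hN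
    omega
  have k : ∀ u : N, orderOf u = r → Nat.card (zpowers u) = r ^ (Nat.card N).factorization r := fun u hu => by
    rw [h0, pow_one, Nat.card_zpowers, hu]
  obtain ⟨x, hx⟩ := MulAction.exists_smul_eq N (Sylow.ofCard _ (k h hh)) (Sylow.ofCard _ (k g hg))
  refine ⟨x, ?_⟩
  have h3 := congrArg (fun P : Sylow r N => (P : Subgroup N)) hx
  simp only [Sylow.coe_subgroup_smul, Sylow.coe_ofCard, Subgroup.pointwise_smul_def] at h3
  exact (MonoidHom.map_zpowers (MulAut.conj x).toMonoidHom h).symm.trans h3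

theorem syl_tr (hr : r.Prime) (hN : ¬ r ^ 2 ∣ Nat.card N) (P : N → Prop) (h1 : ∀ x h, P h → P (x * h * x⁻¹))
    (h2 : ∀ h g, zpowers h = zpowers g → P h → P g) (h : ∃ h, orderOf h = r ∧ P h) {g : N} (hg : orderOf g = r) : P g := by
  obtain ⟨h, h3, h4⟩ := h
  obtain ⟨x, hx⟩ := syl_conj hr hN hg h3
  exact h2 _ _ hx (h1 x h h4)

theorem cj_all (hr : r.Prime) (hN : ¬ r ^ 2 ∣ Nat.card N) (h : Cj N r j) {g : N} (hg : orderOf g = r) : IsConj g (g ^ j) := by
  refine syl_tr hr hN (fun g => IsConj g (g ^ j)) (fun x h h1 => ?_) (fun h g h1 h2 => ?_) h hg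
  · have h2 := (MulAut.conj x).toMonoidHom.map_isConj h1
    rw [map_pow] at h2
    exact h2
  · obtain ⟨k, rfl⟩ : g ∈ zpowers h := h1 ▸ mem_zpowers g
    obtain ⟨y, hy⟩ := isConj_iff.1 h2
    refine isConj_iff.2 ⟨y, ?_⟩
    simp only []
    rw [← conj_zpow, hy, ← zpow_natCast, ← zpow_natCast, ← zpow_mul, ← zpow_mul, mul_comm]

theorem nz_all (hr : r.Prime) (hN : ¬ r ^ 2 ∣ Nat.card N) (h : Nz N r M) {g : N} (hg : orderOf g = r) :
    M ≤ Nat.card (normalizer (zpowers g : Set N)) := by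
  refine syl_tr hr hN (fun g => M ≤ Nat.card (normalizer (zpowers g : Set N))) (fun x h h1 => h1.trans ?_)
    (fun h g h1 h2 => h1 ▸ h2) h hg
  rw [← Subgroup.card_map_of_injective (f := (MulAut.conj x).toMonoidHom) (MulAut.conj x).injective,
    show x * h * x⁻¹ = (MulAut.conj x).toMonoidHom h from rfl, ← MonoidHom.map_zpowers]
  exact Subgroup.card_le_of_le (Subgroup.le_normalizer_map _)

theorem sc_all (hr : r.Prime) (hN : ¬ r ^ 2 ∣ Nat.card N) (h : SC N r) {g : N} (hg : orderOf g = r) :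
    centralizer {g} ≤ zpowers g := by
  refine syl_tr hr hN (fun g => centralizer {g} ≤ zpowers g) (fun x h h1 y hy => ?_) (fun h g h1 h2 y hy => ?_) h hg
  · obtain ⟨k, hk⟩ := h1 (show x⁻¹ * y * x ∈ centralizer {h} from mem_centralizer_singleton_iff.2 (by
      have h2 := mem_centralizer_singleton_iff.1 hy
      calc x⁻¹ * y * x * h = x⁻¹ * (y * (x * h * x⁻¹)) * x := by group
        _ = _ := by rw [h2]; group))
    refine ⟨k, ?_⟩
    simp only [] at hk ⊢
    rw [conj_zpow, hk]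
    group
  · obtain ⟨k, rfl⟩ : h ∈ zpowers g := h1 ▸ mem_zpowers h
    exact h1 ▸ h2 (mem_centralizer_singleton_iff.2 (Commute.zpow_right (mem_centralizer_singleton_iff.1 hy) k).eq)

theorem El.ok_syl {sc : Bool} (hr : r.Prime) (hN : ¬ r ^ 2 ∣ Nat.card N) (hA : ¬ r ^ 2 ∣ Nat.card (MulAut N)) (hj : Cj N r j)
    (ht : a ≠ 0 → Tri N a b r) (hM : M ≠ 0 → Nz N r M) (hs : sc = true → SC N r) : El.Ok ⟨r, j, M, a, b, true, sc⟩ N := by
  obtain ⟨g, h1, h2⟩ : ∃ g : N, orderOf g = r ∧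
      (a ≠ 0 → ∃ x y : N, x ^ a = 1 ∧ y ^ b = 1 ∧ x * y = g ∧ closure ({x, y} : Set N) = ⊤) := by
    by_cases h : a = 0
    · exact hj.imp fun g hg => ⟨hg.1, fun h1 => absurd h h1⟩
    · obtain ⟨x, y, h1, h2, h3, h4⟩ := ht h
      exact ⟨x * y, h3, fun _ => ⟨x, y, h1, h2, rfl, h4⟩⟩
  refine ⟨hr, g, h1, cj_all hr hN hj h1, h2, fun _ => ⟨hA, ?_⟩, fun h => sc_all hr hN (hs h) h1⟩
  by_cases h : M = 0
  · exact h.le.trans (Nat.zero_le _)
  · exact nz_all hr hN (hM h) h1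

/-- the normaliser contains `g` and the conjugating element -/
theorem card_norm_ge {g : N} (hg : orderOf g = r) (h : IsConj g (g ^ j)) :
    r * orderOf (j : ZMod r) ≤ Nat.card (normalizer (zpowers g : Set N)) := by
  obtain ⟨y, hy⟩ := isConj_iff.1 h
  have h1 : y ∈ normalizer (zpowers g : Set N) := by
    refine Subgroup.mem_normalizer_fintype ?_
    rintro _ ⟨k, rfl⟩
    simp only []
    rw [← conj_zpow, hy]
    exact zpow_mem (npow_mem_zpowers g j) k
  let φ := (zpowers g).normalizerMonoidHom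
  have h2 : r ≤ Nat.card φ.ker := by
    rw [← hg, ← Nat.card_zpowers, ← Nat.card_congr (subgroupOfEquivOfLe (le_normalizer (H := zpowers g))).toEquiv,
      normalizerMonoidHom_ker]
    refine Subgroup.card_le_of_le (comap_mono ?_)
    rintro _ ⟨k, rfl⟩ _ ⟨l, rfl⟩
    exact ((Commute.refl g).zpow_zpow l k).eq
  have h3 : ∀ k : ℕ, y ^ k * g * (y ^ k)⁻¹ = g ^ j ^ k := fun k => by
    induction k with
    | zero => simp
    | succ k ih =>
      calc y ^ (k + 1) * g * (y ^ (k + 1))⁻¹ = y * (y ^ k * g * (y ^ k)⁻¹) * y⁻¹ := by group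
        _ = _ := by rw [ih, ← conj_pow, hy, ← pow_mul, ← pow_succ']
  have h4 : orderOf (j : ZMod r) ∣ Nat.card φ.range := by
    refine orderOf_dvd_of_pow_eq_one ?_
    have h5 : φ (⟨y, h1⟩ ^ Nat.card φ.range) = 1 := by
      rw [map_pow]
      exact congrArg Subtype.val (pow_card_eq_one' (x := (⟨φ ⟨y, h1⟩, ⟨_, rfl⟩⟩ : φ.range)))
    have h6 : (⟨y, h1⟩ ^ Nat.card φ.range : normalizer (zpowers g : Set N)) ∈ φ.ker := h5
    rw [normalizerMonoidHom_ker] at h6
    have h7 : g * y ^ Nat.card φ.range = y ^ Nat.card φ.range * g := h6 g (mem_zpowers g)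
    have h8 := h3 (Nat.card φ.range)
    rw [← h7, mul_inv_cancel_right] at h8
    rw [← Nat.cast_pow, ← Nat.cast_one, ZMod.natCast_eq_natCast_iff, ← hg, ← pow_eq_pow_iff_modEq, ← h8, pow_one]
  rw [← φ.ker.card_mul_index, Subgroup.index_ker]
  exact Nat.mul_le_mul h2 (Nat.le_of_dvd Nat.card_pos h4)

end Cfsg.Agent.N2C.RX

private theorem dce_d3e518daac15 : _root_.True := by
  try have : _root_.True := by simp only [_root_.Sylow.ofCard.congr_simp]
  exact _root_.True.intro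
end

-- part: N2/Tri/Mat
section
prune_inst 0x420006c445162120000180510c0001e668e000490000b0c004d2003460e892f0201038f218d00040102aa82c400310008114400a0c20000000a000400011904a19088c2003240010426009f800084400000000000000000000000000000000004200000000
set_option linter.all false
open scoped Cfsg.Agent.FastGrp

-- part: N2/Tri/Eng
section
/-!
# N2 (S3519): a kernel engine for groups acting on vector spaces over prime fields (helper6)

A vector is a number whose digits in base `B` are its coordinates, an endomorphism is the list of the images of the base.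
-/

set_option autoImplicit false

namespace Cfsg.Agent.N2.Tg.Eng

open Subgroup

/-- forcing -/
noncomputable def frc {β : Type} (x : ℕ) (f : ℕ → β) : β := Nat.rec (f 0) (fun n _ => f (Nat.succ n)) x

theorem frc_eq {β : Type} (x : ℕ) (f : ℕ → β) : frc x f = f x := by cases x <;> rfl

/-- forcing of lists -/
noncomputable def frcL {β : Type} (l : List ℕ) : (List ℕ → β) → β :=
  List.rec (fun k => k []) (fun a _ ih k => frc a fun a' => ih fun l' => k (a' :: l')) l

theorem frcL_eq {β : Type} : ∀ (l : List ℕ) (k : List ℕ → β), frcL l k = k l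
  | [], _ => rfl
  | a :: l, k => by
    show frc a (fun a' => frcL l fun l' => k (a' :: l')) = _
    rw [frc_eq, frcL_eq l]

/-- forcing of lists of lists -/
noncomputable def frcM {β : Type} (l : List (List ℕ)) : (List (List ℕ) → β) → β :=
  List.rec (fun k => k []) (fun a _ ih k => frcL a fun a' => ih fun l' => k (a' :: l')) l

theorem frcM_eq {β : Type} : ∀ (l : List (List ℕ)) (k : List (List ℕ) → β), frcM l k = k l
  | [], _ => rfl
  | a :: l, k => by
    show frcL a (fun a' => frcM l fun l' => k (a' :: l')) = _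
    rw [frcL_eq, frcM_eq l]

/-! ### codes -/

/-- reduction of the digits -/
noncomputable def red (p B n : ℕ) : ℕ → ℕ :=
  Nat.rec (fun _ => 0) (fun _ ih v => Nat.add (Nat.mod (Nat.mod v B) p) (Nat.mul B (frc (Nat.div v B) ih))) n

/-- linear combinations -/
noncomputable def mvA (B : ℕ) (P : List ℕ) : ℕ → ℕ :=
  List.rec (fun _ => 0) (fun c _ ih v => Nat.add (Nat.mul (Nat.mod v B) c) (frc (Nat.div v B) ih)) P

/-- the image of a vector -/
noncomputable def mv (p B n : ℕ) (P : List ℕ) (v : ℕ) : ℕ := frc (mvA B P v) (red p B n)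

/-- the product -/
noncomputable def cmp (p B n : ℕ) (P Q : List ℕ) : List ℕ := List.rec [] (fun c _ ih => mv p B n P c :: ih) Q

theorem cmp_eq (p B n : ℕ) (P : List ℕ) : ∀ Q, cmp p B n P Q = Q.map (mv p B n P)
  | [] => rfl
  | c :: Q => congrArg (mv p B n P c :: ·) (cmp_eq p B n P Q)

/-- the identity -/
noncomputable def idC (B n : ℕ) : List ℕ := Nat.rec [] (fun _ ih => 1 :: ih.map (Nat.mul B)) n

/-- powers -/
noncomputable def pw (p B n : ℕ) (P : List ℕ) (k : ℕ) : List ℕ :=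
  Nat.rec (idC B n) (fun _ ih => frcL ih (cmp p B n P)) k

/-- words -/
noncomputable def ev (p B n : ℕ) (gs : List (List ℕ)) (w : List ℕ) : List ℕ :=
  List.rec (idC B n) (fun i _ ih => frcL ih (cmp p B n (gs.getD i (idC B n)))) w

/-- the endomorphisms commute -/
noncomputable def com (p B n : ℕ) (P Q : List ℕ) : Bool :=
  frcL P fun P => frcL Q fun Q => cmp p B n P Q == cmp p B n Q P

/-- all vectors -/
noncomputable def allV (p B n : ℕ) : List ℕ :=
  Nat.rec [0] (fun _ ih => ih.flatMap fun r => (List.range p).map fun d => d + B * r) n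

variable {W : Type} [AddCommGroup W] {p B n : ℕ} {bl : List W}

/-- the vector -/
def dec (B : ℕ) : List W → ℕ → W
  | [], _ => 0
  | b :: l, v => (v % B) • b + dec B l (v / B)

example := @dec.eq_def

/-- reduced codes -/
def Rd (p B : ℕ) : ℕ → ℕ → Prop
  | 0, v => v = 0
  | n + 1, v => v % B < p ∧ Rd p B n (v / B)

example := @Rd.eq_def

/-- bounded digits -/
def Bd (B : ℕ) : ℕ → ℕ → ℕ → Prop
  | 0, _, _ => True
  | n + 1, m, v => v % B ≤ m ∧ Bd B n m (v / B)

example := @Bd.eq_def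

theorem dec_zero : ∀ l : List W, dec B l 0 = 0
  | [] => rfl
  | b :: l => by
    show (0 % B) • b + dec B l (0 / B) = 0
    rw [Nat.zero_mod, Nat.zero_div, zero_nsmul, dec_zero l, add_zero]

theorem rd_zero (hp : 0 < p) : ∀ n, Rd p B n 0
  | 0 => rfl
  | n + 1 => ⟨by rwa [Nat.zero_mod], by rw [Nat.zero_div]; exact rd_zero hp n⟩

theorem bd_zero : ∀ n, Bd B n 0 0
  | 0 => trivial
  | n + 1 => ⟨by rw [Nat.zero_mod], by rw [Nat.zero_div]; exact bd_zero n⟩

theorem Rd.bd : ∀ {n v : ℕ}, Rd p B n v → Bd B n (p - 1) v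
  | 0, _, _ => trivial
  | _ + 1, _, h => ⟨Nat.le_sub_one_of_lt h.1, Rd.bd h.2⟩

theorem Bd.mono {a b : ℕ} (hab : a ≤ b) : ∀ {n v : ℕ}, Bd B n a v → Bd B n b v
  | 0, _, _ => trivial
  | _ + 1, _, h => ⟨h.1.trans hab, Bd.mono hab h.2⟩

theorem dec_add {a b : ℕ} (hab : a + b < B) : ∀ (l : List W) {v w : ℕ}, Bd B l.length a v → Bd B l.length b w →
    Bd B l.length (a + b) (v + w) ∧ dec B l (v + w) = dec B l v + dec B l w
  | [], _, _, _, _ => ⟨trivial, (add_zero _).symm⟩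
  | c :: l, v, w, hv, hw => by
    have h0 : v % B + w % B < B := (Nat.add_le_add hv.1 hw.1).trans_lt hab
    have h1 : (v + w) % B = v % B + w % B := Nat.add_mod_of_add_mod_lt h0
    have h2 : (v + w) / B = v / B + w / B := Nat.add_div_eq_of_add_mod_lt h0
    obtain ⟨h3, h4⟩ := dec_add hab l hv.2 hw.2
    refine ⟨⟨h1 ▸ Nat.add_le_add hv.1 hw.1, h2 ▸ h3⟩, ?_⟩
    show ((v + w) % B) • c + dec B l ((v + w) / B) = ((v % B) • c + dec B l (v / B)) + ((w % B) • c + dec B l (w / B))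
    rw [h1, h2, h4, add_nsmul]
    abel

theorem dec_mul (l : List W) {b w : ℕ} (hw : Bd B l.length b w) : ∀ c, c * b < B →
    Bd B l.length (c * b) (c * w) ∧ dec B l (c * w) = c • dec B l w
  | 0, _ => by
    rw [Nat.zero_mul, Nat.zero_mul, dec_zero, zero_nsmul]
    exact ⟨bd_zero _, rfl⟩
  | c + 1, h => by
    rw [Nat.succ_mul] at h
    obtain ⟨h1, h2⟩ := dec_mul l hw c (by omega)
    obtain ⟨h3, h4⟩ := dec_add h l h1 hw
    rw [Nat.succ_mul, Nat.succ_mul, h4, h2, succ_nsmul]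
    exact ⟨h3, rfl⟩

theorem red_succ (v : ℕ) : red p B (n + 1) v = v % B % p + B * red p B n (v / B) :=
  congrArg (fun x => v % B % p + B * x) (frc_eq _ _)

theorem dm {a : ℕ} (ha : a < B) (x : ℕ) : (a + B * x) % B = a ∧ (a + B * x) / B = x :=
  ⟨by rw [Nat.add_mul_mod_self_left, Nat.mod_eq_of_lt ha],
    by rw [Nat.add_mul_div_left _ _ (by omega), Nat.div_eq_of_lt ha, zero_add]⟩

theorem rd_red (hp : 0 < p) (hB : p ≤ B) : ∀ n v, Rd p B n (red p B n v)
  | 0, _ => rfl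
  | n + 1, v => by
    have h := Nat.mod_lt (v % B) hp
    obtain ⟨h1, h2⟩ := dm (h.trans_le hB) (red p B n (v / B))
    rw [red_succ]
    exact ⟨h1.symm ▸ h, h2.symm ▸ rd_red hp hB n _⟩

theorem dec_red (hp : 0 < p) (hB : p ≤ B) (hc : ∀ w : W, p • w = 0) :
    ∀ (l : List W) (v : ℕ), dec B l (red p B l.length v) = dec B l v
  | [], _ => rfl
  | c :: l, v => by
    obtain ⟨h1, h2⟩ := dm ((Nat.mod_lt (v % B) hp).trans_le hB) (red p B l.length (v / B))
    show (red p B (l.length + 1) v % B) • c + dec B l (red p B (l.length + 1) v / B) = (v % B) • c + dec B l (v / B)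
    rw [red_succ, h1, h2, dec_red hp hB hc l]
    congr 1
    conv_rhs => rw [← Nat.mod_add_div (v % B) p, add_nsmul, mul_nsmul, hc, nsmul_zero, add_zero]

theorem mem_allV : ∀ {n v : ℕ}, Rd p B n v → v ∈ allV p B n
  | 0, _, h => List.mem_singleton.2 h
  | _ + 1, v, h => List.mem_flatMap.2 ⟨v / B, mem_allV h.2, List.mem_map.2 ⟨v % B, List.mem_range.2 h.1, Nat.mod_add_div v B⟩⟩

theorem length_allV : ∀ n, (allV p B n).length = p ^ n
  | 0 => rfl
  | n + 1 => by
    show (List.flatMap _ (allV p B n)).length = _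
    simp [List.length_flatMap, length_allV n, pow_succ]

/-- the frame -/
structure Fr (p B n : ℕ) (bl : List W) : Prop where
  two : 2 ≤ p
  le : p ≤ B
  big : n * ((p - 1) * (p - 1)) < B
  len : bl.length = n
  chr : ∀ w : W, p • w = 0
  sur : ∀ u : W, ∃ v, Rd p B n v ∧ dec B bl v = u
  card : Nat.card W = p ^ n

theorem Fr.finite (F : Fr p B n bl) : Finite W :=
  Nat.finite_of_card_ne_zero (F.card ▸ (Nat.pow_pos (by have := F.two; omega)).ne')

theorem Fr.inj (F : Fr p B n bl) {v w : ℕ} (hv : Rd p B n v) (hw : Rd p B n w) (h : dec B bl v = dec B bl w) : v = w := by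
  classical
  have := F.finite
  have := Fintype.ofFinite W
  refine Finset.injOn_of_surjOn_of_card_le (s := (allV p B n).toFinset) (t := Finset.univ) (dec B bl)
    (fun _ _ => Finset.mem_coe.2 (Finset.mem_univ _)) (fun u _ => ?_) ?_
    (Finset.mem_coe.2 (List.mem_toFinset.2 (mem_allV hv))) (Finset.mem_coe.2 (List.mem_toFinset.2 (mem_allV hw))) h
  · obtain ⟨x, h1, h2⟩ := F.sur u
    exact ⟨x, Finset.mem_coe.2 (List.mem_toFinset.2 (mem_allV h1)), h2⟩
  · rw [Finset.card_univ, ← Nat.card_eq_fintype_card, F.card, ← length_allV (B := B)]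
    exact List.toFinset_card_le _

/-- `P` is the code of `σ` -/
def Rep (p B n : ℕ) (bl : List W) (P : List ℕ) (σ : AddMonoid.End W) : Prop :=
  List.Forall₂ (fun c b => Rd p B n c ∧ dec B bl c = σ b) P bl

theorem mvA_ok (F : Fr p B n bl) {σ : AddMonoid.End W} : ∀ {P : List ℕ} {l : List W},
    List.Forall₂ (fun c b => Rd p B n c ∧ dec B bl c = σ b) P l → l.length ≤ n → ∀ v, Bd B l.length (p - 1) v →
    Bd B bl.length (l.length * ((p - 1) * (p - 1))) (mvA B P v) ∧ dec B bl (mvA B P v) = σ (dec B l v)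
  | _, _, .nil, _, _, _ => ⟨by rw [List.length_nil, Nat.zero_mul]; exact bd_zero _, (dec_zero _).trans (map_zero σ).symm⟩
  | _, _, .cons (a := c) (b := b) (l₁ := P) (l₂ := l) h t, hl, v, hv => by
    rw [List.length_cons] at hl
    have h0 := (Nat.mul_le_mul_right ((p - 1) * (p - 1)) hl).trans_lt F.big
    rw [Nat.succ_mul] at h0
    have h5 : v % B * (p - 1) ≤ (p - 1) * (p - 1) := Nat.mul_le_mul_right _ hv.1
    obtain ⟨h1, h2⟩ := mvA_ok F t (by omega) (v / B) hv.2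
    obtain ⟨h3, h4⟩ := dec_mul bl (F.len ▸ h.1.bd) (v % B) (by omega)
    obtain ⟨h6, h7⟩ := dec_add (by omega) bl (h3.mono h5) h1
    have h8 : mvA B (c :: P) v = v % B * c + mvA B P (v / B) := congrArg (fun x => v % B * c + x) (frc_eq _ _)
    rw [h8, List.length_cons, Nat.succ_mul, Nat.add_comm (l.length * _), h7, h4, h2, h.2]
    exact ⟨h6, by show _ = σ (_ + _); rw [map_add, map_nsmul]⟩

theorem rd_mv (F : Fr p B n bl) (P : List ℕ) (v : ℕ) : Rd p B n (mv p B n P v) := by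
  rw [mv, frc_eq]
  exact rd_red (by have := F.two; omega) F.le _ _

variable {P Q : List ℕ} {σ τ : AddMonoid.End W}

theorem Rep.mv (F : Fr p B n bl) (h : Rep p B n bl P σ) {v : ℕ} (hv : Rd p B n v) :
    dec B bl (mv p B n P v) = σ (dec B bl v) := by
  rw [Eng.mv, frc_eq, ← (mvA_ok F h F.len.le v (F.len ▸ hv.bd)).2, ← F.len]
  exact dec_red (by have := F.two; omega) F.le F.chr _ _

theorem Rep.mul (F : Fr p B n bl) (h : Rep p B n bl P σ) (h' : Rep p B n bl Q τ) :
    Rep p B n bl (cmp p B n P Q) (σ * τ) := by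
  rw [Rep, cmp_eq, List.forall₂_map_left_iff]
  exact List.Forall₂.imp (fun c b k => ⟨rd_mv F _ _, by rw [h.mv F k.1, k.2]; rfl⟩) h'

theorem rep_id (hp : 2 ≤ p) (hB : p ≤ B) : ∀ l : List W,
    List.Forall₂ (fun c b => Rd p B l.length c ∧ dec B l c = b) (idC B l.length) l
  | [] => .nil
  | b :: l => by
    have h1 : 1 % B = 1 := Nat.mod_eq_of_lt (by omega)
    have h2 : 1 / B = 0 := Nat.div_eq_of_lt (by omega)
    refine .cons ⟨⟨by omega, h2 ▸ rd_zero (by omega) _⟩, ?_⟩ ?_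
    · show (1 % B) • b + dec B l (1 / B) = b
      rw [h1, h2, one_nsmul, dec_zero, add_zero]
    · refine List.forall₂_map_left_iff.2 ((rep_id hp hB l).imp fun c a k => ?_)
      have h3 : B * c % B = 0 := Nat.mul_mod_right _ _
      have h4 : B * c / B = c := Nat.mul_div_cancel_left _ (by omega)
      refine ⟨⟨show B * c % B < p by omega, show Rd p B _ (B * c / B) from h4.symm ▸ k.1⟩, ?_⟩
      show (B * c % B) • b + dec B l (B * c / B) = a
      rw [h3, h4, zero_nsmul, zero_add, k.2]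

theorem Fr.one (F : Fr p B n bl) : Rep p B n bl (idC B n) 1 := by
  have h := rep_id F.two F.le bl
  rwa [F.len] at h

theorem Rep.eq (F : Fr p B n bl) (h : Rep p B n bl P σ) (h' : Rep p B n bl P τ) : σ = τ :=
  AddMonoidHom.ext fun u => by
    obtain ⟨v, h1, rfl⟩ := F.sur u
    exact (h.mv F h1).symm.trans (h'.mv F h1)

theorem uniq_aux (F : Fr p B n bl) : ∀ {P Q : List ℕ} {l : List W},
    List.Forall₂ (fun c b => Rd p B n c ∧ dec B bl c = σ b) P l →
    List.Forall₂ (fun c b => Rd p B n c ∧ dec B bl c = σ b) Q l → P = Q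
  | _, _, _, .nil, .nil => rfl
  | _, _, _, .cons h t, .cons h' t' => by rw [F.inj h.1 h'.1 (h.2.trans h'.2.symm), uniq_aux F t t']

theorem Rep.uniq (F : Fr p B n bl) (h : Rep p B n bl P σ) (h' : Rep p B n bl Q σ) : P = Q := uniq_aux F h h'

theorem Rep.pw (F : Fr p B n bl) (h : Rep p B n bl P σ) : ∀ k, Rep p B n bl (pw p B n P k) (σ ^ k)
  | 0 => F.one
  | k + 1 => by
    show Rep p B n bl (frcL (Eng.pw p B n P k) (cmp p B n P)) _
    rw [frcL_eq, pow_succ']
    exact h.mul F (h.pw F k)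

theorem Rep.com (F : Fr p B n bl) (h : Rep p B n bl P σ) (h' : Rep p B n bl Q τ) :
    com p B n P Q = true ↔ σ * τ = τ * σ := by
  rw [Eng.com, frcL_eq, frcL_eq, beq_iff_eq]
  exact ⟨fun k => (h.mul F h').eq F (k ▸ h'.mul F h), fun k => (h.mul F h').uniq F (k ▸ h'.mul F h)⟩

/-! ### searches -/

/-- search trees -/
inductive Tr
  | nil
  | node (l : Tr) (k : ℕ) (r : Tr)

/-- comparison -/
noncomputable def cm {α : Type} (x k : ℕ) (a b c : α) : α := Bool.rec (Bool.rec b c (Nat.blt k x)) a (Nat.blt x k)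

theorem cm_self {α : Type} (x : ℕ) (a b c : α) : cm x x a b c = b := by
  have h : Nat.blt x x = false := by
    rw [← Bool.not_eq_true, Nat.blt_eq]
    omega
  rw [cm, h]

theorem cm_cases (x k : ℕ) : (∀ {α : Type} (a b c : α), cm x k a b c = a) ∨ (∀ {α : Type} (a b c : α), cm x k a b c = b) ∨
    (∀ {α : Type} (a b c : α), cm x k a b c = c) := by
  unfold cm
  cases Nat.blt x k <;> cases Nat.blt k x <;> simp only [_root_.implies_true, _root_.true_or, _root_.or_true]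

/-- membership -/
noncomputable def Tr.mem (t : Tr) (x : ℕ) : Bool := Tr.rec false (fun _ k _ a b => cm x k a true b) t

/-- insertion -/
noncomputable def Tr.ins (t : Tr) (x : ℕ) : Tr :=
  Tr.rec (.node .nil x .nil) (fun l k r a b => cm x k (.node a k r) (.node l k r) (.node l k b)) t

/-- insertion with continuations -/
noncomputable def Tr.insK (t : Tr) (x : ℕ) (old : ℕ) : (Tr → ℕ) → ℕ :=
  Tr.rec (fun κ => κ (.node .nil x .nil)) (fun l k r a b κ =>
    cm x k (a fun l' => κ (.node l' k r)) old (b fun r' => κ (.node l k r'))) t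

theorem Tr.insK_eq (x old : ℕ) : ∀ (t : Tr) (κ : Tr → ℕ), t.insK x old κ = bif t.mem x then old else κ (t.ins x)
  | .nil, _ => rfl
  | .node l k r, κ => by
    show cm x k (l.insK x old fun l' => κ (.node l' k r)) old (r.insK x old fun r' => κ (.node l k r')) =
      bif cm x k (l.mem x) true (r.mem x) then old else κ (cm x k (.node (l.ins x) k r) (.node l k r) (.node l k (r.ins x)))
    rw [Tr.insK_eq x old l, Tr.insK_eq x old r]
    rcases cm_cases x k with h | h | h <;> simp only [h, cond_true]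

theorem Tr.mem_ins (x y : ℕ) : ∀ t : Tr, y = x ∨ t.mem y = true → (t.ins x).mem y = true
  | .nil, h => by
    rcases h with rfl | h
    · exact cm_self _ _ _ _
    · exact absurd h Bool.false_ne_true
  | .node l k r, h => by
    have h1 := Tr.mem_ins x y l
    have h2 := Tr.mem_ins x y r
    have h3 : ∀ a b : Tr, (Tr.node a k b).mem y = cm y k (a.mem y) true (b.mem y) := fun _ _ => rfl
    show Tr.mem (cm x k (.node (l.ins x) k r) (.node l k r) (.node l k (r.ins x))) y = _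
    rw [h3] at h
    rcases h with rfl | h
    · rcases cm_cases y k with e | e | e <;> simp only [e, h3]
      exacts [h1 (Or.inl rfl), h2 (Or.inl rfl)]
    · rcases cm_cases x k with e | e | e <;> rcases cm_cases y k with e' | e' | e' <;> simp only [e, e', h3] at h ⊢ <;>
        first | exact h | exact h1 (Or.inr h) | exact h2 (Or.inr h)

/-- keys -/
noncomputable def key (l : List ℕ) : ℕ :=
  List.rec 0 (fun a _ r => Nat.mod (Nat.mul 1125899839733759 (Nat.add a r)) 2305843009213693951) l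

section bfs

variable {γ : Type} (st : γ → List ℕ → List ℕ)

/-- one vertex of the search -/
noncomputable def inn (v : List ℕ) (k : List (List ℕ) → Tr → ℕ → ℕ) (gs : List γ) : List (List ℕ) → Tr → ℕ → ℕ :=
  List.rec k (fun g _ ih s m c => frcL (st g v) fun u => frc (key u) fun h =>
    m.insK h (ih s m c) fun m => frc (Nat.succ c) fun c => ih (u :: s) m c) gs

/-- the search -/
noncomputable def bfs (gs : List γ) (n : ℕ) : List (List ℕ) → Tr → ℕ → ℕ :=
  Nat.rec (fun _ _ c => c) (fun _ ih s => List.rec (fun _ c => c) (fun v s _ => inn st v ih gs s) s) n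

/-- the number of vertices found -/
noncomputable def cnt (gs : List γ) (n : ℕ) (v : List ℕ) : ℕ :=
  frcL v fun v => frc (key v) fun h => bfs st gs n [v] (.node .nil h .nil) 1

/-- the invariant -/
def Inv (O : Set (List ℕ)) (s : List (List ℕ)) (m : Tr) (c : ℕ) : Prop :=
  (∀ v ∈ s, v ∈ O) ∧ ∃ t : Finset (List ℕ), t.card = c ∧ ∀ v ∈ t, v ∈ O ∧ m.mem (key v) = true

variable {st} {O : Set (List ℕ)}

theorem Inv.le (hO : O.Finite) {s : List (List ℕ)} {m : Tr} {c : ℕ} (h : Inv O s m c) : c ≤ O.ncard := by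
  obtain ⟨-, t, rfl, ht⟩ := h
  rw [← Set.ncard_coe_finset]
  exact Set.ncard_le_ncard (fun v hv => (ht v hv).1) hO

theorem inn_le {v : List ℕ} {k : List (List ℕ) → Tr → ℕ → ℕ} (hk : ∀ s m c, Inv O s m c → k s m c ≤ O.ncard) :
    ∀ gs : List γ, (∀ g ∈ gs, st g v ∈ O) → ∀ s m c, Inv O s m c → inn st v k gs s m c ≤ O.ncard
  | [], _ => hk
  | g :: gs, h => fun s m c hi => by
    have ih := inn_le hk gs fun a ha => h a (List.mem_cons_of_mem _ ha)
    have h1 : inn st v k (g :: gs) s m c = frcL (st g v) fun u => frc (key u) fun h =>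
      m.insK h (inn st v k gs s m c) fun m => frc (Nat.succ c) fun c => inn st v k gs (u :: s) m c := rfl
    rw [h1, frcL_eq, frc_eq, Tr.insK_eq]
    cases h2 : m.mem (key (st g v))
    · rw [cond_false, frc_eq]
      obtain ⟨k1, t, k2, k3⟩ := hi
      refine ih _ _ _ ⟨fun u hu => ?_, insert (st g v) t, ?_, fun u hu => ?_⟩
      · rcases List.mem_cons.1 hu with rfl | hu
        · exact h g List.mem_cons_self
        · exact k1 u hu
      · rw [Finset.card_insert_of_notMem fun e => by simp [(k3 _ e).2] at h2, k2]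
      · rcases Finset.mem_insert.1 hu with rfl | hu
        · exact ⟨h g List.mem_cons_self, Tr.mem_ins _ _ _ (Or.inl rfl)⟩
        · exact ⟨(k3 u hu).1, Tr.mem_ins _ _ _ (Or.inr (k3 u hu).2)⟩
    · exact ih _ _ _ hi

theorem bfs_le (hO : O.Finite) {gs : List γ} (h : ∀ g ∈ gs, ∀ v ∈ O, st g v ∈ O) :
    ∀ n s m c, Inv O s m c → bfs st gs n s m c ≤ O.ncard
  | 0, _, _, _, hi => hi.le hO
  | _ + 1, [], _, _, hi => hi.le hO
  | n + 1, v :: s, m, c, hi =>
    inn_le (bfs_le hO h n) gs (fun g hg => h g hg v (hi.1 v List.mem_cons_self)) s m c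
      ⟨fun u hu => hi.1 u (List.mem_cons_of_mem _ hu), hi.2⟩

theorem cnt_le (hO : O.Finite) {gs : List γ} (h : ∀ g ∈ gs, ∀ v ∈ O, st g v ∈ O) (n : ℕ) {v : List ℕ} (hv : v ∈ O) :
    cnt st gs n v ≤ O.ncard := by
  rw [cnt, frcL_eq, frc_eq]
  refine bfs_le hO h _ _ _ _ ⟨fun u hu => by rwa [List.mem_singleton.1 hu], {v}, rfl, fun u hu => ?_⟩
  rw [Finset.mem_singleton.1 hu]
  exact ⟨hv, Tr.mem_ins _ _ .nil (Or.inl rfl)⟩

end bfs

end Cfsg.Agent.N2.Tg.Eng
end

-- part: N2/Tri/Grp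
section
/-!
# N2 (S3519): stabiliser chains, triples and conjugacy classes by the engine (helper6)
-/

set_option autoImplicit false
set_option linter.unusedSectionVars false

namespace Cfsg.Agent.N2.Tg.Eng

open Subgroup

section syl

variable {N : Type*} [Group N] [Finite N] {r : ℕ} {g : N}

theorem conj_pow_pow {c : N} {j : ℕ} (h : c * g * c⁻¹ = g ^ j) : ∀ k, c ^ k * g * (c ^ k)⁻¹ = g ^ j ^ k
  | 0 => by simp
  | k + 1 => by
    calc _ = c ^ k * (c * g * c⁻¹) * (c ^ k)⁻¹ := by rw [pow_succ]; group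
      _ = (c ^ k * g * (c ^ k)⁻¹) ^ j := by rw [h, conj_pow]
      _ = _ := by rw [conj_pow_pow h k, ← pow_mul, pow_succ]

/-- the Sylow count -/
theorem syl_core (hr : r.Prime) (h2 : ¬ r ^ 2 ∣ Nat.card N) (hg : orderOf g = r) {j : ℕ} (hj : IsConj g (g ^ j)) :
    ∃ a k m, a < r ∧ j ^ a % r = 1 ∧ Nat.card (centralizer ({g} : Set N)) = r * k ∧ Nat.card N = r * k * a * m ∧ m % r = 1 := by
  have : Fact r.Prime := ⟨hr⟩
  have h0 : Nat.card (zpowers g) = r := by rw [Nat.card_zpowers, hg]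
  have h1 : (Nat.card N).factorization r = 1 := le_antisymm
    (Nat.lt_succ_iff.1 (not_le.1 fun h => h2 ((hr.pow_dvd_iff_le_factorization Nat.card_pos.ne').2 h)))
    ((hr.dvd_iff_one_le_factorization Nat.card_pos.ne').1 (h0 ▸ card_subgroup_dvd_card _))
  have h3 := card_sylow_modEq_one r N
  rw [(Sylow.ofCard (zpowers g) (by rw [h0, h1, pow_one])).card_eq_index_normalizer] at h3
  change (normalizer (zpowers g : Set N)).index ≡ 1 [MOD r] at h3
  have h4 : centralizer (zpowers g : Set N) = centralizer {g} := by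
    refine le_antisymm (centralizer_le (by simp)) fun c hc => mem_centralizer_iff.2 fun w hw => ?_
    obtain ⟨i, rfl⟩ := mem_zpowers_iff.1 hw
    exact (show Commute g c from (mem_centralizer_singleton_iff.1 hc).symm).zpow_left i
  obtain ⟨k, hk⟩ : r ∣ Nat.card (centralizer ({g} : Set N)) :=
    h0 ▸ card_dvd_of_le (zpowers_le.2 (mem_centralizer_singleton_iff.2 rfl))
  have h5 := (zpowers g).normalizerMonoidHom.ker.card_mul_index
  rw [index_ker, normalizerMonoidHom_ker, Nat.card_congr (subgroupOfEquivOfLe (centralizer_le_normalizer _)).toEquiv, h4,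
    hk] at h5
  have h6 := card_subgroup_dvd_card (zpowers g).normalizerMonoidHom.range
  rw [IsCyclic.card_mulAut, h0, Nat.totient_prime hr] at h6
  have h7 := hr.two_le
  refine ⟨_, k, _, (Nat.le_of_dvd (by omega) h6).trans_lt (by omega), ?_, hk, by rw [h5, card_mul_index],
    Eq.trans h3 (Nat.mod_eq_of_lt h7)⟩
  obtain ⟨c, hc⟩ := isConj_iff.1 hj
  have h8 : c ∈ normalizer (zpowers g : Set N) := mem_normalizer_fintype fun x ⟨i, hi⟩ => by
    rw [← hi, ← conj_zpow, hc]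
    exact zpow_mem (pow_mem (mem_zpowers g) _) _
  have h9 : (⟨c, h8⟩ : normalizer (zpowers g : Set N)) ^ Nat.card (zpowers g).normalizerMonoidHom.range ∈
      (zpowers g).normalizerMonoidHom.ker := by
    rw [MonoidHom.mem_ker, map_pow]
    exact congrArg Subtype.val (pow_card_eq_one' (x := (⟨_, ⟨⟨c, h8⟩, rfl⟩⟩ : (zpowers g).normalizerMonoidHom.range)))
  rw [normalizerMonoidHom_ker, mem_subgroupOf, h4] at h9
  have h10 := conj_pow_pow hc (Nat.card (zpowers g).normalizerMonoidHom.range)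
  rw [show c ^ _ * g = g * c ^ _ from mem_centralizer_singleton_iff.1 h9, mul_inv_cancel_right] at h10
  conv_lhs at h10 => rw [← pow_one g]
  have h11 := pow_eq_pow_iff_modEq.1 h10
  rw [hg] at h11
  exact Eq.trans h11.symm (Nat.mod_eq_of_lt h7)

/-- the check -/
def scB (o r j b : ℕ) : Bool :=
  (List.range r).all fun a => j ^ a % r != 1 || (List.range (b / r + 1)).all fun k =>
    k == 1 || o % (r * k * a) != 0 || o / (r * k * a) % r != 1

theorem sc_of_le (hr : r.Prime) {o j b : ℕ} (ho : Nat.card N = o) (h2 : ¬ r ^ 2 ∣ o) (hg : orderOf g = r)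
    (hj : IsConj g (g ^ j)) (hb : Nat.card (centralizer ({g} : Set N)) ≤ b) (h : scB o r j b = true) : SC N r := by
  obtain ⟨a, k, m, h1, h3, h4, h5, h6⟩ := syl_core hr (ho ▸ h2) hg hj
  have h0 : 0 < r * k * a := Nat.pos_of_mul_pos_right (h5 ▸ Nat.card_pos)
  simp only [scB, List.all_eq_true, List.mem_range, Bool.or_eq_true, bne_iff_ne, beq_iff_eq] at h
  have h7 := (h a h1).resolve_left (not_not.2 h3) k
    (Nat.lt_succ_of_le ((Nat.le_div_iff_mul_le hr.pos).2 (by rw [mul_comm, ← h4]; exact hb)))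
  rw [← ho, h5, Nat.mul_mod_right, Nat.mul_div_cancel_left _ h0] at h7
  have h8 : k = 1 := by omega
  refine ⟨g, hg, (eq_of_le_of_card_ge (zpowers_le.2 (mem_centralizer_singleton_iff.2 rfl)) ?_).ge⟩
  rw [h4, h8, Nat.card_zpowers, hg, mul_one]

/-- the check, if the order of the centraliser divides `m` -/
def scD (o r j m : ℕ) : Bool :=
  (List.range r).all fun a => j ^ a % r != 1 || (List.range (m / r + 1)).all fun k =>
    k == 1 || m % (r * k) != 0 || o % (r * k * a) != 0 || o / (r * k * a) % r != 1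

theorem sc_of_dvd (hr : r.Prime) {o j m : ℕ} (ho : Nat.card N = o) (h2 : ¬ r ^ 2 ∣ o) (hg : orderOf g = r)
    (hj : IsConj g (g ^ j)) (hm : 0 < m) (hb : Nat.card (centralizer ({g} : Set N)) ∣ m) (h : scD o r j m = true) :
    SC N r := by
  obtain ⟨a, k, m', h1, h3, h4, h5, h6⟩ := syl_core hr (ho ▸ h2) hg hj
  have h0 : 0 < r * k * a := Nat.pos_of_mul_pos_right (h5 ▸ Nat.card_pos)
  simp only [scD, List.all_eq_true, List.mem_range, Bool.or_eq_true, bne_iff_ne, beq_iff_eq] at h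
  rw [h4] at hb
  have h7 := (h a h1).resolve_left (not_not.2 h3) k
    (Nat.lt_succ_of_le ((Nat.le_div_iff_mul_le hr.pos).2 (by rw [mul_comm]; exact Nat.le_of_dvd hm hb)))
  rw [← ho, h5, Nat.mul_mod_right, Nat.mul_div_cancel_left _ h0, Nat.mod_eq_zero_of_dvd hb] at h7
  have h8 : k = 1 := by omega
  refine ⟨g, hg, (eq_of_le_of_card_ge (zpowers_le.2 (mem_centralizer_singleton_iff.2 rfl)) ?_).ge⟩
  rw [h4, h8, Nat.card_zpowers, hg, mul_one]

theorem cent_mul_class (g : N) : Nat.card (centralizer ({g} : Set N)) * {y | IsConj y g}.ncard = Nat.card N := by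
  have h := (MulAction.stabilizer (ConjAct N) g).card_mul_index
  rw [MulAction.index_stabilizer, ConjAct.stabilizer_eq_centralizer] at h
  refine Eq.trans ?_ h
  congr 2
  exact Set.ext fun y => ConjAct.mem_orbit_conjAct.symm

end syl

variable {W : Type} [AddCommGroup W] {p B n : ℕ} {bl : List W} {G : Type} [Group G] {ρ : G →* AddMonoid.End W}

/-- `P` is the code of an element of `K` -/
def In (p B n : ℕ) (bl : List W) (ρ : G →* AddMonoid.End W) (K : Subgroup G) (P : List ℕ) : Prop :=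
  ∃ a ∈ K, Rep p B n bl P (ρ a)

variable {K : Subgroup G} {gs : List (List ℕ)}

theorem ev_in (F : Fr p B n bl) (h : ∀ P ∈ gs, In p B n bl ρ K P) : ∀ w, In p B n bl ρ K (ev p B n gs w)
  | [] => ⟨1, K.one_mem, map_one ρ ▸ F.one⟩
  | i :: w => by
    obtain ⟨a, ha, h1⟩ := ev_in F h w
    obtain ⟨b, hb, h2⟩ : In p B n bl ρ K (gs.getD i (idC B n)) := by
      by_cases k : i < gs.length
      · rw [List.getD_eq_getElem _ _ k]
        exact h _ (List.getElem_mem k)
      · rw [List.getD_eq_default _ _ (by omega)]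
        exact ⟨1, K.one_mem, map_one ρ ▸ F.one⟩
    refine ⟨b * a, K.mul_mem hb ha, ?_⟩
    show Rep p B n bl (frcL (ev p B n gs w) (cmp p B n (gs.getD i (idC B n)))) _
    rw [frcL_eq, map_mul]
    exact h2.mul F h1

theorem map_in (F : Fr p B n bl) (h : ∀ P ∈ gs, In p B n bl ρ K P) (ws : List (List ℕ)) :
    ∀ P ∈ ws.map (ev p B n gs), In p B n bl ρ K P := fun P hP => by
  obtain ⟨u, -, rfl⟩ := List.mem_map.1 hP
  exact ev_in F h u

theorem finite_of (F : Fr p B n bl) (hρ : Function.Injective ρ) : Finite G := by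
  have := F.finite
  exact Finite.of_injective (fun g => (ρ g : W → W)) (DFunLike.coe_injective.comp hρ)

theorem orb_le (ρ : G →* AddMonoid.End W) (K : Subgroup G) (u : W) : ∃ S : Subgroup G, (∀ a ∈ K, ρ a u = u → a ∈ S) ∧
    Nat.card S * {w | ∃ a ∈ K, ρ a u = w}.ncard = Nat.card K := by
  let _ : MulAction K W := MulAction.compHom W (ρ.comp K.subtype)
  refine ⟨(MulAction.stabilizer K u).map K.subtype, fun a ha h => ⟨⟨a, ha⟩, h, rfl⟩, ?_⟩
  rw [card_map_of_injective K.subtype_injective, ← (MulAction.stabilizer K u).card_mul_index, MulAction.index_stabilizer]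
  congr 2
  exact Set.ext fun w => ⟨fun ⟨a, ha, h⟩ => ⟨⟨a, ha⟩, h⟩, fun ⟨a, h⟩ => ⟨a, a.2, h⟩⟩

/-- stabiliser chains: base vector, length of the orbit, fuel, words for the next level -/
noncomputable def chain (p B n : ℕ) (L : List (ℕ × ℕ × ℕ × List (List ℕ))) : List (List ℕ) → Bool :=
  List.rec (fun _ => true) (fun e _ ih gs => Nat.beq (red p B n e.1) e.1 &&
    Nat.ble e.2.1 (cnt (cmp p B n) gs e.2.2.1 [e.1]) &&
      frcM (e.2.2.2.map (ev p B n gs)) fun gs => (gs.all fun g => Nat.beq (mv p B n g e.1) e.1) && ih gs) L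

theorem chain_le (F : Fr p B n bl) [Finite G] : ∀ (L : List (ℕ × ℕ × ℕ × List (List ℕ))) (K : Subgroup G) (gs : List (List ℕ)),
    (∀ P ∈ gs, In p B n bl ρ K P) → chain p B n L gs = true → (L.map fun e => e.2.1).prod ≤ Nat.card K
  | [], K, _, _, _ => Nat.card_pos
  | e :: L, K, gs, h, c => by
    have := F.finite
    have c' : (Nat.beq (red p B n e.1) e.1 && Nat.ble e.2.1 (cnt (cmp p B n) gs e.2.2.1 [e.1]) &&
      frcM (e.2.2.2.map (ev p B n gs)) fun gs => (gs.all fun g => Nat.beq (mv p B n g e.1) e.1) && chain p B n L gs) = true := c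
    simp only [frcM_eq, Bool.and_eq_true, List.all_eq_true, Nat.ble_eq, Nat.beq_eq] at c'
    obtain ⟨⟨e1, e2⟩, e3, e4⟩ := c'
    have h0 : Rd p B n e.1 := e1 ▸ rd_red (by have := F.two; omega) F.le _ _
    obtain ⟨S, hS, hc⟩ := orb_le ρ K (dec B bl e.1)
    have h2 := chain_le F L S _ (fun P hP => by
      obtain ⟨a, ha, k⟩ := map_in F h _ P hP
      exact ⟨a, hS a ha (by rw [← k.mv F h0, e3 _ hP]), k⟩) e4
    let O : Set (List ℕ) := {l | ∃ v, l = [v] ∧ Rd p B n v ∧ ∃ a ∈ K, ρ a (dec B bl e.1) = dec B bl v}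
    have h3 : Set.InjOn (fun l : List ℕ => dec B bl (l.headD 0)) O := by
      rintro _ ⟨v, rfl, k, -⟩ _ ⟨w, rfl, k', -⟩ e
      rw [F.inj k k' e]
    have h1 := e2.trans (cnt_le (O := O) (Set.Finite.of_finite_image (Set.toFinite _) h3) (by
      rintro P hP _ ⟨v, rfl, k, a, ha, k'⟩
      obtain ⟨b, hb, k1⟩ := h P hP
      exact ⟨_, rfl, rd_mv F _ _, b * a, K.mul_mem hb ha, by rw [k1.mv F k, ← k', map_mul]; rfl⟩) _
        ⟨_, rfl, h0, 1, K.one_mem, by rw [map_one]; rfl⟩)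
    have h4 : O.ncard ≤ {w | ∃ a ∈ K, ρ a (dec B bl e.1) = w}.ncard :=
      Set.ncard_le_ncard_of_injOn _ (by rintro _ ⟨v, rfl, -, k⟩; exact k) h3 (Set.toFinite _)
    rw [List.map_cons, List.prod_cons, ← hc, mul_comm]
    exact Nat.mul_le_mul h2 (h1.trans h4)

variable {N : Type} [Group N] {f : G →* N}

/-- `N = G / Z(G)`, `G` acts faithfully and `gs` are codes of elements -/
structure Cov (p B n : ℕ) (bl : List W) (ρ : G →* AddMonoid.End W) (f : G →* N) (gs : List (List ℕ)) : Prop where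
  fr : Fr p B n bl
  inj : Function.Injective ρ
  sur : Function.Surjective f
  ker : ∀ g, f g = 1 ↔ g ∈ center G
  mem : ∀ P ∈ gs, In p B n bl ρ ⊤ P

/-- more generators -/
theorem Cov.ext (C : Cov p B n bl ρ f gs) (ws : List (List ℕ)) {gs' : List (List ℕ)}
    (h : frcM gs (fun gs => ws.map (ev p B n gs) == gs') = true) : Cov p B n bl ρ f gs' := by
  rw [frcM_eq, beq_iff_eq] at h
  exact ⟨C.fr, C.inj, C.sur, C.ker, h ▸ map_in C.fr C.mem ws⟩

theorem Cov.com (C : Cov p B n bl ρ f gs) {P Q : List ℕ} {a b : G} (h : Rep p B n bl P (ρ a)) (h' : Rep p B n bl Q (ρ b)) :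
    com p B n P Q = true ↔ a * b = b * a := by
  rw [h.com C.fr h', ← map_mul, ← map_mul, C.inj.eq_iff]

theorem mem_center_of {x y z : G} (h : _root_.Subgroup.closure ({x, y} : Set G) = ⊤) (h1 : Commute z x) (h2 : Commute z y) : z ∈ center G :=
  mem_center_iff.2 fun a => mem_centralizer_singleton_iff.1 ((closure_le (centralizer {z})).2 (by
    rintro _ (rfl | rfl)
    exacts [mem_centralizer_singleton_iff.2 h1.symm, mem_centralizer_singleton_iff.2 h2.symm]) (h.ge (mem_top a)))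

/-- the check for a triple; `c = 0` : the order of the product is not tested -/
noncomputable def chkT (p B n : ℕ) (X Y : List ℕ) (L : List (ℕ × ℕ × ℕ × List (List ℕ))) (o a b c : ℕ) : Bool :=
  frcL X fun X => frcL Y fun Y => chain p B n L [X, Y] && Nat.ble o (L.map fun e => e.2.1).prod &&
    com p B n (pw p B n X a) Y && com p B n (pw p B n Y b) X && !com p B n X Y &&
      frcL (cmp p B n X Y) fun Z => com p B n (pw p B n Z c) X

theorem Cov.core {X Y : List ℕ} (C : Cov p B n bl ρ f (X :: Y :: gs)) {L : List (ℕ × ℕ × ℕ × List (List ℕ))} {o a b c : ℕ}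
    (ho : Nat.card G = o) (h : chkT p B n X Y L o a b c = true) : ∃ x y : N, x ^ a = 1 ∧ y ^ b = 1 ∧
      _root_.Subgroup.closure ({x, y} : Set N) = ⊤ ∧ (x * y) ^ c = 1 ∧ x * y ≠ 1 := by
  have := finite_of C.fr C.inj
  simp only [chkT, frcL_eq, Bool.and_eq_true, Nat.ble_eq, Bool.not_eq_true'] at h
  obtain ⟨⟨⟨⟨⟨h1, h2⟩, h3⟩, h4⟩, h5⟩, h6⟩ := h
  obtain ⟨x, -, hx⟩ := C.mem X (by simp)
  obtain ⟨y, -, hy⟩ := C.mem Y (by simp)
  have h7 : _root_.Subgroup.closure ({x, y} : Set G) = ⊤ := eq_top_of_le_card _ (ho.le.trans (h2.trans (chain_le C.fr L _ _ (by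
    simp only [List.mem_cons, List.not_mem_nil, or_false, forall_eq_or_imp, forall_eq]
    exact ⟨⟨x, _root_.Subgroup.subset_closure (by simp), hx⟩, y, _root_.Subgroup.subset_closure (by simp), hy⟩) h1)))
  have h8 : Rep p B n bl (cmp p B n X Y) (ρ (x * y)) := map_mul ρ x y ▸ hx.mul C.fr hy
  have h9 : Commute ((x * y) ^ c) x := (C.com (map_pow ρ _ c ▸ h8.pw C.fr c) hx).1 h6
  refine ⟨f x, f y, ?_, ?_, closure_pair_map f C.sur h7, ?_, fun k => ?_⟩
  · rw [← map_pow, C.ker]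
    exact mem_center_of h7 (Commute.pow_self x a) ((C.com (map_pow ρ x a ▸ hx.pw C.fr a) hy).1 h3)
  · rw [← map_pow, C.ker]
    exact mem_center_of h7 ((C.com (map_pow ρ y b ▸ hy.pw C.fr b) hx).1 h4) (Commute.pow_self y b)
  · rw [← map_mul, ← map_pow, C.ker]
    refine mem_center_of h7 h9 ?_
    have := h9.inv_right.mul_right (Commute.pow_self (x * y) c)
    rwa [inv_mul_cancel_left] at this
  · rw [← map_mul, C.ker] at k
    have k1 := mem_center_iff.1 k x
    rw [mul_assoc, mul_left_cancel_iff] at k1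
    rw [(C.com hx hy).2 k1] at h5
    exact Bool.noConfusion h5

/-- **triples** -/
theorem Cov.tri {X Y : List ℕ} (C : Cov p B n bl ρ f (X :: Y :: gs)) (L : List (ℕ × ℕ × ℕ × List (List ℕ))) {o a b c : ℕ}
    (ho : Nat.card G = o) (hc : c.Prime) (h : chkT p B n X Y L o a b c = true) : Tri N a b c := by
  obtain ⟨x, y, h1, h2, h3, h4, h5⟩ := C.core ho h
  have : Fact c.Prime := ⟨hc⟩
  exact ⟨x, y, h1, h2, orderOf_eq_prime h4 h5, h3⟩

theorem Cov.any {X Y : List ℕ} (C : Cov p B n bl ρ f (X :: Y :: gs)) (L : List (ℕ × ℕ × ℕ × List (List ℕ))) {o a b : ℕ}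
    (ho : Nat.card G = o) (h : chkT p B n X Y L o a b 0 = true) : ∃ c, Tri N a b c := by
  obtain ⟨x, y, h1, h2, h3, -⟩ := C.core ho h
  exact ⟨_, x, y, h1, h2, rfl, h3⟩

/-- the check for an element of prime order -/
noncomputable def chkJ (p B n : ℕ) (gs : List (List ℕ)) (u v : List ℕ) (r j : ℕ) : Bool :=
  frcM gs fun gs => frcL (ev p B n gs u) fun g => frcL (ev p B n gs v) fun h =>
    pw p B n g r == idC B n && frcL (pw p B n g j) (fun x => cmp p B n h g == cmp p B n x h) && !com p B n g h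

theorem Cov.el (C : Cov p B n bl ρ f gs) {u v : List ℕ} {r j : ℕ} (hr : r.Prime) (h : chkJ p B n gs u v r j = true) :
    ∃ g : G, Rep p B n bl (ev p B n gs u) (ρ g) ∧ g ^ r = 1 ∧ orderOf (f g) = r ∧ IsConj (f g) (f g ^ j) := by
  have : Fact r.Prime := ⟨hr⟩
  simp only [chkJ, frcM_eq, frcL_eq, Bool.and_eq_true, beq_iff_eq, Bool.not_eq_true'] at h
  obtain ⟨⟨h1, h2⟩, h3⟩ := h
  obtain ⟨g, -, hg⟩ := ev_in C.fr C.mem u
  obtain ⟨c, -, hc⟩ := ev_in C.fr C.mem v
  have h4 : g ^ r = 1 := C.inj (by rw [map_pow, map_one]; exact (hg.pw C.fr r).eq C.fr (h1 ▸ C.fr.one))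
  have h5 : c * g = g ^ j * c := C.inj (by
    rw [map_mul, map_mul, map_pow]
    exact (hc.mul C.fr hg).eq C.fr (h2 ▸ (hg.pw C.fr j).mul C.fr hc))
  refine ⟨g, hg, h4, orderOf_eq_prime (by rw [← map_pow, h4, map_one]) fun k => ?_,
    isConj_iff.2 ⟨f c, by rw [← map_mul, h5, map_mul, map_pow, mul_inv_cancel_right]⟩⟩
  rw [(C.com hg hc).2 (mem_center_iff.1 ((C.ker g).1 k) c).symm] at h3
  exact Bool.noConfusion h3

/-- **conjugate powers** -/
theorem Cov.cj (C : Cov p B n bl ρ f gs) (u v : List ℕ) {r j : ℕ} (hr : r.Prime) (h : chkJ p B n gs u v r j = true) :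
    Cj N r j :=
  let ⟨g, _, _, h1, h2⟩ := C.el hr h
  ⟨f g, h1, h2⟩

/-- conjugation -/
noncomputable def cjs (p B n : ℕ) (s : List ℕ × List ℕ) (Q : List ℕ) : List ℕ := frcL (cmp p B n Q s.2) (cmp p B n s.1)

/-- the check for a self-centralising element: `a`, `b` have the inverses `a'`, `b'`, at least `t` conjugates -/
noncomputable def chkS (p B n : ℕ) (gs : List (List ℕ)) (u a a' b b' : List ℕ) (m t : ℕ) : Bool :=
  frcM gs fun gs => frcL (ev p B n gs a) fun a => frcL (ev p B n gs a') fun a' => frcL (ev p B n gs b) fun b =>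
    frcL (ev p B n gs b') fun b' => cmp p B n a a' == idC B n && cmp p B n b b' == idC B n &&
      Nat.ble t (cnt (cjs p B n) [(a, a'), (b, b')] m (ev p B n gs u))

/-- **self-centralising elements** -/
theorem Cov.sc (C : Cov p B n bl ρ f gs) (u v a a' b b' : List ℕ) (m t : ℕ) {r j o o' : ℕ} (hr : r.Prime)
    (ho : Nat.card G = o') (ho' : Nat.card N = o) (h2 : ¬ r ^ 2 ∣ o') (ht : 0 < t) (h : chkJ p B n gs u v r j = true)
    (hS : chkS p B n gs u a a' b b' m t = true) (hb : scB o r j (o / t) = true) : Cj N r j ∧ SC N r := by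
  classical
  have := finite_of C.fr C.inj
  have := Finite.of_surjective f C.sur
  obtain ⟨g, h3, h4, h5, h6⟩ := C.el hr h
  simp only [chkS, frcM_eq, frcL_eq, Bool.and_eq_true, beq_iff_eq, Nat.ble_eq] at hS
  obtain ⟨⟨h7, h8⟩, h9⟩ := hS
  have h10 : Nat.card f.ker * Nat.card N = Nat.card G := by
    rw [← f.ker.card_mul_index, index_ker, MonoidHom.range_eq_top.2 C.sur, card_top]
  have h11 : r ∣ Nat.card N := h5 ▸ _root_.orderOf_dvd_natCard _
  let cd : G → List ℕ := fun x => if k : ∃ Q, Rep p B n bl Q (ρ x) then k.choose else []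
  have h12 : {Q | ∃ x, IsConj x g ∧ Rep p B n bl Q (ρ x)} ⊆ cd '' {x | IsConj x g} := fun Q ⟨x, k1, k2⟩ =>
    ⟨x, k1, by
      have k : ∃ Q, Rep p B n bl Q (ρ x) := ⟨Q, k2⟩
      simp only [cd, dif_pos k]
      exact k.choose_spec.uniq C.fr k2⟩
  have h13 : ∀ a a', cmp p B n (ev p B n gs a) (ev p B n gs a') = idC B n →
      ∀ Q ∈ {Q | ∃ x, IsConj x g ∧ Rep p B n bl Q (ρ x)},
        cjs p B n (ev p B n gs a, ev p B n gs a') Q ∈ {Q | ∃ x, IsConj x g ∧ Rep p B n bl Q (ρ x)} := by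
    rintro a a' k Q ⟨x, k1, k2⟩
    obtain ⟨c, -, hc⟩ := ev_in C.fr C.mem a
    obtain ⟨c', -, hc'⟩ := ev_in C.fr C.mem a'
    have k3 : c * c' = 1 := C.inj (by rw [map_mul, map_one]; exact (hc.mul C.fr hc').eq C.fr (k ▸ C.fr.one))
    refine ⟨c * (x * c'), (isConj_iff.2 ⟨c, by rw [eq_inv_of_mul_eq_one_right k3, mul_assoc]⟩).symm.trans k1, ?_⟩
    rw [cjs, frcL_eq, map_mul, map_mul]
    exact hc.mul C.fr (k2.mul C.fr hc')
  have h14 := h9.trans ((cnt_le ((Set.toFinite _).image cd |>.subset h12) (by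
    simp only [List.mem_cons, List.not_mem_nil, or_false, forall_eq_or_imp, forall_eq]
    exact ⟨h13 _ _ h7, h13 _ _ h8⟩) m ⟨g, IsConj.refl g, h3⟩).trans ((Set.ncard_le_ncard h12).trans Set.ncard_image_le))
  have h15 : ∀ x, IsConj x g → x ^ r = 1 := fun x k => isConj_one_left.1 (h4 ▸ k.pow r)
  have h16 : {x | IsConj x g}.ncard ≤ {y | IsConj y (f g)}.ncard := by
    refine Set.ncard_le_ncard_of_injOn f (fun x k => f.map_isConj k) (fun x k y k' e => ?_) (Set.toFinite _)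
    have k1 : f (x⁻¹ * y) = 1 := by rw [map_mul, map_inv, e, inv_mul_cancel]
    have k2 : (x⁻¹ * y) ^ r = 1 := by
      have k3 := Commute.mul_pow (mem_center_iff.1 ((C.ker _).1 k1) x) r
      rwa [mul_inv_cancel_left, h15 x k, h15 y k', one_mul, eq_comm] at k3
    rcases (Nat.dvd_prime hr).1 (orderOf_dvd_of_pow_eq_one k2) with k3 | k3
    · exact inv_mul_eq_one.1 (orderOf_eq_one_iff.1 k3)
    · exact absurd (by
        rw [← ho, ← h10, sq]
        exact Nat.mul_dvd_mul (k3 ▸ f.ker.orderOf_dvd_natCard k1) h11) h2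
  refine ⟨⟨f g, h5, h6⟩, sc_of_le hr ho' (fun k => h2 (k.trans ?_)) h5 h6 ((Nat.le_div_iff_mul_le ht).2 ?_) hb⟩
  · rw [← ho, ← ho', ← h10]
    exact Dvd.intro_left _ rfl
  · rw [← ho', ← cent_mul_class (f g)]
    exact Nat.mul_le_mul_left _ (h14.trans h16)

/-- the images under the powers -/
noncomputable def kry (σ : AddMonoid.End W) (k : ℕ) : W → List W := Nat.rec (fun _ => []) (fun _ ih w => w :: ih (σ w)) k

/-- their codes -/
noncomputable def kryC (p B n : ℕ) (P : List ℕ) (k : ℕ) : ℕ → List ℕ :=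
  Nat.rec (fun _ => []) (fun _ ih w => w :: frc (mv p B n P w) ih) k

theorem kry_len (σ : AddMonoid.End W) : ∀ k w, (kry σ k w).length = k
  | 0, _ => rfl
  | k + 1, w => congrArg Nat.succ (kry_len σ k (σ w))

theorem kry_map {σ τ : AddMonoid.End W} (h : ∀ w, τ (σ w) = σ (τ w)) : ∀ k w, (kry σ k w).map τ = kry σ k (τ w)
  | 0, _ => rfl
  | k + 1, w => by
    show τ w :: (kry σ k (σ w)).map τ = τ w :: kry σ k (σ (τ w))
    rw [kry_map h k, h]

theorem dec_map (τ : AddMonoid.End W) : ∀ (l : List W) (a : ℕ), dec B (l.map τ) a = τ (dec B l a)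
  | [], _ => (map_zero τ).symm
  | b :: l, a => by
    show (a % B) • τ b + dec B (l.map τ) (a / B) = τ ((a % B) • b + dec B l (a / B))
    rw [dec_map τ l, map_add, map_nsmul]

theorem kryC_ok (F : Fr p B n bl) {P : List ℕ} {σ : AddMonoid.End W} (h : Rep p B n bl P σ) : ∀ k w, Rd p B n w →
    List.Forall₂ (fun c b => Rd p B n c ∧ dec B bl c = (1 : AddMonoid.End W) b) (kryC p B n P k w) (kry σ k (dec B bl w))
  | 0, _, _ => .nil
  | k + 1, w, hw => by
    show List.Forall₂ _ (w :: frc (mv p B n P w) (kryC p B n P k)) (dec B bl w :: kry σ k (σ (dec B bl w)))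
    rw [frc_eq, ← h.mv F hw]
    exact .cons ⟨hw, rfl⟩ (kryC_ok F h k _ (rd_mv F _ _))

theorem pol_ok (F : Fr p B n bl) {P : List ℕ} {σ : AddMonoid.End W} (h : Rep p B n bl P σ) {a w : ℕ} (ha : Rd p B n a)
    (hw : Rd p B n w) : dec B bl (mv p B n (kryC p B n P n w) a) = dec B (kry σ n (dec B bl w)) a := by
  have h1 := (mvA_ok F (kryC_ok F h n w hw) (kry_len σ n _).le a (by rw [kry_len]; exact ha.bd)).2
  rw [Eng.mv, frc_eq, ← F.len, dec_red (by have := F.two; omega) F.le F.chr, F.len]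
  exact h1

/-- the check for a free action of the centraliser: `v` is a cyclic vector (`As`), the vectors which are not killed by the
polynomials `T` are listed in `L`, with polynomials which map them to `v` -/
noncomputable def chkD (p B n : ℕ) (gs : List (List ℕ)) (u : List ℕ) (v : ℕ) (As T : List ℕ) (L : List (ℕ × ℕ)) : Bool :=
  frcM gs fun gs => frcL (ev p B n gs u) fun g =>
    ((v :: As ++ T ++ L.map Prod.fst ++ L.map Prod.snd).all fun x => Nat.beq (red p B n x) x) &&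
    (frcL (kryC p B n g n v) fun K => cmp p B n K As == idC B n) &&
    ((allV p B n).filter fun w => frcL (kryC p B n g n w) fun K => T.all fun a => !Nat.beq (mv p B n K a) 0) == L.map Prod.fst &&
    L.all fun e => Nat.beq (mv p B n (kryC p B n g n e.1) e.2) v

/-- **self-centralising elements**, by a free action of the centraliser -/
theorem Cov.scF (C : Cov p B n bl ρ f gs) (u v : List ℕ) (x : ℕ) (As T : List ℕ) (L : List (ℕ × ℕ)) {r j o : ℕ} (hr : r.Prime)
    (ho : Nat.card G = o) (ho' : Nat.card N = o) (h2 : ¬ r ^ 2 ∣ o) (hL : 0 < L.length) (h : chkJ p B n gs u v r j = true)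
    (hS : chkD p B n gs u x As T L = true) (hn : (L.map Prod.fst).Nodup) (hb : scD o r j L.length = true) :
    Cj N r j ∧ SC N r := by
  classical
  have := finite_of C.fr C.inj
  have := Finite.of_surjective f C.sur
  have F := C.fr
  obtain ⟨g, h3, h4, h5, h6⟩ := C.el hr h
  simp only [chkD, frcM_eq, frcL_eq, Bool.and_eq_true, beq_iff_eq, List.all_eq_true, Nat.beq_eq] at hS
  obtain ⟨⟨⟨k1, k2⟩, k3⟩, k4⟩ := hS
  have k0 : ∀ y ∈ x :: As ++ T ++ L.map Prod.fst ++ L.map Prod.snd, Rd p B n y := fun y hy =>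
    k1 y hy ▸ rd_red (by have := F.two; omega) F.le _ _
  have rx : Rd p B n x := k0 _ (by simp only [List.mem_append, List.mem_cons, true_or])
  have rA : ∀ y ∈ As, Rd p B n y := fun y hy => k0 _ (by simp only [List.mem_append, List.mem_cons, hy, true_or, or_true])
  have rT : ∀ y ∈ T, Rd p B n y := fun y hy => k0 _ (by simp only [List.mem_append, hy, true_or, or_true])
  have r1 : ∀ y ∈ L.map Prod.fst, Rd p B n y := fun y hy => k0 _ (by simp only [List.mem_append, hy, true_or, or_true])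
  have r2 : ∀ y ∈ L.map Prod.snd, Rd p B n y := fun y hy => k0 _ (by simp only [List.mem_append, hy, or_true])
  have eqv : ∀ c ∈ centralizer ({g} : Set G), ∀ w a, ρ c (dec B (kry (ρ g) n w) a) = dec B (kry (ρ g) n (ρ c w)) a := by
    intro c hc w a
    rw [← dec_map, kry_map fun y => ?_]
    show (ρ c * ρ g) y = (ρ g * ρ c) y
    rw [← map_mul, ← map_mul, mem_centralizer_singleton_iff.1 hc]
  have hO : {w | ∀ a ∈ T, dec B (kry (ρ g) n w) a ≠ 0} = dec B bl '' {y | y ∈ L.map Prod.fst} := by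
    ext w
    constructor
    · intro hw
      obtain ⟨y, hy, rfl⟩ := F.sur w
      refine ⟨y, ?_, rfl⟩
      show y ∈ L.map Prod.fst
      rw [← k3, List.mem_filter, List.all_eq_true]
      refine ⟨mem_allV hy, fun a ha => ?_⟩
      rw [Bool.not_eq_true', Bool.eq_false_iff]
      intro e
      apply hw a ha
      rw [← pol_ok F h3 (rT a ha) hy, Nat.eq_of_beq_eq_true e, dec_zero]
    · rintro ⟨y, hy, rfl⟩ a ha e
      have hy' : y ∈ L.map Prod.fst := hy
      have h7 := hy'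
      rw [← k3, List.mem_filter, List.all_eq_true] at h7
      have h8 := h7.2 a ha
      rw [← pol_ok F h3 (rT a ha) (r1 y hy'), ← dec_zero (B := B) bl] at e
      rw [F.inj (rd_mv F _ _) (rd_zero (by have := F.two; omega) _) e] at h8
      exact Bool.noConfusion h8
  have hc : {w | ∀ a ∈ T, dec B (kry (ρ g) n w) a ≠ 0}.ncard = L.length := by
    have h7 : Set.InjOn (dec B bl) {y | y ∈ L.map Prod.fst} := fun y hy z hz e => F.inj (r1 y hy) (r1 z hz) e
    rw [hO, Set.ncard_image_of_injOn h7, ← List.coe_toFinset,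
      Set.ncard_coe_finset, List.toFinset_card_of_nodup hn, List.length_map]
  have free : ∀ c ∈ centralizer ({g} : Set G), ∀ w ∈ {w | ∀ a ∈ T, dec B (kry (ρ g) n w) a ≠ 0}, ρ c w = w → c = 1 := by
    intro c hc w hw e
    rw [hO] at hw
    obtain ⟨y, hy, rfl⟩ := hw
    obtain ⟨z, hz, rfl⟩ := List.mem_map.1 hy
    have h7 := pol_ok F h3 (r2 _ (List.mem_map_of_mem hz)) (r1 _ hy)
    rw [k4 z hz] at h7
    have h8 : ρ c (dec B bl x) = dec B bl x := by rw [h7, eqv c hc, e]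
    have h9 : Rep p B n bl (idC B n) (ρ c) := by
      have h10 : List.Forall₂ (fun a b => a ∈ idC B n ∧ (Rd p B n a ∧ dec B bl a = (1 : AddMonoid.End W) b)) (idC B n) bl :=
        (List.forall₂_and_left _ _).2 ⟨fun a h => h, F.one⟩
      refine List.Forall₂.imp (fun a b k => ⟨k.2.1, ?_⟩) h10
      have h10 := k.1
      rw [← k2, cmp_eq] at h10
      obtain ⟨a', ha', rfl⟩ := List.mem_map.1 h10
      have h11 : b = dec B (kry (ρ g) n (dec B bl x)) a' := k.2.2.symm.trans (pol_ok F h3 (rA a' ha') rx)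
      rw [k.2.2, h11, eqv c hc, h8]
      rfl
    exact C.inj ((h9.eq F F.one).trans (map_one ρ).symm)
  have hd : Nat.card (centralizer ({g} : Set G)) ∣ L.length := by
    let _ : MulAction (centralizer ({g} : Set G)) W := MulAction.compHom W (ρ.comp (centralizer ({g} : Set G)).subtype)
    let S : SubMulAction (centralizer ({g} : Set G)) W :=
      ⟨{w | ∀ a ∈ T, dec B (kry (ρ g) n w) a ≠ 0}, fun c w hw a ha e => hw a ha (by
        have h7 : ρ c.1 (dec B (kry (ρ g) n w) a) = 0 := (eqv c.1 c.2 w a).trans e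
        have h8 : (ρ c.1⁻¹ * ρ c.1) (dec B (kry (ρ g) n w) a) = 0 := (congrArg (ρ c.1⁻¹) h7).trans (map_zero _)
        rwa [← map_mul, inv_mul_cancel, map_one] at h8)⟩
    have h7 := Nat.card_congr (MulAction.selfEquivOrbitsQuotientProd (G := centralizer ({g} : Set G)) (X := S) fun b =>
      eq_bot_iff.2 fun c hc => Subtype.ext (free c.1 c.2 b.1 b.2 (congrArg Subtype.val hc)))
    rw [Nat.card_prod] at h7
    rw [← hc]
    exact Dvd.intro_left _ h7.symm
  let e : G ≃* N := MulEquiv.ofBijective f ((Nat.bijective_iff_surjective_and_card f).2 ⟨C.sur, ho.trans ho'.symm⟩)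
  refine ⟨⟨f g, h5, h6⟩, (sc_of_dvd (g := g) hr ho h2 ((e.orderOf_eq g).symm.trans h5) ?_ hL hd hb).congr e⟩
  have h7 := e.symm.toMonoidHom.map_isConj h6
  rw [map_pow] at h7
  have h8 : e.symm.toMonoidHom (f g) = g := e.symm_apply_apply g
  rwa [h8] at h7

end Cfsg.Agent.N2.Tg.Eng
end

-- part: N2/Tri/Mat
section
/-!
# N2 (S3519): matrix groups over explicit fields for the engine (helper6)
-/

set_option autoImplicit false
set_option linter.unusedSectionVars false

namespace Cfsg.Agent.N2.Tg.Eng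

open Cfsg Subgroup Matrix

/-- packing of digits -/
noncomputable def pk (B : ℕ) (l : List ℕ) : ℕ := List.rec 0 (fun a _ r => Nat.add a (Nat.mul B r)) l

/-- linear combinations -/
def lin {W : Type} [AddCommGroup W] (l : List ℕ) (bl : List W) : W := (List.zipWith (· • ·) l bl).sum

section

variable {W : Type} [AddCommGroup W] {p B : ℕ}

theorem pk_ok (hB : p ≤ B) : ∀ (l : List ℕ) (bl : List W), l.length = bl.length → (∀ a ∈ l, a < p) →
    Rd p B bl.length (pk B l) ∧ dec B bl (pk B l) = lin l bl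
  | [], [], _, _ => ⟨rfl, rfl⟩
  | a :: l, b :: bl, h, k => by
    have h0 := k a List.mem_cons_self
    obtain ⟨h1, h2⟩ := dm (h0.trans_le hB) (pk B l)
    obtain ⟨h3, h4⟩ := pk_ok hB l bl (Nat.succ.inj h) fun x hx => k x (List.mem_cons_of_mem _ hx)
    refine ⟨⟨h1.symm ▸ h0, h2.symm ▸ h3⟩, ?_⟩
    show ((a + B * pk B l) % B) • b + dec B bl ((a + B * pk B l) / B) = a • b + lin l bl
    rw [h1, h2, h4]

theorem lin_append {l l' : List ℕ} {b b' : List W} (h : l.length = b.length) :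
    lin (l ++ l') (b ++ b') = lin l b + lin l' b' := by
  rw [lin, List.zipWith_append h, List.sum_append, lin, lin]

theorem lin_map {V : Type} [AddCommGroup V] (φ : W →+ V) : ∀ (l : List ℕ) (b : List W), lin l (b.map φ) = φ (lin l b)
  | [], _ => (map_zero φ).symm
  | _ :: _, [] => (map_zero φ).symm
  | a :: l, c :: b => by
    show a • φ c + lin l (b.map φ) = φ (a • c + lin l b)
    rw [lin_map φ l b, map_add, map_nsmul]

end

/-- an explicit field with `p ^ g` elements, base `rb`, coordinates `co` -/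
structure Rg (R : Type) [CommRing R] [Fintype R] (p g : ℕ) (rb : List R) (co : R → List ℕ) : Prop where
  two : 2 ≤ p
  chr : (p : R) = 0
  len : rb.length = g
  ok : ∀ r, (co r).length = g ∧ (∀ a ∈ co r, a < p) ∧ lin (co r) rb = r
  card : Fintype.card R = p ^ g
  ne : (1 : R) ≠ 0
  dom : ∀ a b : R, a * b = 0 → a = 0 ∨ b = 0

variable {R : Type} [CommRing R] [Fintype R] {p g B n : ℕ} {rb : List R} {co : R → List ℕ}
  {ι : Type} [Fintype ι] [DecidableEq ι] {F : Type} [Field F] [Fintype F]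

theorem Rg.equiv (h : Rg R p g rb co) (hF : Fintype.card F = p ^ g) : Nonempty (R ≃+* F) := by
  have : Nontrivial R := ⟨1, 0, h.ne⟩
  have : NoZeroDivisors R := ⟨h.dom _ _⟩
  have : IsDomain R := NoZeroDivisors.to_isDomain R
  let _ := (Finite.isField_of_domain R).toField
  exact ⟨FiniteField.ringEquivOfCardEq (h.card.trans hF.symm)⟩

/-- pairs -/
def prs (il : List ι) (rb : List R) : List (ι × R) := il.flatMap fun i => rb.map (Prod.mk i)

/-- the base -/
def bas (il : List ι) (rb : List R) : List (ι → R) := (prs il rb).map fun x => Pi.single x.1 x.2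

/-- the code of a vector -/
noncomputable def enc (B : ℕ) (il : List ι) (co : R → List ℕ) (u : ι → R) : ℕ := pk B (il.flatMap fun i => co (u i))

/-- the code of a matrix -/
noncomputable def cod (B : ℕ) (il : List ι) (rb : List R) (co : R → List ℕ) (A : Matrix ι ι R) : List ℕ :=
  (prs il rb).map fun x => enc B il co fun k => A k x.1 * x.2

theorem Rg.lin (h : Rg R p g rb co) (u : ι → R) : ∀ il : List ι,
    (il.flatMap fun i => co (u i)).length = il.length * g ∧ (bas il rb).length = il.length * g ∧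
      lin (il.flatMap fun i => co (u i)) (bas il rb) = (il.map fun i => Pi.single i (u i)).sum
  | [] => ⟨(Nat.zero_mul _).symm, (Nat.zero_mul _).symm, rfl⟩
  | i :: il => by
    obtain ⟨h1, h2, h3⟩ := h.lin u il
    have h4 : bas (i :: il) rb = rb.map (AddMonoidHom.single (fun _ => R) i) ++ bas il rb := by
      rw [bas, prs, List.flatMap_cons, List.map_append, List.map_map]
      rfl
    rw [h4, List.flatMap_cons, List.length_append, List.length_append, h1, h2, List.length_map, h.len, (h.ok _).1,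
      lin_append (by rw [List.length_map, h.len, (h.ok _).1]), lin_map, h3, (h.ok _).2.2, List.length_cons]
    exact ⟨by ring, by ring, rfl⟩

/-- the list of indices and the sizes -/
structure Il (p g B n : ℕ) (il : List ι) : Prop where
  nd : il.Nodup
  all : ∀ i, i ∈ il
  len : il.length * g = n
  le : p ≤ B
  big : n * ((p - 1) * (p - 1)) < B

variable {il : List ι}

theorem Rg.enc (h : Rg R p g rb co) (I : Il p g B n il) (u : ι → R) :
    Rd p B n (enc B il co u) ∧ dec B (bas il rb) (enc B il co u) = u := by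
  obtain ⟨h1, h2, h3⟩ := h.lin u il
  obtain ⟨h4, h5⟩ := pk_ok I.le _ (bas il rb) (h1.trans h2.symm) fun a ha => by
    obtain ⟨i, -, k⟩ := List.mem_flatMap.1 ha
    exact (h.ok _).2.1 a k
  rw [h2, I.len] at h4
  refine ⟨h4, h5.trans (h3.trans ?_)⟩
  rw [← List.sum_toFinset _ I.nd, Finset.eq_univ_iff_forall.2 fun i => List.mem_toFinset.2 (I.all i)]
  exact Finset.univ_sum_single u

theorem Rg.fr (h : Rg R p g rb co) (I : Il p g B n il) : Fr p B n (bas il rb) where
  two := h.two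
  le := I.le
  big := I.big
  len := (h.lin 0 il).2.1.trans I.len
  chr := fun w => funext fun i => by rw [Pi.smul_apply, nsmul_eq_mul, h.chr, zero_mul, Pi.zero_apply]
  sur := fun u => ⟨_, h.enc I u⟩
  card := by
    rw [Nat.card_eq_fintype_card, Fintype.card_fun, h.card, ← pow_mul, ← I.len, ← List.toFinset_card_of_nodup I.nd,
      Finset.eq_univ_iff_forall.2 fun i => List.mem_toFinset.2 (I.all i), mul_comm, Finset.card_univ]

/-- the action of matrices -/
def r0 : Matrix ι ι R →* AddMonoid.End (ι → R) where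
  toFun A := AddMonoidHom.mk' (A *ᵥ ·) A.mulVec_add
  map_one' := AddMonoidHom.ext fun u => one_mulVec u
  map_mul' A C := AddMonoidHom.ext fun u => (mulVec_mulVec u A C).symm

theorem Rg.rep (h : Rg R p g rb co) (I : Il p g B n il) (A : Matrix ι ι R) :
    Rep p B n (bas il rb) (cod B il rb co A) (r0 A) := by
  rw [Rep, cod]
  refine List.forall₂_map_left_iff.2 (List.forall₂_map_right_iff.2 (List.forall₂_same.2 fun x _ => ⟨(h.enc I _).1, ?_⟩))
  rw [(h.enc I _).2]
  exact funext fun k => (congrFun (mulVec_single A x.1 x.2) k).symm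

/-- the action of matrices over `F` -/
def rF (e : R ≃+* F) : Matrix ι ι F →* AddMonoid.End (ι → R) :=
  r0.comp (e.symm.mapMatrix : Matrix ι ι F ≃+* Matrix ι ι R).toMonoidHom

theorem rF_inj (e : R ≃+* F) : Function.Injective (rF (ι := ι) e) := fun _ _ h =>
  (e.symm.mapMatrix : Matrix ι ι F ≃+* Matrix ι ι R).injective (mulVec_injective (funext (DFunLike.congr_fun h)))

theorem rF_map (e : R ≃+* F) (A : Matrix ι ι R) : rF e (A.map e) = r0 A :=
  congrArg r0 (Matrix.ext fun _ _ => e.symm_apply_apply _)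

variable {G N : Type} [Group G] [Group N]

/-- the projection -/
def prj (e : N ≃* G ⧸ center G) : G →* N := e.symm.toMonoidHom.comp (QuotientGroup.mk' _)

theorem prj_sur (e : N ≃* G ⧸ center G) : Function.Surjective (prj e) :=
  e.symm.surjective.comp (QuotientGroup.mk'_surjective _)

theorem prj_ker (e : N ≃* G ⧸ center G) (a : G) : prj e a = 1 ↔ a ∈ center G :=
  e.symm.map_eq_one_iff.trans (QuotientGroup.eq_one_iff a)

theorem Rg.cov (h : Rg R p g rb co) (I : Il p g B n il) (e : R ≃+* F) (t : G →* Matrix ι ι F) (ht : Function.Injective t)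
    (ε : N ≃* G ⧸ center G) (As : List (Matrix ι ι R)) (hA : ∀ A ∈ As, ∃ a, t a = A.map e) :
    Cov p B n (bas il rb) ((rF e).comp t) (prj ε) (As.map (cod B il rb co)) :=
  ⟨h.fr I, (rF_inj e).comp ht, prj_sur ε, prj_ker ε, fun P hP => by
    obtain ⟨A, h1, rfl⟩ := List.mem_map.1 hP
    obtain ⟨a, ha⟩ := hA A h1
    exact ⟨a, mem_top a, by rw [MonoidHom.comp_apply, ha, rF_map]; exact h.rep I A⟩⟩

/-- matrices from tables -/
def mat (p : ℕ) (rb : List R) (ix : ι → ℕ) (t : List (List ℕ)) : Matrix ι ι R :=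
  Matrix.of fun i j => dec p rb ((t.getD (ix i) []).getD (ix j) 0)

/-- a cover of order `o` -/
def Has (p B n : ℕ) (N : Type) [Group N] (o : ℕ) (gs : List (List ℕ)) : Prop :=
  ∃ (W : Type) (_ : AddCommGroup W) (bl : List W) (G : Type) (_ : Group G) (ρ : G →* AddMonoid.End W) (f : G →* N),
    Cov p B n bl ρ f gs ∧ Nat.card G = o

section has

variable {o : ℕ} {gs : List (List ℕ)}

theorem Has.ext (H : Has p B n N o gs) (ws gs' : List (List ℕ))
    (h : frcM gs (fun gs => ws.map (ev p B n gs) == gs') = true) : Has p B n N o gs' :=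
  let ⟨W, i, bl, G, j, ρ, f, C, k⟩ := H
  ⟨W, i, bl, G, j, ρ, f, C.ext ws h, k⟩

theorem Has.tri {X Y : List ℕ} (H : Has p B n N o (X :: Y :: gs)) (L : List (ℕ × ℕ × ℕ × List (List ℕ))) {a b c : ℕ}
    (hc : c.Prime) (h : chkT p B n X Y L o a b c = true) : Tri N a b c :=
  let ⟨_, _, _, _, _, _, _, C, k⟩ := H
  C.tri L k hc h

theorem Has.any {X Y : List ℕ} (H : Has p B n N o (X :: Y :: gs)) (L : List (ℕ × ℕ × ℕ × List (List ℕ))) {a b : ℕ}
    (h : chkT p B n X Y L o a b 0 = true) : ∃ c, Tri N a b c :=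
  let ⟨_, _, _, _, _, _, _, C, k⟩ := H
  C.any L k h

theorem Has.cj (H : Has p B n N o gs) (u v : List ℕ) {r j : ℕ} (hr : r.Prime) (h : chkJ p B n gs u v r j = true) :
    Cj N r j :=
  let ⟨_, _, _, _, _, _, _, C, _⟩ := H
  C.cj u v hr h

theorem Has.sc (H : Has p B n N o gs) (u v a a' b b' : List ℕ) (m t : ℕ) {r j o' : ℕ} (hr : r.Prime)
    (ho : Nat.card N = o') (h2 : ¬ r ^ 2 ∣ o) (ht : 0 < t) (h : chkJ p B n gs u v r j = true)
    (hS : chkS p B n gs u a a' b b' m t = true) (hb : scB o' r j (o' / t) = true) : Cj N r j ∧ SC N r :=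
  let ⟨_, _, _, _, _, _, _, C, k⟩ := H
  C.sc u v a a' b b' m t hr k ho h2 ht h hS hb

theorem Has.scF (H : Has p B n N o gs) (u v : List ℕ) (x : ℕ) (As T : List ℕ) (L : List (ℕ × ℕ)) {r j : ℕ} (hr : r.Prime)
    (ho : Nat.card N = o) (h2 : ¬ r ^ 2 ∣ o) (hL : 0 < L.length) (h : chkJ p B n gs u v r j = true)
    (hS : chkD p B n gs u x As T L = true) (hn : (L.map Prod.fst).Nodup) (hb : scD o r j L.length = true) :
    Cj N r j ∧ SC N r :=
  let ⟨_, _, _, _, _, _, _, C, k⟩ := H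
  C.scF u v x As T L hr k ho h2 hL h hS hn hb

end has

/-! ### the classical families -/

/-- **linear groups** -/
theorem has_L {m o : ℕ} {il : List (Fin m)} (h : Rg R p g rb co) (I : Il p g B n il) (hN : OrdDiv.Real (.psl m (p ^ g)) N)
    (hm : 1 ≤ m) (ho : (p ^ g - 1) * o = ∏ i : Fin m, ((p ^ g) ^ m - (p ^ g) ^ (i : ℕ))) (h0 : 0 < p ^ g - 1)
    (As : List (Matrix (Fin m) (Fin m) R)) (hA : ∀ A ∈ As, A.det = 1) : Has p B n N o (As.map (cod B il rb co)) := by
  obtain ⟨F, _, _, hF, ⟨ε⟩⟩ := hN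
  obtain ⟨e⟩ := h.equiv hF
  exact ⟨_, _, _, _, _, _, _, h.cov I e SpecialLinearGroup.coeMonoidHom Subtype.val_injective ε As fun A k =>
    ⟨⟨A.map e, by rw [← RingHom.coe_coe, ← RingHom.mapMatrix_apply, ← RingHom.map_det, hA A k, map_one]⟩, rfl⟩,
    Nat.eq_of_mul_eq_mul_left h0 ((S0242.result hF m hm).trans ho.symm)⟩

/-- **symplectic groups** -/
theorem has_S {m o : ℕ} {il : List (Fin m ⊕ Fin m)} (h : Rg R p g rb co) (I : Il p g B n il)
    (hN : OrdDiv.Real (.psp m (p ^ g)) N)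
    (ho : (p ^ g) ^ (m ^ 2) * ∏ i ∈ Finset.range m, ((p ^ g) ^ (2 * (i + 1)) - 1) = o)
    (As : List (Matrix (Fin m ⊕ Fin m) (Fin m ⊕ Fin m) R)) (hA : ∀ A ∈ As, A * J (Fin m) R * Aᵀ = J (Fin m) R) :
    Has p B n N o (As.map (cod B il rb co)) := by
  obtain ⟨F, _, _, hF, ⟨ε⟩⟩ := hN
  obtain ⟨e⟩ := h.equiv hF
  exact ⟨_, _, _, _, _, _, _, h.cov I e (symplecticGroup (Fin m) F).subtype Subtype.val_injective ε As fun A k =>
    ⟨⟨A.map e, SymplecticGroup.map_mem (SymplecticGroup.mem_iff.2 (hA A k)) (e : R →+* F)⟩, rfl⟩,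
    (S0245.result hF m).trans ho⟩

/-- **unitary groups** -/
theorem has_U {m o s : ℕ} {il : List (Fin m)} (h : Rg R p g rb co) (I : Il p g B n il) (hp : p.Prime)
    (hN : OrdDiv.Real (.psu m (p ^ s)) N) (hs : (p ^ s) ^ 2 = p ^ g) (hm : 1 ≤ m)
    (ho : (p ^ s + 1) * o = (p ^ s) ^ (m * (m - 1) / 2) *
      ∏ i ∈ Finset.range m, (if Even i then (p ^ s) ^ (i + 1) + 1 else (p ^ s) ^ (i + 1) - 1))
    (As : List (Matrix (Fin m) (Fin m) R)) (hA : ∀ A ∈ As, A.det = 1 ∧ Aᵀ * A.map (· ^ p ^ s) = 1) :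
    Has p B n N o (As.map (cod B il rb co)) := by
  obtain ⟨F, _, _, hF, ⟨ε⟩⟩ := hN
  obtain ⟨e⟩ := h.equiv (hF.trans hs)
  have : Fact p.Prime := ⟨hp⟩
  have : CharP F p := (CharP.charP_iff_prime_eq_zero hp).2 (by rw [← map_natCast e, h.chr, map_zero])
  refine ⟨_, _, _, _, _, _, _, h.cov I e (SpecialLinearGroup.coeMonoidHom.comp (SU m F (p ^ s)).subtype)
    (Subtype.val_injective.comp Subtype.val_injective) ε As fun A k =>
    ⟨⟨⟨A.map e, by rw [← RingHom.coe_coe, ← RingHom.mapMatrix_apply, ← RingHom.map_det, (hA A k).1, map_one]⟩,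
      fun u v => ?_⟩, rfl⟩, Nat.eq_of_mul_eq_mul_left (Nat.succ_pos _) ((S0278.result hF m hm).trans ho.symm)⟩
  have h1 : (A.map e)ᵀ * (A.map e).map (iterateFrobenius F p s) = 1 := by
    have h2 := congrArg (fun M : Matrix (Fin m) (Fin m) R => M.map (e : R →+* F)) (hA A k).2
    simp only [Matrix.map_mul, Matrix.map_one _ (map_zero _) (map_one _)] at h2
    rw [show (A.map e).map (iterateFrobenius F p s) = (A.map (· ^ p ^ s)).map (e : R →+* F) from
      Matrix.ext fun i j => (map_pow e _ _).symm]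
    exact h2
  show (A.map e *ᵥ u) ⬝ᵥ (iterateFrobenius F p s ∘ (A.map e *ᵥ v)) = u ⬝ᵥ (iterateFrobenius F p s ∘ v)
  rw [show iterateFrobenius F p s ∘ (A.map e *ᵥ v) = (A.map e).map (iterateFrobenius F p s) *ᵥ (iterateFrobenius F p s ∘ v) from
    funext (RingHom.map_mulVec _ _ _), ← vecMul_transpose, ← dotProduct_mulVec, mulVec_mulVec, h1, one_mulVec]

theorem two_mem {α : Type} {P : α → Prop} {a b : α} (h : P a ∧ P b) : ∀ x ∈ [a, b], P x :=
  List.forall_mem_cons.2 ⟨h.1, List.forall_mem_singleton.2 h.2⟩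

/-! ### the fields -/

theorem rg_prime (p : ℕ) [NeZero p] (hp : p.Prime) : Rg (ZMod p) p 1 [1] fun r => [r.val] :=
  have : Fact p.Prime := ⟨hp⟩
  { two := hp.two_le
    chr := ZMod.natCast_self p
    len := rfl
    ok := fun r => ⟨rfl, fun a ha => List.mem_singleton.1 ha ▸ r.val_lt, by simp [lin]⟩
    card := by rw [ZMod.card, pow_one]
    ne := one_ne_zero
    dom := fun _ _ => mul_eq_zero.1 }

instance ftQ {a b : R} : Fintype (QuadraticAlgebra R a b) := Fintype.ofEquiv _ (QuadraticAlgebra.equivProd a b).symm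

/-- `ω ^ 3 = ω + 1` -/
@[ext] structure C3 (R : Type) where
  /-- coordinate -/
  a : R
  /-- coordinate -/
  b : R
  /-- coordinate -/
  c : R
  deriving DecidableEq

instance C3.ft : Fintype (C3 R) :=
  Fintype.ofEquiv (R × R × R) ⟨fun x => ⟨x.1, x.2.1, x.2.2⟩, fun x => (x.a, x.b, x.c), fun _ => rfl, fun _ => rfl⟩

instance C3.iZ : Zero (C3 R) := ⟨⟨0, 0, 0⟩⟩
instance C3.iA : Add (C3 R) := ⟨fun x y => ⟨x.a + y.a, x.b + y.b, x.c + y.c⟩⟩
instance C3.iN : Neg (C3 R) := ⟨fun x => ⟨-x.a, -x.b, -x.c⟩⟩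
instance C3.iO : One (C3 R) := ⟨⟨1, 0, 0⟩⟩
instance C3.iM : Mul (C3 R) := ⟨fun x y => ⟨x.a * y.a + (x.b * y.c + x.c * y.b),
  x.a * y.b + x.b * y.a + (x.b * y.c + x.c * y.b) + x.c * y.c, x.a * y.c + x.b * y.b + x.c * y.a + x.c * y.c⟩⟩

theorem C3.add_eq (x y : C3 R) : x + y = ⟨x.a + y.a, x.b + y.b, x.c + y.c⟩ := rfl
theorem C3.neg_eq (x : C3 R) : -x = ⟨-x.a, -x.b, -x.c⟩ := rfl
theorem C3.zero_eq : (0 : C3 R) = ⟨0, 0, 0⟩ := rfl
theorem C3.one_eq : (1 : C3 R) = ⟨1, 0, 0⟩ := rfl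
theorem C3.mul_eq (x y : C3 R) : x * y = ⟨x.a * y.a + (x.b * y.c + x.c * y.b),
  x.a * y.b + x.b * y.a + (x.b * y.c + x.c * y.b) + x.c * y.c, x.a * y.c + x.b * y.b + x.c * y.a + x.c * y.c⟩ := rfl

instance C3.ring : CommRing (C3 R) := CommRing.ofMinimalAxioms
  (fun _ _ _ => by ext <;> simp only [C3.add_eq] <;> ring)
  (fun _ => by ext <;> simp only [C3.add_eq, C3.zero_eq] <;> ring)
  (fun _ => by ext <;> simp only [C3.add_eq, C3.zero_eq, C3.neg_eq] <;> ring)
  (fun _ _ _ => by ext <;> simp only [C3.mul_eq] <;> ring)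
  (fun _ _ => by ext <;> simp only [C3.mul_eq] <;> ring)
  (fun _ => by ext <;> simp only [C3.mul_eq, C3.one_eq] <;> ring)
  (fun _ _ _ => by ext <;> simp only [C3.mul_eq, C3.add_eq] <;> ring)

/-- quadratic extensions of prime fields -/
abbrev Q2 (p : ℕ) (a b : ZMod p) : Type := QuadraticAlgebra (ZMod p) a b

/-- base -/
def b2 (p : ℕ) (a b : ZMod p) : List (Q2 p a b) := [⟨1, 0⟩, ⟨0, 1⟩]
/-- coordinates -/
def c2 (p : ℕ) (a b : ZMod p) (x : Q2 p a b) : List ℕ := [x.re.val, x.im.val]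
/-- base -/
def b3 (p : ℕ) : List (C3 (ZMod p)) := [⟨1, 0, 0⟩, ⟨0, 1, 0⟩, ⟨0, 0, 1⟩]
/-- coordinates -/
def c3 (p : ℕ) (x : C3 (ZMod p)) : List ℕ := [x.a.val, x.b.val, x.c.val]
/-- the field with 16 elements -/
abbrev Q4 : Type := QuadraticAlgebra (Q2 2 1 1) ⟨0, 1⟩ 1
/-- base -/
def b4 : List Q4 := [⟨⟨1, 0⟩, 0⟩, ⟨⟨0, 1⟩, 0⟩, ⟨0, ⟨1, 0⟩⟩, ⟨0, ⟨0, 1⟩⟩]
/-- coordinates -/
def c4 (x : Q4) : List ℕ := [x.re.re.val, x.re.im.val, x.im.re.val, x.im.im.val]

theorem rg4 : Rg (Q2 2 1 1) 2 2 (b2 2 1 1) (c2 2 1 1) :=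
  ⟨by decide, by decide +kernel, rfl, by decide +kernel, by decide +kernel, by decide +kernel, by decide +kernel⟩
theorem rg9 : Rg (Q2 3 2 0) 3 2 (b2 3 2 0) (c2 3 2 0) :=
  ⟨by decide, by decide +kernel, rfl, by decide +kernel, by decide +kernel, by decide +kernel, by decide +kernel⟩
theorem rg25 : Rg (Q2 5 2 0) 5 2 (b2 5 2 0) (c2 5 2 0) :=
  ⟨by decide, by decide +kernel, rfl, by decide +kernel, by decide +kernel, by decide +kernel, by decide +kernel⟩
theorem rg8 : Rg (C3 (ZMod 2)) 2 3 (b3 2) (c3 2) :=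
  ⟨by decide, by decide +kernel, rfl, by decide +kernel, by decide +kernel, by decide +kernel, by decide +kernel⟩
theorem rg27 : Rg (C3 (ZMod 3)) 3 3 (b3 3) (c3 3) :=
  ⟨by decide, by decide +kernel, rfl, by decide +kernel, by decide +kernel, by decide +kernel, by decide +kernel⟩
theorem rg16 : Rg Q4 2 4 b4 c4 :=
  ⟨by decide, by decide +kernel, rfl, by decide +kernel, by decide +kernel, by decide +kernel, by decide +kernel⟩

/-- indices -/
def ix2 (m : ℕ) : Fin m ⊕ Fin m → ℕ := Sum.elim Fin.val fun i => m + i.val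

/-- indices -/
def il2 (a b : ℕ) : List (Fin a ⊕ Fin b) := (List.finRange a).map .inl ++ (List.finRange b).map .inr

theorem il_fin (m : ℕ) (h : m * g = n ∧ p ≤ B ∧ n * ((p - 1) * (p - 1)) < B) : Il p g B n (List.finRange m) :=
  ⟨List.nodup_finRange m, List.mem_finRange, by rw [List.length_finRange, h.1], h.2.1, h.2.2⟩

theorem nodup_sum {α β : Type} {l : List α} {l' : List β} (h : l.Nodup) (h' : l'.Nodup) :
    (l.map Sum.inl ++ l'.map Sum.inr).Nodup :=
  List.Nodup.append (h.map Sum.inl_injective) (h'.map Sum.inr_injective) (by simp only [List.disjoint_left, _root_.List.mem_map, _root_.not_exists, _root_.not_and, _root_.forall_exists_index, _root_.and_imp, _root_.forall_apply_eq_imp_iff₂, _root_.reduceCtorEq, _root_.not_false_eq_true, _root_.implies_true])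

theorem il_two (a b : ℕ) (h : (a + b) * g = n ∧ p ≤ B ∧ n * ((p - 1) * (p - 1)) < B) : Il p g B n (il2 a b) :=
  ⟨nodup_sum (List.nodup_finRange a) (List.nodup_finRange b), by rintro (i | i) <;> simp only [il2, _root_.List.mem_append, _root_.List.mem_map, _root_.List.mem_finRange, _root_.Sum.inl.injEq, _root_.true_and, _root_.exists_eq, _root_.reduceCtorEq, _root_.and_false, _root_.exists_false, _root_.or_false, _root_.Sum.inr.injEq, _root_.or_true],
    by rw [il2, List.length_append, List.length_map, List.length_map, List.length_finRange, List.length_finRange, h.1],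
    h.2.1, h.2.2⟩

end Cfsg.Agent.N2.Tg.Eng
end

private theorem dce_b690b9468a45 : _root_.True := by
  try have : _root_.True := by simp only [_root_.Cfsg.Agent.N2.Tg.Eng.prs.eq_1]
  try have : _root_.True := by simp only [_root_.Cfsg.Agent.N2.Tg.Eng.chkT.eq_1]
  try have : _root_.True := by simp only [_root_.Cfsg.Agent.N2.Tg.Eng.chkS.eq_1]
  try have : _root_.True := by simp only [_root_.Cfsg.Agent.N2.Tg.Eng.cnt.eq_1]
  try have : _root_.True := by simp only [_root_.Cfsg.Agent.N2.Tg.Eng.scB.eq_1]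
  try have : _root_.True := by simp only [_root_.Cfsg.Agent.N2.Tg.Eng.bas.eq_1]
  try have : _root_.True := by simp only [_root_.Cfsg.Agent.N2.Tg.Eng.cm.eq_1]
  try have : _root_.True := by simp only [_root_.Cfsg.Agent.N2.Tg.Eng.cod.eq_1]
  try have : _root_.True := by simp only [_root_.Cfsg.Agent.N2.Tg.Eng.lin.eq_1]
  try have : _root_.True := by simp only [_root_.Cfsg.Agent.N2.Tg.Eng.chkJ.eq_1]
  try have : _root_.True := by simp only [_root_.Cfsg.Agent.N2.Tg.Eng.il2.eq_1]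
  try have : _root_.True := by simp only [_root_.Cfsg.Agent.N2.Tg.Eng.Rep.eq_1]
  try have : _root_.True := by simp only [_root_.Cfsg.Agent.N2.Tg.Eng.mv.eq_1]
  try have : _root_.True := by simp only [_root_.Cfsg.Agent.N2.Tg.Eng.cjs.eq_1]
  try have : _root_.True := by simp only [_root_.Cfsg.Agent.N2.Tg.Eng.com.eq_1]
  exact _root_.True.intro
end

-- part: N2/Tri/L2_mg
section
set_option linter.all false

-- part: N2/Tri/L2
section
/-!
# N2 (S3519): triples of `L₂(q)` (helper6)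
-/

set_option autoImplicit false

namespace Cfsg.Agent.N2.Tg.L2

open Cfsg Cfsg.Agent.N2.Tg.Eng

variable {N : Type} [Group N]

theorem dat_l2_7 (h : OrdDiv.Real (.psl 2 7) N) :
    Tri N 2 3 7 ∧ Cj N 7 2 := by
  have H := (has_L (B := 128) (n := 2) (o := 336) (rg_prime 7 (by norm_num)) (il_fin 2 (by decide)) h (by decide) (by decide +kernel) (by decide)
    [mat 7 ([1] : List (ZMod 7)) Fin.val [[6, 6], [2, 1]],
    mat 7 ([1] : List (ZMod 7)) Fin.val [[1, 5], [5, 5]]] (two_mem (by simp only [Matrix.det_fin_two]; decide +kernel))).ext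
    [[0], [1], [0, 0, 0], [1, 1]]
    [[262, 134], [641, 645], [641, 769], [261, 130]] (by decide +kernel)
  exact ⟨H.tri [(1, 48, 46, [[0, 0, 0, 0, 1, 1, 1, 0, 1]]),
    (128, 7, 6, [])]
    (by norm_num) (by decide +kernel),
    H.cj [3, 2] [1, 2, 3, 2, 1, 0, 1, 0, 3] (by norm_num) (by decide +kernel)⟩

theorem dat_l3_2 (h : OrdDiv.Real (.psl 3 2) N) :
    Tri N 2 3 7 ∧ Cj N 7 2 := by
  have H := (has_L (B := 4) (n := 3) (o := 168) (rg_prime 2 (by norm_num)) (il_fin 3 (by decide)) h (by decide) (by decide +kernel) (by decide)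
    [mat 2 ([1] : List (ZMod 2)) Fin.val [[0, 1, 0], [1, 0, 0], [0, 0, 1]],
    mat 2 ([1] : List (ZMod 2)) Fin.val [[0, 0, 1], [0, 1, 0], [1, 0, 1]]] (two_mem (by simp only [Matrix.det_fin_three]; decide +kernel))).ext
    [[0], [1], [0], [1, 1]]
    [[4, 1, 16], [16, 4, 17], [4, 1, 16], [17, 4, 1]] (by decide +kernel)
  exact ⟨H.tri [(1, 7, 5, [[1, 1, 0, 0, 0, 1], [0, 1, 1, 0]]),
    (4, 6, 4, [[0, 1, 0, 1, 1, 0], [1, 1, 1, 1, 0, 0, 1, 0, 1]]),
    (16, 4, 2, [])]
    (by norm_num) (by decide +kernel),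
    H.cj [3, 0] [1, 2, 3, 2, 1, 0, 1, 0, 3] (by norm_num) (by decide +kernel)⟩

theorem dat_l2_8 (h : OrdDiv.Real (.psl 2 8) N) (ho : Nat.card N = 504) :
    Tri N 2 3 7 ∧ Cj N 7 6 ∧ SC N 7 := by
  have H := (has_L (B := 8) (n := 6) (o := 504) rg8 (il_fin 2 (by decide)) h (by decide) (by decide +kernel) (by decide)
    [mat 2 (b3 2) Fin.val [[4, 4], [3, 4]],
    mat 2 (b3 2) Fin.val [[7, 2], [7, 6]]] (two_mem (by simp only [Matrix.det_fin_two]; decide +kernel))).ext
    [[0], [1], [0], [1, 1]]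
    [[4672, 36873, 37448, 32832, 4617, 36936], [37449, 33345, 513, 36872, 37440, 33289], [4672, 36873, 37448, 32832, 4617, 36936], [37448, 33353, 577, 37384, 33344, 521]] (by decide +kernel)
  exact ⟨H.tri [(1, 63, 55, [[0, 1, 0, 1, 1, 0, 1, 1, 0, 1, 0, 0, 1, 0, 1, 0, 1, 1, 0, 1, 0], [1, 1, 0, 1, 1, 0, 0, 1, 0, 0, 1, 0, 1, 0, 0, 1, 0, 1], [0, 1, 0, 1, 1, 0, 1, 0, 1, 0, 1, 0, 1, 1, 0, 0, 1, 1]]),
    (512, 8, 4, [])]
    (by norm_num) (by decide +kernel),
    H.sc [2, 1] [1, 2, 3, 2, 1, 2, 3, 0, 1, 0, 3, 0, 1, 0, 3] [0] [2] [1] [3] 5 7 (by norm_num) ho (by decide) (by decide)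
    (by decide +kernel) (by decide +kernel) (by decide +kernel)⟩

theorem dat_l2_11 (h : OrdDiv.Real (.psl 2 11) N) :
    Tri N 2 3 11 ∧ Cj N 11 3 := by
  have H := (has_L (B := 256) (n := 2) (o := 1320) (rg_prime 11 (by norm_num)) (il_fin 2 (by decide)) h (by decide) (by decide +kernel) (by decide)
    [mat 11 ([1] : List (ZMod 11)) Fin.val [[0, 3], [7, 0]],
    mat 11 ([1] : List (ZMod 11)) Fin.val [[0, 8], [4, 1]]] (two_mem (by simp only [Matrix.det_fin_two]; decide +kernel))).ext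
    [[0], [1], [0, 0, 0], [1, 1, 1, 1, 1]]
    [[1792, 3], [1024, 264], [1024, 8], [1793, 3]] (by decide +kernel)
  exact ⟨H.tri [(1, 120, 114, [[0, 0, 1, 1, 1, 1, 1, 0]]),
    (256, 11, 10, [])]
    (by norm_num) (by decide +kernel),
    H.cj [2, 3] [3, 2, 3, 2, 1, 2, 1, 0, 1, 0, 1, 0, 1] (by norm_num) (by decide +kernel)⟩

theorem dat_l2_13 (h : OrdDiv.Real (.psl 2 13) N) :
    Tri N 2 3 13 ∧ Cj N 13 4 := by
  have H := (has_L (B := 512) (n := 2) (o := 2184) (rg_prime 13 (by norm_num)) (il_fin 2 (by decide)) h (by decide) (by decide +kernel) (by decide)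
    [mat 13 ([1] : List (ZMod 13)) Fin.val [[6, 7], [4, 7]],
    mat 13 ([1] : List (ZMod 13)) Fin.val [[9, 1], [5, 5]]] (two_mem (by simp only [Matrix.det_fin_two]; decide +kernel))).ext
    [[0], [1], [0, 0, 0], [1, 1, 1, 1, 1]]
    [[2054, 3591], [2569, 2561], [4615, 3078], [4101, 4620]] (by decide +kernel)
  exact ⟨H.tri [(1, 168, 163, [[0, 0, 1, 1, 0, 1, 0, 1, 0, 1]]),
    (512, 13, 12, [])]
    (by norm_num) (by decide +kernel),
    H.cj [2, 1] [1, 2, 3, 2, 3, 2, 3, 2, 3, 0, 3, 0, 1, 0, 3] (by norm_num) (by decide +kernel)⟩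

theorem dat_l2_16 (h : OrdDiv.Real (.psl 2 16) N) :
    (∃ c, Tri N 2 3 c) := by
  have H := (has_L (B := 16) (n := 8) (o := 4080) rg16 (il_fin 2 (by decide)) h (by decide) (by decide +kernel) (by decide)
    [mat 2 b4 Fin.val [[15, 14], [14, 15]],
    mat 2 b4 Fin.val [[10, 11], [13, 11]]] (two_mem (by simp only [Matrix.det_fin_two]; decide +kernel))).ext
    [[0], [1], [0], [1, 1]]
    [[286265617, 17891585, 16842753, 269484048, 286331152, 16843025, 65793, 1052688], [285282320, 17830161, 268501009, 286261249, 269553681, 285282561, 17891601, 268505089], [286265617, 17891585, 16842753, 269484048, 286331152, 16843025, 65793, 1052688], [285282321, 17830145, 268501265, 286265345, 269488145, 286331137, 1114385, 69633]] (by decide +kernel)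
  exact H.any [(1, 255, 247, [[0, 1, 0, 1, 0, 1, 1, 0, 1, 0, 1, 1, 0, 1, 1, 0, 1, 0, 0, 1, 1, 0, 0], [1, 1, 0, 1, 1, 0, 1, 0, 1, 0, 1, 1, 0, 1, 0, 1, 0, 1, 0, 1, 0, 1, 0, 1, 0, 1, 0, 1, 0, 1], [0, 1, 0, 1, 0, 1, 0, 1, 0, 1, 0, 1, 1, 0, 1, 0, 1, 0, 1, 0, 1, 1, 0, 0, 0, 0], [1, 0, 1, 1, 0, 1, 0, 1, 0, 0, 0, 0, 1, 0, 1, 0, 1, 1, 0, 0, 0, 0, 0, 0]]),
    (65536, 16, 7, [])]
    (by decide +kernel)

theorem dat_l2_17 (h : OrdDiv.Real (.psl 2 17) N) :
    Tri N 2 3 17 ∧ Cj N 17 2 := by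
  have H := (has_L (B := 1024) (n := 2) (o := 4896) (rg_prime 17 (by norm_num)) (il_fin 2 (by decide)) h (by decide) (by decide +kernel) (by decide)
    [mat 17 ([1] : List (ZMod 17)) Fin.val [[2, 12], [1, 15]],
    mat 17 ([1] : List (ZMod 17)) Fin.val [[6, 15], [7, 12]]] (two_mem (by simp only [Matrix.det_fin_two]; decide +kernel))).ext
    [[0], [1], [0, 0, 0], [1, 1, 1, 1, 1]]
    [[1026, 15372], [7174, 12303], [16399, 2053], [10252, 6146]] (by decide +kernel)
  exact ⟨H.tri [(1, 288, 284, [[0, 0, 0, 1, 0, 1, 0]]),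
    (1024, 17, 16, [])]
    (by norm_num) (by decide +kernel),
    H.cj [3, 2] [1, 2, 1, 2, 3, 2, 1, 0, 1, 0, 1, 0, 1, 0, 3] (by norm_num) (by decide +kernel)⟩

theorem dat_l2_25 (h : OrdDiv.Real (.psl 2 25) N) :
    Tri N 2 3 13 ∧ Cj N 13 12 := by
  have H := (has_L (B := 128) (n := 4) (o := 15600) rg25 (il_fin 2 (by decide)) h (by decide) (by decide +kernel) (by decide)
    [mat 5 (b2 5 2 0) Fin.val [[2, 3], [0, 3]],
    mat 5 (b2 5 2 0) Fin.val [[4, 5], [5, 2]]] (two_mem (by simp only [Matrix.det_fin_two]; decide +kernel))).ext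
    [[0], [1], [0, 0, 0], [1, 1, 1, 1, 1]]
    [[2, 256, 49155, 6291840], [2097156, 33280, 32896, 4194306], [3, 384, 32770, 4194560], [8388610, 49408, 66048, 8388611]] (by decide +kernel)
  exact ⟨H.tri [(1, 624, 618, [[0, 0, 1, 1, 0, 1, 0, 1, 0, 1, 0, 1, 1, 0, 1, 0, 1, 0, 1, 1], [1, 1, 0, 1, 1, 0, 0, 0, 1, 0, 1, 0]]),
    (16384, 25, 16, [])]
    (by norm_num) (by decide +kernel),
    H.cj [0, 3] [3, 2, 3, 2, 1, 2, 1, 0, 3, 0, 3, 0, 1, 0, 1] (by norm_num) (by decide +kernel)⟩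

theorem dat_l2_27 (h : OrdDiv.Real (.psl 2 27) N) :
    (∃ c, Tri N 2 3 c) := by
  have H := (has_L (B := 32) (n := 6) (o := 19656) rg27 (il_fin 2 (by decide)) h (by decide) (by decide +kernel) (by decide)
    [mat 3 (b3 3) Fin.val [[19, 2], [23, 11]],
    mat 3 (b3 3) Fin.val [[23, 10], [3, 15]]] (two_mem (by simp only [Matrix.det_fin_two]; decide +kernel))).ext
    [[0], [1], [0, 0, 0], [1, 1]]
    [[68225025, 34668546, 33587264, 33619970, 32832, 1050624], [1050658, 33555490, 1082369, 35652609, 68190273, 33622048], [35685378, 69238785, 67174432, 67141633, 65568, 2098176], [2098240, 67110945, 2163714, 68225026, 34668578, 33588288]] (by decide +kernel)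
  exact H.any [(1, 728, 725, [[1, 1, 0, 0, 0, 1, 1, 0, 1, 0, 1, 1, 0, 1, 0, 1, 0, 0, 1, 1], [0, 1, 1, 0, 1, 1, 0, 0, 0, 1, 0, 1, 0, 1, 1, 1, 1, 0], [1, 1, 0, 1, 0, 1, 0, 1, 1, 0, 1, 0, 1, 0, 1, 0, 1, 1, 0, 1, 0, 1, 1]]),
    (32768, 27, 21, [])]
    (by decide +kernel)

theorem dat_l2_19 (h : OrdDiv.Real (.psl 2 19) N) :
    Cj N 19 4 := by
  have H := (has_L (B := 1024) (n := 2) (o := 6840) (rg_prime 19 (by norm_num)) (il_fin 2 (by decide)) h (by decide) (by decide +kernel) (by decide)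
    [mat 19 ([1] : List (ZMod 19)) Fin.val [[1, 9], [4, 18]],
    mat 19 ([1] : List (ZMod 19)) Fin.val [[1, 15], [15, 17]]] (two_mem (by simp only [Matrix.det_fin_two]; decide +kernel))).ext
    [[0], [1], [0, 0, 0], [1, 1]]
    [[4097, 18441], [15361, 17423], [15378, 1034], [4113, 1028]] (by decide +kernel)
  exact H.cj [1, 0, 3, 2, 3, 2] [3, 2, 3, 2, 1, 2, 1, 0, 1, 0, 1, 0] (by norm_num) (by decide +kernel)

theorem dat_l2_23 (h : OrdDiv.Real (.psl 2 23) N) :
    Cj N 23 2 := by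
  have H := (has_L (B := 1024) (n := 2) (o := 12144) (rg_prime 23 (by norm_num)) (il_fin 2 (by decide)) h (by decide) (by decide +kernel) (by decide)
    [mat 23 ([1] : List (ZMod 23)) Fin.val [[18, 10], [14, 4]],
    mat 23 ([1] : List (ZMod 23)) Fin.val [[0, 22], [1, 5]]] (two_mem (by simp only [Matrix.det_fin_two]; decide +kernel))).ext
    [[0], [1], [0, 0], [1, 1, 1, 1, 1, 1, 1]]
    [[14354, 4106], [1024, 5142], [9220, 18445], [22533, 1]] (by decide +kernel)
  exact H.cj [2, 1] [1, 2, 3, 2, 3, 2] (by norm_num) (by decide +kernel)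

theorem dat_l2_29 (h : OrdDiv.Real (.psl 2 29) N) :
    Cj N 29 4 := by
  have H := (has_L (B := 2048) (n := 2) (o := 24360) (rg_prime 29 (by norm_num)) (il_fin 2 (by decide)) h (by decide) (by decide +kernel) (by decide)
    [mat 29 ([1] : List (ZMod 29)) Fin.val [[13, 17], [8, 15]],
    mat 29 ([1] : List (ZMod 29)) Fin.val [[1, 23], [7, 17]]] (two_mem (by simp only [Matrix.det_fin_two]; decide +kernel))).ext
    [[0], [1], [0, 0], [1, 1, 1, 1, 1, 1]]
    [[16397, 30737], [14337, 34839], [43023, 26636], [45073, 2054]] (by decide +kernel)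
  exact H.cj [3, 3, 1, 0, 3, 2, 3, 3, 0] [3, 2, 1, 0, 3] (by norm_num) (by decide +kernel)

theorem dat_l2_31 (h : OrdDiv.Real (.psl 2 31) N) :
    Cj N 31 7 := by
  have H := (has_L (B := 2048) (n := 2) (o := 29760) (rg_prime 31 (by norm_num)) (il_fin 2 (by decide)) h (by decide) (by decide +kernel) (by decide)
    [mat 31 ([1] : List (ZMod 31)) Fin.val [[17, 6], [16, 13]],
    mat 31 ([1] : List (ZMod 31)) Fin.val [[12, 1], [7, 11]]] (two_mem (by simp only [Matrix.det_fin_two]; decide +kernel))).ext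
    [[0], [1], [0, 0], [1, 1, 1, 1, 1, 1, 1]]
    [[32785, 26630], [14348, 22529], [30733, 34841], [49163, 24606]] (by decide +kernel)
  exact H.cj [1, 0] [3, 0, 1, 0, 3, 0, 1, 2] (by norm_num) (by decide +kernel)

theorem dat_l2_37 (h : OrdDiv.Real (.psl 2 37) N) :
    Cj N 37 3 := by
  have H := (has_L (B := 4096) (n := 2) (o := 50616) (rg_prime 37 (by norm_num)) (il_fin 2 (by decide)) h (by decide) (by decide +kernel) (by decide)
    [mat 37 ([1] : List (ZMod 37)) Fin.val [[20, 20], [5, 18]],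
    mat 37 ([1] : List (ZMod 37)) Fin.val [[31, 4], [20, 5]]] (two_mem (by simp only [Matrix.det_fin_two]; decide +kernel))).ext
    [[0], [1], [0, 0, 0, 0, 0], [1, 1]]
    [[20500, 73748], [81951, 20484], [131090, 81937], [69637, 127009]] (by decide +kernel)
  exact H.cj [0, 3, 0, 1, 2, 2, 2, 0, 3, 3, 0, 1] [1, 2, 1, 2, 3] (by norm_num) (by decide +kernel)

theorem dat_l2_41 (h : OrdDiv.Real (.psl 2 41) N) :
    Cj N 41 2 := by
  have H := (has_L (B := 4096) (n := 2) (o := 68880) (rg_prime 41 (by norm_num)) (il_fin 2 (by decide)) h (by decide) (by decide +kernel) (by decide)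
    [mat 41 ([1] : List (ZMod 41)) Fin.val [[35, 12], [2, 30]],
    mat 41 ([1] : List (ZMod 41)) Fin.val [[11, 33], [15, 19]]] (two_mem (by simp only [Matrix.det_fin_two]; decide +kernel))).ext
    [[0], [1], [0, 0, 0, 0, 0, 0, 0], [1, 1, 1, 1, 1, 1]]
    [[8227, 122892], [61451, 77857], [159774, 143389], [106515, 45064]] (by decide +kernel)
  exact H.cj [2, 3, 3, 0, 1, 2, 1, 0, 2, 2, 3, 3, 0, 1, 2, 1, 0, 2] [3, 3, 3, 0, 0, 3] (by norm_num) (by decide +kernel)

theorem dat_l2_43 (h : OrdDiv.Real (.psl 2 43) N) :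
    Cj N 43 9 := by
  have H := (has_L (B := 4096) (n := 2) (o := 79464) (rg_prime 43 (by norm_num)) (il_fin 2 (by decide)) h (by decide) (by decide +kernel) (by decide)
    [mat 43 ([1] : List (ZMod 43)) Fin.val [[30, 15], [33, 28]],
    mat 43 ([1] : List (ZMod 43)) Fin.val [[42, 17], [5, 0]]] (two_mem (by simp only [Matrix.det_fin_two]; decide +kernel))).ext
    [[0], [1], [0, 0, 0, 0, 0, 0], [1, 1]]
    [[135198, 114703], [20522, 17], [40988, 122908], [155648, 172058]] (by decide +kernel)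
  exact H.cj [3, 0, 3, 2] [2, 1, 0, 0, 0, 3, 0, 1] (by norm_num) (by decide +kernel)

theorem dat_l2_47 (h : OrdDiv.Real (.psl 2 47) N) :
    Cj N 47 2 := by
  have H := (has_L (B := 8192) (n := 2) (o := 103776) (rg_prime 47 (by norm_num)) (il_fin 2 (by decide)) h (by decide) (by decide +kernel) (by decide)
    [mat 47 ([1] : List (ZMod 47)) Fin.val [[25, 3], [22, 29]],
    mat 47 ([1] : List (ZMod 47)) Fin.val [[8, 35], [14, 32]]] (two_mem (by simp only [Matrix.det_fin_two]; decide +kernel))).ext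
    [[0], [1], [0, 0, 0, 0, 0, 0, 0], [1, 1, 1, 1, 1, 1, 1]]
    [[180249, 237571], [114696, 262179], [204829, 204844], [270368, 65548]] (by decide +kernel)
  exact H.cj [0, 1, 0, 1, 1] [2, 3, 0, 1, 1, 0] (by norm_num) (by decide +kernel)

end Cfsg.Agent.N2.Tg.L2
end

-- part: N2/Tri/L3
section
/-!
# N2 (S3519): triples of `L₃(3)`, `L₃(4)`, `L₅(2)` (helper6)
-/

set_option autoImplicit false

namespace Cfsg.Agent.N2.Tg.L3

open Cfsg Cfsg.Agent.N2.Tg.Eng

variable {N : Type} [Group N]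

theorem dat_l3_3 (h : OrdDiv.Real (.psl 3 3) N) (ho : Nat.card N = 5616) :
    Tri N 2 3 13 ∧ Cj N 13 3 ∧ SC N 13 := by
  have H := (has_L (B := 16) (n := 3) (o := 5616) (rg_prime 3 (by norm_num)) (il_fin 3 (by decide)) h (by decide) (by decide +kernel) (by decide)
    [mat 3 ([1] : List (ZMod 3)) Fin.val [[2, 0, 0], [2, 2, 2], [2, 0, 1]],
    mat 3 ([1] : List (ZMod 3)) Fin.val [[2, 1, 2], [2, 0, 2], [0, 0, 1]]] (two_mem (by simp only [Matrix.det_fin_three]; decide +kernel))).ext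
    [[0], [1], [0], [1, 1]]
    [[546, 32, 288], [34, 1, 290], [546, 32, 288], [16, 34, 258]] (by decide +kernel)
  exact ⟨H.tri [(1, 26, 24, [[0, 1, 1, 0, 1, 0, 1, 0, 1, 1], [0, 1, 1, 0, 1, 1, 0, 1, 0, 1, 0, 1, 0]]),
    (16, 24, 20, [[0, 1, 0, 1, 1, 0, 1, 0, 0], [1, 0, 1, 1, 0, 0, 0]]),
    (256, 9, 6, [])]
    (by norm_num) (by decide +kernel),
    H.sc [3, 2] [1, 2, 3, 2, 3, 2, 3, 2, 3, 2, 3, 0, 1, 0, 3, 0, 3, 0, 1, 0, 3] [0] [2] [1] [3] 10 13 (by norm_num) ho (by decide) (by decide)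
    (by decide +kernel) (by decide +kernel) (by decide +kernel)⟩

private noncomputable def _root_.Cfsg.Agent.LsF.f63d61e_0 : {f // @Cfsg.Agent.N2.Tg.Eng.idC = f} := ⟨_, by first | (delta Cfsg.Agent.N2.Tg.Eng.idC; rewrite [Cfsg.Agent.LsF.map_eq]; exact rfl) | exact rfl⟩
private noncomputable def _root_.Cfsg.Agent.LsF.f63d61e_1 : {f // @Cfsg.Agent.N2.Tg.Eng.ev = f} := ⟨_, by first | (delta Cfsg.Agent.N2.Tg.Eng.ev; rewrite [Cfsg.Agent.LsF.f63d61e_0.2, Cfsg.Agent.LsF.getD_eq]; exact rfl) | exact rfl⟩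
private noncomputable def _root_.Cfsg.Agent.LsF.f63d61e_6 : {f // @Cfsg.Agent.N2.Tg.Eng.chkS = f} := ⟨_, by first | (delta Cfsg.Agent.N2.Tg.Eng.chkS; rewrite [Cfsg.Agent.LsF.f63d61e_1.2, Cfsg.Agent.LsF.f63d61e_0.2, Cfsg.Agent.LsF.instNBEq_pat, Cfsg.Agent.LsF.and_eq, Cfsg.Agent.LsF.instBEq_eq]; exact rfl) | exact rfl⟩
theorem dat_l3_4 (h : OrdDiv.Real (.psl 3 4) N) (ho : Nat.card N = 20160) :
    Tri N 2 4 7 ∧ Cj N 7 2 ∧ SC N 7 := by
  have H := (has_L (B := 8) (n := 6) (o := 60480) rg4 (il_fin 3 (by decide)) h (by decide) (by decide +kernel) (by decide)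
    [mat 2 (b2 2 1 1) Fin.val [[2, 1, 1], [3, 0, 1], [1, 2, 3]],
    mat 2 (b2 2 1 1) Fin.val [[3, 0, 0], [1, 3, 0], [1, 1, 3]]] (two_mem (by simp only [Matrix.det_fin_three]; decide +kernel))).ext
    [[0], [1], [0], [1, 1, 1, 1, 1, 1, 1, 1, 1, 1, 1]]
    [[4680, 32841, 32769, 36872, 36929, 4616], [4169, 33281, 4672, 32832, 36864, 4096], [4680, 32841, 32769, 36872, 36929, 4616], [33352, 36937, 37376, 4672, 32768, 36864]] (by decide +kernel)
  exact ⟨H.tri [(1, 63, 57, [[0, 1, 1, 0, 1, 0, 1, 0, 1, 1, 0], [0, 1, 1, 1, 0, 1, 0, 1, 1, 0, 1]]),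
    (64, 60, 52, [[0, 1, 1, 0, 1, 1, 1, 0, 0, 0, 0, 0, 0, 0, 0], [1, 0, 0, 0, 0, 1, 0, 1], [1, 0, 1, 0, 1, 0, 0, 0, 1, 0, 0, 0, 1, 1, 1, 0, 1, 0, 0], [0, 1, 0, 0, 1, 1, 1, 0, 0, 1, 1, 1, 1, 1, 1, 0, 1, 0, 1]]),
    (4096, 16, 7, [])]
    (by norm_num) (by decide +kernel),
    H.sc [1, 0, 3, 2, 1] [3, 2, 3, 2, 1, 2, 1, 2, 3, 0, 1, 1, 0, 3, 0, 1, 1, 0] [0] [2] [1] [3] 504 721 (by norm_num) ho (by decide) (by decide)
    (by decide +kernel) (by ((try (rewrite [Cfsg.Agent.LsF.f63d61e_6.2])); decide +kernel)) (by decide +kernel)⟩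

private noncomputable def _root_.Cfsg.Agent.LsF.f63d61e_7 : {f // @Cfsg.Agent.N2.Tg.Eng.dec = f} := ⟨_, by first | (delta Cfsg.Agent.N2.Tg.Eng.dec List.brecOn List.brecOn.go Cfsg.Agent.N2.Tg.Eng.dec._f; rewrite [Cfsg.Agent.LsF.ndiv_pat, Cfsg.Agent.LsF.nmod_pat]; (try delta Cfsg.Agent.N2.Tg.Eng.dec.match_1); (try delta List.casesOn); first | dsimp -zeta only | exact rfl) | exact rfl⟩
private noncomputable def _root_.Cfsg.Agent.LsF.f63d61e_8 : {f // @Cfsg.Agent.N2.Tg.Eng.mat = f} := ⟨_, by first | (delta Cfsg.Agent.N2.Tg.Eng.mat; rewrite [Cfsg.Agent.LsF.f63d61e_7.2, Cfsg.Agent.LsF.getD_eq]; exact rfl) | exact rfl⟩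
theorem dat_l5_2 (h : OrdDiv.Real (.psl 5 2) N) :
    (∃ c, Tri N 2 3 c) ∧ Cj N 31 2 := by
  have H := (has_L (B := 8) (n := 5) (o := 9999360) (rg_prime 2 (by norm_num)) (il_fin 5 (by decide)) h (by decide) (by decide +kernel) (by decide)
    [mat 2 ([1] : List (ZMod 2)) Fin.val [[0, 0, 0, 0, 1], [1, 1, 0, 0, 1], [0, 1, 1, 0, 1], [1, 0, 0, 1, 1], [1, 0, 0, 0, 0]],
    mat 2 ([1] : List (ZMod 2)) Fin.val [[0, 1, 0, 1, 0], [0, 1, 1, 1, 0], [1, 1, 0, 0, 1], [1, 0, 1, 0, 0], [1, 1, 1, 0, 0]]] (two_mem (by (refine of_decide_eq_true ?_; (try (rewrite [Cfsg.Agent.LsF.f63d61e_8.2, Cfsg.Agent.LsF.zdet_pat, Cfsg.Agent.LsF.zdecEq_eq, Cfsg.Agent.LsF.finFintype_eq, Cfsg.Agent.LsF.dAnd_eq, Cfsg.Agent.LsF.decide_eq])); decide +kernel)))).ext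
    [[0], [1], [0], [1, 1]]
    [[4616, 72, 64, 512, 585], [4672, 4169, 4616, 9, 64], [4616, 72, 64, 512, 585], [4673, 4161, 4096, 521, 4616]] (by decide +kernel)
  exact ⟨H.any [(1, 31, 29, [[1, 0, 1, 0, 1, 0, 1, 0, 1, 1], [0, 1, 1, 1, 1, 0, 1, 0, 0, 0, 0, 1, 0]]),
    (8, 30, 29, [[0, 0, 0, 1, 1, 1, 0, 0, 1, 0], [0, 0, 1, 0, 1, 0, 1, 1, 0, 0, 0]]),
    (64, 28, 23, [[1, 1, 1, 0, 1, 0, 1, 0, 1, 1, 0], [0, 1, 0, 1, 0, 0, 0, 1, 0, 0, 0, 1, 0], [1, 0, 1, 0, 1, 1, 0, 0, 0, 1, 1, 0, 0, 0, 0, 0, 0]]),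
    (512, 24, 16, [[0, 0, 1, 0, 2, 1, 2, 1, 1, 0, 1, 2, 0, 2, 2, 1, 0, 0, 2], [0, 0, 0, 2, 1, 1, 1, 2, 2, 0, 0, 2, 1, 0, 0, 1, 2, 0], [0, 0, 2, 0], [2, 1, 1, 0, 1, 1, 1, 0, 1, 2, 0, 0, 2, 1]]),
    (4096, 16, 7, [])]
    (by decide +kernel),
    H.cj [0, 1, 0, 3, 3, 2, 3, 1, 1, 2, 1, 0, 3, 0, 0, 2, 3] [3, 2, 3, 2, 3, 2, 3, 2, 3, 2, 1, 2, 1, 2, 1, 0, 1, 0, 3, 0, 3, 0, 1, 0, 1, 0, 1, 0, 3, 0] (by norm_num) (by decide +kernel)⟩

end Cfsg.Agent.N2.Tg.L3
end

-- part: N2/Tri/U3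
section
/-!
# N2 (S3519): triples of `U₃(q)` (helper6)
-/

set_option autoImplicit false

namespace Cfsg.Agent.N2.Tg.U3

open Cfsg Cfsg.Agent.N2.Tg.Eng

variable {N : Type} [Group N]

theorem dat_u3_3 (h : OrdDiv.Real (.psu 3 3) N) (ho : Nat.card N = 6048) :
    Tri N 2 6 7 ∧ Cj N 7 2 ∧ SC N 7 := by
  have H := (has_U (B := 32) (n := 6) (o := 6048) (s := 1) rg9 (il_fin 3 (by decide)) (by norm_num) h (by decide) (by decide) (by decide +kernel)
    [mat 3 (b2 3 2 0) Fin.val [[1, 4, 6], [7, 0, 4], [3, 7, 1]],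
    mat 3 (b2 3 2 0) Fin.val [[5, 6, 3], [6, 3, 7], [3, 7, 3]]] (two_mem (by simp only [Matrix.det_fin_three]; decide +kernel))).ext
    [[0], [1], [0], [1, 1, 1, 1, 1]]
    [[33620993, 2130976, 68157473, 34603042, 1082432, 33589249], [33620002, 2098242, 68190272, 34605057, 33621024, 2130946], [33620993, 2130976, 68157473, 34603042, 1082432, 33589249], [67141698, 1050689, 34668576, 35652610, 67142720, 1083393]] (by decide +kernel)
  exact ⟨H.tri [(1, 252, 236, [[1, 1, 1, 0, 0, 1, 0, 1, 0, 1, 1], [1, 1, 0, 1, 0, 1, 0, 1, 0, 1, 0]]),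
    (1024, 24, 22, [])]
    (by norm_num) (by decide +kernel),
    H.sc [1, 2] [3, 2, 3, 2, 3, 2, 1, 1, 0, 1, 0, 3, 0] [0] [2] [1] [3] 136 217 (by norm_num) ho (by decide) (by decide)
    (by decide +kernel) (by ((try (rewrite [Cfsg.Agent.LsF.f63d61e_6.2])); decide +kernel)) (by decide +kernel)⟩

private noncomputable def _root_.Cfsg.Agent.LsF.f63d61e_9 : {f // @Cfsg.Agent.N2.Tg.Eng.enc = f} := ⟨_, by first | (delta Cfsg.Agent.N2.Tg.Eng.enc; rewrite [Cfsg.Agent.LsF.flatMap_eq]; exact rfl) | exact rfl⟩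
private noncomputable def _root_.Cfsg.Agent.LsF.f63d61e_10 : {f // @Cfsg.Agent.N2.Tg.Eng.prs = f} := ⟨_, by first | (delta Cfsg.Agent.N2.Tg.Eng.prs; rewrite [Cfsg.Agent.LsF.map_eq, Cfsg.Agent.LsF.flatMap_eq]; exact rfl) | exact rfl⟩
private noncomputable def _root_.Cfsg.Agent.LsF.f63d61e_11 : {f // @Cfsg.Agent.N2.Tg.Eng.cod = f} := ⟨_, by first | (delta Cfsg.Agent.N2.Tg.Eng.cod; rewrite [Cfsg.Agent.LsF.f63d61e_9.2, Cfsg.Agent.LsF.f63d61e_10.2, Cfsg.Agent.LsF.map_eq]; exact rfl) | exact rfl⟩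
private noncomputable def _root_.Cfsg.Agent.LsF.f63d61e_12 : {f // @Cfsg.Agent.N2.Tg.Eng.c4 = f} := ⟨_, by first | (delta Cfsg.Agent.N2.Tg.Eng.c4; rewrite [Cfsg.Agent.LsF.zval_eq]; exact rfl) | exact rfl⟩
private noncomputable def _root_.Cfsg.Agent.LsF.f63d61e_2 : {f // @Cfsg.Agent.N2.Tg.Eng.chain = f} := ⟨_, by first | (delta Cfsg.Agent.N2.Tg.Eng.chain; rewrite [Cfsg.Agent.LsF.f63d61e_1.2, Cfsg.Agent.LsF.and_eq, Cfsg.Agent.LsF.all_eq, Cfsg.Agent.LsF.map_eq]; exact rfl) | exact rfl⟩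
private noncomputable def _root_.Cfsg.Agent.LsF.f63d61e_3 : {f // @Cfsg.Agent.N2.Tg.Eng.com = f} := ⟨_, by first | (delta Cfsg.Agent.N2.Tg.Eng.com; rewrite [Cfsg.Agent.LsF.instNBEq_pat, Cfsg.Agent.LsF.instBEq_eq]; exact rfl) | exact rfl⟩
private noncomputable def _root_.Cfsg.Agent.LsF.f63d61e_4 : {f // @Cfsg.Agent.N2.Tg.Eng.pw = f} := ⟨_, by first | (delta Cfsg.Agent.N2.Tg.Eng.pw; rewrite [Cfsg.Agent.LsF.f63d61e_0.2]; exact rfl) | exact rfl⟩
private noncomputable def _root_.Cfsg.Agent.LsF.f63d61e_5 : {f // @Cfsg.Agent.N2.Tg.Eng.chkT = f} := ⟨_, by first | (delta Cfsg.Agent.N2.Tg.Eng.chkT; rewrite [Cfsg.Agent.LsF.f63d61e_2.2, Cfsg.Agent.LsF.f63d61e_3.2, Cfsg.Agent.LsF.f63d61e_4.2, Cfsg.Agent.LsF.and_eq, Cfsg.Agent.LsF.not_eq, Cfsg.Agent.LsF.map_eq, Cfsg.Agent.LsF.prod_eq]; exact rfl) | exact rfl⟩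
theorem dat_u3_4 (h : OrdDiv.Real (.psu 3 4) N) :
    Tri N 2 3 13 ∧ Cj N 13 3 := by
  have H := (has_U (B := 16) (n := 12) (o := 62400) (s := 2) rg16 (il_fin 3 (by decide)) (by norm_num) h (by decide) (by decide) (by decide +kernel)
    [mat 2 b4 Fin.val [[3, 8, 9], [10, 2, 6], [11, 7, 0]],
    mat 2 b4 Fin.val [[1, 5, 5], [12, 1, 2], [12, 3, 0]]] (two_mem (by simp only [Matrix.det_fin_three]; decide +kernel))).ext
    [[0], [1], [0], [1, 1]]
    [[17665469972497, 18696278966273, 1172527190272, 17596481077504, 1172527124480, 17596482130176, 17661173960721, 18764997333249, 17829889, 269553936, 286265617, 17891585], [18691982884865, 1099528405008, 18696277917952, 1168248934400, 73014509825, 4296019984, 18691714449424, 1099780063249, 1048833, 1118224, 268435472, 285212689], [17665469972497, 18696278966273, 1172527190272, 17596481077504, 1172527124480, 17596482130176, 17661173960721, 18764997333249, 17829889, 269553936, 286265617, 17891585],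 [1099528404993, 17592454479888, 1168248930560, 17665470042112, 68719546641, 73015492865, 17592202821633, 18691966107664, 1118481, 65793, 285212673, 16777232]] (by ((try (rewrite [Cfsg.Agent.LsF.f63d61e_11.2, Cfsg.Agent.LsF.f63d61e_12.2, Cfsg.Agent.LsF.f63d61e_8.2, Cfsg.Agent.LsF.f63d61e_1.2, Cfsg.Agent.LsF.instNBEq_pat, Cfsg.Agent.LsF.map_eq, Cfsg.Agent.LsF.instBEq_eq, Cfsg.Agent.LsF.finRange_eq])); decide +kernel))
  exact ⟨H.tri [(1, 1040, 1034, [[1, 1, 0, 1, 0, 1, 1, 0, 1, 0, 1, 0, 0, 1, 1, 0, 1, 0, 1, 0, 1, 0, 1, 1, 0, 1], [0, 1, 0, 1, 1, 0, 1, 0, 1, 0, 1, 0, 1, 1, 0, 1, 0, 1, 0, 1, 0, 1, 0, 1]]),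
    (65536, 60, 40, [])]
    (by norm_num) (by ((try (rewrite [Cfsg.Agent.LsF.f63d61e_5.2])); decide +kernel)),
    H.cj [0, 1] [1, 2, 3, 2, 3, 2, 3, 2, 1, 2, 1, 2, 3, 2, 1, 2, 1, 0, 3, 0, 1, 0, 1, 0, 3, 0, 1, 0, 1, 0, 1, 0, 3] (by norm_num) (by decide +kernel)⟩

theorem dat_u3_5 (h : OrdDiv.Real (.psu 3 5) N) :
    Tri N 2 5 7 ∧ Cj N 7 2 := by
  have H := (has_U (B := 128) (n := 6) (o := 378000) (s := 1) rg25 (il_fin 3 (by decide)) (by norm_num) h (by decide) (by decide) (by decide +kernel)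
    [mat 5 (b2 5 2 0) Fin.val [[12, 16, 23], [14, 6, 24], [7, 24, 0]],
    mat 5 (b2 5 2 0) Fin.val [[22, 18, 20], [8, 23, 7], [15, 16, 13]]] (two_mem (by simp only [Matrix.det_fin_three]; decide +kernel))).ext
    [[0], [1], [0, 0, 0, 0, 0], [1, 1, 1, 1]]
    [[34900869378, 69264802052, 138514809217, 138246389889, 8454659, 8438147], [103081361922, 274759939, 103356088707, 34634514817, 69526913536, 104157184003], [35169255810, 103618248961, 35441885572, 137977971201, 2163202, 8421635], [34363981954, 543228162, 137977971203, 69531107715, 103888732416, 103349813252]] (by decide +kernel)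
  exact ⟨H.tri [(35173499396, 3024, 3019, [[0, 0, 0, 1, 0, 1, 0, 1, 1, 0, 1, 1, 1, 1, 0, 1, 0, 1, 0], [1, 1, 1, 1, 0, 1, 1, 0, 1, 1, 0, 1, 0, 1, 0, 1, 0, 1, 1, 0]]),
    (1, 125, 117, [])]
    (by norm_num) (by decide +kernel),
    H.cj [0, 1, 0, 0] [1, 2, 1, 2, 1, 1, 2, 1, 2, 3, 0, 1, 0, 1, 1, 0, 3, 0, 3] (by norm_num) (by decide +kernel)⟩

end Cfsg.Agent.N2.Tg.U3
end
end

-- part: N2/Tri/Orth
section
set_option linter.all false
open scoped Cfsg.Agent.FastGrp

/-!
# N2 triples: two-generation of `E Q` for a quadratic form on `𝔽₂⁸` by computation with codes (helper38)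

* `Ac dec g f` : `g` acts on the codes below `256` as `f`;
* `wd x y l`, `ew fx fy l` : words in two letters and their computed action;
* `top_of_chk` : a certificate for `closure {x, y} = ⊤` (one Siegel transformation as a word, words in the stabiliser
  of a singular vector, transitivity on the singular vectors).
-/

set_option autoImplicit false

namespace Cfsg.Agent.N2.Tg.Orth

open QuadraticMap Subgroup Cfsg.Agent.LieClassical.OrthCore

section words

variable {G : Type*} [Group G]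

/-- words in two letters -/
def wd (x y : G) : List Bool → G
  | [] => 1
  | b :: l => (if b then y else x) * wd x y l

example := @wd.eq_def

theorem wd_nil (x y : G) : wd x y [] = 1 := rfl
theorem wd_cons (x y : G) (b : Bool) (l : List Bool) : wd x y (b :: l) = (if b then y else x) * wd x y l := rfl

theorem wd_mem {x y : G} {H : Subgroup G} (hx : x ∈ H) (hy : y ∈ H) (l : List Bool) : wd x y l ∈ H := by
  induction l with
  | nil => exact H.one_mem
  | cons b l ih =>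
    rw [wd_cons]
    cases b
    · exact H.mul_mem hx ih
    · exact H.mul_mem hy ih

/-- computed action of a word -/
def ew {A : Type*} (fx fy : A → A) : List Bool → A → A
  | [], a => a
  | b :: l, a => (if b then fy else fx) (ew fx fy l a)

example := @ew.eq_def

/-- a word from the bits of a number below its leading bit -/
def bits : ℕ → ℕ → List Bool
  | 0, _ => []
  | n + 1, w => if w ≤ 1 then [] else (w % 2 == 1) :: bits n (w / 2)

example := @bits.eq_def

/-- all sums of sublists -/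
def sums : List ℕ → List ℕ
  | [] => [0]
  | a :: l => sums l ++ (sums l).map (a ^^^ ·)

example := @sums.eq_def

theorem sums_ind {P : ℕ → Prop} (h0 : P 0) (hx : ∀ a b, P a → P b → P (a ^^^ b)) :
    ∀ l : List ℕ, (∀ a ∈ l, P a) → ∀ s ∈ sums l, P s
  | [], _, s, hs => by
    have h : s = 0 := List.mem_singleton.1 hs
    rw [h]; exact h0
  | a :: l, h, s, hs => by
    have ih := sums_ind h0 hx l (fun b hb => h b (List.mem_cons_of_mem _ hb))
    rcases List.mem_append.1 (show s ∈ sums l ++ (sums l).map (a ^^^ ·) from hs) with h1 | h1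
    · exact ih s h1
    · obtain ⟨t, ht, rfl⟩ := List.mem_map.1 h1
      exact hx _ _ (h a List.mem_cons_self) (ih t ht)

/-- entry `a` of a table with eight bits per entry -/
def lk (t a : ℕ) : ℕ := (t >>> (8 * a)) % 256

/-- entry `a` of a table with forty bits per entry -/
def lw (t a : ℕ) : ℕ := (t >>> (40 * a)) % 1099511627776

theorem lk_lt (t a : ℕ) : lk t a < 256 := Nat.mod_lt _ (by norm_num)

/-- bounded check -/
def al (p : ℕ → Bool) : Bool := (List.range 256).all p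

theorem al_iff {p : ℕ → Bool} (h : al p = true) {a : ℕ} (ha : a < 256) : p a = true :=
  List.all_eq_true.1 h a (List.mem_range.2 ha)

end words

variable {V : Type} [AddCommGroup V] [Module (ZMod 2) V] {Q : QuadraticForm (ZMod 2) V} {dec : ℕ → V} {qn : ℕ → Bool}

/-- bit to scalar -/
def cc (b : Bool) : ZMod 2 := if b then 1 else 0

theorem cc_xor (a b : Bool) : cc (a ^^ b) = cc a + cc b := by cases a <;> cases b <;> decide
theorem cc_and (a b : Bool) : cc (a && b) = cc a * cc b := by cases a <;> cases b <;> decide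
theorem cc_zero {a : Bool} (h : cc a = 0) : a = false := by
  cases a
  · rfl
  · exact absurd h (by decide)

/-- codes for the vectors and the form -/
structure Cod (Q : QuadraticForm (ZMod 2) V) (dec : ℕ → V) (qn : ℕ → Bool) : Prop where
  xor : ∀ a b, dec (a ^^^ b) = dec a + dec b
  surj : ∀ v, ∃ a < 256, dec a = v
  q : ∀ n, Q (dec n) = cc (qn n)

theorem add_self (v : V) : v + v = 0 := by
  rw [← two_smul (ZMod 2) v, show (2 : ZMod 2) = 0 from rfl, zero_smul]

theorem sub_eq (u v : V) : u - v = u + v := by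
  rw [sub_eq_add_neg, neg_eq_of_add_eq_zero_left (add_self v)]

theorem Cod.zero (h : Cod Q dec qn) : dec 0 = 0 := by
  have h1 := h.xor 0 0
  rw [Nat.xor_self, add_self] at h1
  exact h1

/-- the polar form on codes -/
def bn (qn : ℕ → Bool) (m n : ℕ) : Bool := qn (m ^^^ n) ^^ qn m ^^ qn n

theorem Cod.b (h : Cod Q dec qn) (m n : ℕ) : polar Q (dec m) (dec n) = cc (bn qn m n) := by
  rw [polar, ← h.xor, h.q, h.q, h.q, bn, cc_xor, cc_xor, sub_eq, sub_eq]

/-- one Siegel transformation on codes -/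
def xn (qn : ℕ → Bool) (u w v : ℕ) : ℕ :=
  v ^^^ ((if bn qn u v then w else 0) ^^^ (if bn qn w v then u else 0)) ^^^ (if qn w && bn qn u v then u else 0)

/-- validity of a pair -/
def ok (qn : ℕ → Bool) (p : ℕ × ℕ) : Bool := !qn p.1 && !bn qn p.1 p.2

theorem Cod.ok_iff (h : Cod Q dec qn) {p : ℕ × ℕ} (hp : ok qn p = true) :
    Q (dec p.1) = 0 ∧ polar Q (dec p.1) (dec p.2) = 0 := by
  simp only [ok, Bool.and_eq_true, Bool.not_eq_true'] at hp
  rw [h.q, h.b, hp.1, hp.2]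
  exact ⟨rfl, rfl⟩

theorem Cod.ite (h : Cod Q dec qn) (b : Bool) (w : ℕ) : dec (if b then w else 0) = cc b • dec w := by
  cases b
  · simp [cc, h.zero]
  · simp [cc]

theorem Cod.sie (h : Cod Q dec qn) {u w : ℕ} (h1 : Q (dec u) = 0) (h2 : polar Q (dec u) (dec w) = 0) (v : ℕ) :
    siegel Q (dec u) (dec w) h1 h2 (dec v) = dec (xn qn u w v) := by
  rw [siegel_apply, xn, h.xor, h.xor, h.xor, h.ite, h.ite, h.ite, h.b, h.b, h.q, cc_and, sub_eq, sub_eq]
  abel

open Classical in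
/-- the Siegel transformation of a pair of vectors -/
noncomputable def sg (Q : QuadraticForm (ZMod 2) V) (u w : V) : E Q :=
  if h : Q u = 0 ∧ polar Q u w = 0 then ⟨siegel Q u w h.1 h.2, siegel_mem_E _ _⟩ else 1

theorem sg_eq {u w : V} (h1 : Q u = 0) (h2 : polar Q u w = 0) : sg Q u w = ⟨siegel Q u w h1 h2, siegel_mem_E _ _⟩ :=
  dif_pos ⟨h1, h2⟩

/-- words in the Siegel transformations -/
noncomputable def word (Q : QuadraticForm (ZMod 2) V) (dec : ℕ → V) : List (ℕ × ℕ) → E Q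
  | [] => 1
  | p :: l => sg Q (dec p.1) (dec p.2) * word Q dec l

example := @word.eq_def

/-- their computed action -/
def ev (qn : ℕ → Bool) : List (ℕ × ℕ) → ℕ → ℕ
  | [], v => v
  | p :: l, v => xn qn p.1 p.2 (ev qn l v)

example := @ev.eq_def

theorem Cod.word_dec (h : Cod Q dec qn) : ∀ {l : List (ℕ × ℕ)}, l.all (ok qn) = true → ∀ v : ℕ,
    ((word Q dec l : E Q) : V ≃ₗ[ZMod 2] V) (dec v) = dec (ev qn l v)
  | [], _, _ => rfl
  | p :: l, hl, v => by
    rw [List.all_cons, Bool.and_eq_true] at hl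
    obtain ⟨h1, h2⟩ := h.ok_iff hl.1
    show ((sg Q (dec p.1) (dec p.2) : E Q) : V ≃ₗ[ZMod 2] V) (((word Q dec l : E Q) : V ≃ₗ[ZMod 2] V) (dec v)) =
      dec (xn qn p.1 p.2 (ev qn l v))
    rw [h.word_dec hl.2, sg_eq h1 h2]
    exact h.sie h1 h2 _

/-- `g` acts on the codes as `f` -/
def Ac (dec : ℕ → V) (g : E Q) (f : ℕ → ℕ) : Prop :=
  ∀ a < 256, f a < 256 ∧ (g : V ≃ₗ[ZMod 2] V) (dec a) = dec (f a)

theorem Ac.one : Ac dec (1 : E Q) id := fun _ ha => ⟨ha, rfl⟩

theorem Ac.mul {g g' : E Q} {f f' : ℕ → ℕ} (h : Ac dec g f) (h' : Ac dec g' f') : Ac dec (g * g') (fun a => f (f' a)) := by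
  intro a ha
  obtain ⟨h1, h2⟩ := h' a ha
  obtain ⟨h3, h4⟩ := h _ h1
  refine ⟨h3, ?_⟩
  show (g : V ≃ₗ[ZMod 2] V) ((g' : V ≃ₗ[ZMod 2] V) (dec a)) = _
  rw [h2, h4]

theorem Ac.wd {x y : E Q} {fx fy : ℕ → ℕ} (hx : Ac dec x fx) (hy : Ac dec y fy) :
    ∀ l : List Bool, Ac dec (wd x y l) (ew fx fy l)
  | [] => Ac.one
  | false :: l => hx.mul (Ac.wd hx hy l)
  | true :: l => hy.mul (Ac.wd hx hy l)

theorem Ac.pow {g : E Q} {f : ℕ → ℕ} (h : Ac dec g f) : ∀ n : ℕ, Ac dec (g ^ n) f^[n]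
  | 0 => by rw [pow_zero]; exact Ac.one
  | n + 1 => by rw [pow_succ, Function.iterate_succ]; exact (Ac.pow h n).mul h

/-- the check of a table -/
def tabChk (qn : ℕ → Bool) (l : List (ℕ × ℕ)) (t : ℕ) : Bool := l.all (ok qn) && al fun a => lk t a == ev qn l a

theorem Cod.tab (h : Cod Q dec qn) {l : List (ℕ × ℕ)} {t : ℕ} (hc : tabChk qn l t = true) :
    Ac dec (word Q dec l) (lk t) := by
  rw [tabChk, Bool.and_eq_true] at hc
  intro a ha
  refine ⟨lk_lt _ _, ?_⟩
  rw [h.word_dec hc.1, beq_iff_eq.1 (al_iff hc.2 ha)]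

theorem Cod.ext (h : Cod Q dec qn) {g g' : E Q} {f f' : ℕ → ℕ} (h1 : Ac dec g f) (h2 : Ac dec g' f')
    (e : al (fun a => f a == f' a) = true) : g = g' := by
  apply Subtype.ext
  apply LinearEquiv.ext
  intro v
  obtain ⟨a, ha, rfl⟩ := h.surj v
  rw [(h1 a ha).2, (h2 a ha).2, beq_iff_eq.1 (al_iff e ha)]

theorem Cod.pow_one (h : Cod Q dec qn) {g : E Q} {f : ℕ → ℕ} (hg : Ac dec g f) {n : ℕ}
    (e : al (fun a => f^[n] a == id a) = true) : g ^ n = 1 :=
  h.ext (hg.pow n) Ac.one e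

/-- a relation -/
theorem Cod.rel (h : Cod Q dec qn) {x y : E Q} {fx fy : ℕ → ℕ} (hx : Ac dec x fx) (hy : Ac dec y fy) {l l' : List Bool}
    (e : al (fun a => ew fx fy l a == ew fx fy l' a) = true) : wd x y l = wd x y l' :=
  h.ext (hx.wd hy l) (hx.wd hy l') e

theorem sg_conj (g : E Q) (u w : V) : g * sg Q u w * g⁻¹ = sg Q ((g : V ≃ₗ[ZMod 2] V) u) ((g : V ≃ₗ[ZMod 2] V) w) := by
  have hg : (g : V ≃ₗ[ZMod 2] V) ∈ O Q := E_le_O g.2
  by_cases h : Q u = 0 ∧ polar Q u w = 0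
  · have h1 : Q ((g : V ≃ₗ[ZMod 2] V) u) = 0 := by rw [mem_O.1 hg, h.1]
    have h2 : polar Q ((g : V ≃ₗ[ZMod 2] V) u) ((g : V ≃ₗ[ZMod 2] V) w) = 0 := by rw [polar_map hg, h.2]
    rw [sg_eq h.1 h.2, sg_eq h1 h2]
    exact Subtype.ext (siegel_conj hg h.1 h.2 h1 h2)
  · have h' : ¬ (Q ((g : V ≃ₗ[ZMod 2] V) u) = 0 ∧ polar Q ((g : V ≃ₗ[ZMod 2] V) u) ((g : V ≃ₗ[ZMod 2] V) w) = 0) := by
      rwa [mem_O.1 hg, polar_map hg]
    rw [sg, sg, dif_neg h, dif_neg h', mul_one, mul_inv_cancel]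

theorem sg_mul {u w w' : V} (hu : Q u = 0) (hw : polar Q u w = 0) (hw' : polar Q u w' = 0) :
    sg Q u w * sg Q u w' = sg Q u (w + w') := by
  have h : polar Q u (w + w') = 0 := by rw [polar_add_right, hw, hw', add_zero]
  rw [sg_eq hu hw, sg_eq hu hw', sg_eq hu h]
  exact Subtype.ext (siegel_mul hu hw hw' h)

theorem sg_zero_right (u : V) : sg Q u 0 = 1 := by
  by_cases h : Q u = 0 ∧ polar Q u 0 = 0
  · rw [sg_eq h.1 h.2]
    refine Subtype.ext (LinearEquiv.ext fun v => ?_)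
    show siegel Q u 0 h.1 h.2 v = v
    rw [siegel_apply]
    simp
  · rw [sg, dif_neg h]

theorem sg_zero_left (w : V) : sg Q 0 w = 1 := by
  by_cases h : Q 0 = 0 ∧ polar Q 0 w = 0
  · rw [sg_eq h.1 h.2]
    refine Subtype.ext (LinearEquiv.ext fun v => ?_)
    show siegel Q 0 w h.1 h.2 v = v
    rw [siegel_apply]
    simp
  · rw [sg, dif_neg h]

theorem sg_self {u : V} (hu : Q u = 0) : sg Q u u = 1 := by
  rw [sg_eq hu (polar_self_of_sing hu)]
  refine Subtype.ext (LinearEquiv.ext fun v => ?_)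
  show siegel Q u u hu (polar_self_of_sing hu) v = v
  rw [siegel_apply, hu, zero_mul, zero_smul, sub_zero, add_sub_cancel_right]

theorem top_of {H : Subgroup (E Q)} {u : V} (hW : ∀ w, sg Q u w ∈ H)
    (hT : ∀ v, Q v = 0 → v ≠ 0 → ∃ g ∈ H, ((g : E Q) : V ≃ₗ[ZMod 2] V) u = v) : H = ⊤ := by
  have key : ∀ v w, sg Q v w ∈ H := by
    intro v w
    by_cases h : Q v = 0 ∧ polar Q v w = 0
    · by_cases hv : v = 0
      · rw [hv, sg_zero_left]; exact H.one_mem
      · obtain ⟨g, hg, rfl⟩ := hT v h.1 hv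
        obtain ⟨w, rfl⟩ := ((g : E Q) : V ≃ₗ[ZMod 2] V).surjective w
        rw [← sg_conj]
        exact H.mul_mem (H.mul_mem hg (hW w)) (H.inv_mem hg)
    · rw [sg, dif_neg h]; exact H.one_mem
  rw [eq_top_iff]
  rintro ⟨g, hg⟩ -
  induction hg using closure_induction with
  | mem x hx =>
    obtain ⟨v, w, h1, h2, rfl⟩ := hx
    have h3 := key v w
    rwa [sg_eq h1 h2] at h3
  | one => exact H.one_mem
  | mul x y hx hy h1 h2 => exact H.mul_mem h1 h2
  | inv x hx h1 => exact H.inv_mem h1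

/-- the certificate: `R` a word for the Siegel transformation of `(u, w)`, `L` words which fix `u`, `T` a table of
words which move `u` to the singular vectors -/
def topChk (qn : ℕ → Bool) (fx fy : ℕ → ℕ) (u w : ℕ) (R : List Bool) (L : List (List Bool)) (T : ℕ) : Bool :=
  decide (u < 256) && decide (w < 256) && ok qn (u, w) && (al fun a => ew fx fy R a == xn qn u w a) &&
    (L.all fun l => ew fx fy l u == u) &&
    (al fun a => bn qn u a || (sums (u :: L.map fun l => ew fx fy l w)).contains a) &&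
    (al fun a => qn a || a == 0 || ew fx fy (bits 40 (lw T a)) u == a)

theorem Cod.top_of_chk (h : Cod Q dec qn) {x y : E Q} {fx fy : ℕ → ℕ} (hx : Ac dec x fx) (hy : Ac dec y fy)
    {u w : ℕ} {R : List Bool} {L : List (List Bool)} {T : ℕ} (hc : topChk qn fx fy u w R L T = true) :
    closure ({x, y} : Set (E Q)) = ⊤ := by
  simp only [topChk, Bool.and_eq_true, decide_eq_true_eq] at hc
  obtain ⟨⟨⟨⟨⟨⟨hu, hw⟩, hok⟩, hR⟩, hL⟩, hS⟩, hT⟩ := hc
  obtain ⟨h1, h2⟩ := h.ok_iff hok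
  set H := closure ({x, y} : Set (E Q)) with hH
  have mem : ∀ l, wd x y l ∈ H := wd_mem (subset_closure (by simp)) (subset_closure (by simp))
  have hr : sg Q (dec u) (dec w) ∈ H := by
    have e : wd x y R = sg Q (dec u) (dec w) := by
      apply Subtype.ext
      apply LinearEquiv.ext
      intro v
      obtain ⟨a, ha, rfl⟩ := h.surj v
      rw [(hx.wd hy R a ha).2, beq_iff_eq.1 (al_iff hR ha), sg_eq h1 h2]
      exact (h.sie h1 h2 a).symm
    rw [← e]; exact mem R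
  refine top_of (u := dec u) (fun v => ?_) (fun v hv h0 => ?_)
  · by_cases hv : Q (dec u) = 0 ∧ polar Q (dec u) v = 0
    · obtain ⟨a, ha, rfl⟩ := h.surj v
      have h3 := al_iff hS ha
      have h4 : bn qn u a = false := cc_zero ((h.b u a).symm.trans hv.2)
      rw [h4, Bool.false_or, List.contains_iff_mem] at h3
      refine (sums_ind (P := fun b => polar Q (dec u) (dec b) = 0 ∧ sg Q (dec u) (dec b) ∈ H) ?_ ?_ _ ?_ a h3).2
      · rw [h.zero, polar_zero_right, sg_zero_right]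
        exact ⟨rfl, H.one_mem⟩
      · intro a b ha hb
        rw [h.xor, polar_add_right, ha.1, hb.1, add_zero, ← sg_mul h1 ha.1 hb.1]
        exact ⟨rfl, H.mul_mem ha.2 hb.2⟩
      · intro b hb
        rcases List.mem_cons.1 hb with rfl | hb
        · rw [sg_self h1]
          exact ⟨polar_self_of_sing h1, H.one_mem⟩
        · obtain ⟨l, hl, rfl⟩ := List.mem_map.1 hb
          have e1 : ((wd x y l : E Q) : V ≃ₗ[ZMod 2] V) (dec u) = dec u := by
            rw [(hx.wd hy l u hu).2, beq_iff_eq.1 (List.all_eq_true.1 hL l hl)]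
          have e2 := (hx.wd hy l w hw).2
          have e3 := sg_conj (wd x y l) (dec u) (dec w)
          rw [e1, e2] at e3
          refine ⟨?_, ?_⟩
          · rw [← e2]
            conv_lhs => rw [← e1]
            rw [polar_map (E_le_O (wd x y l).2), h2]
          · rw [← e3]
            exact H.mul_mem (H.mul_mem (mem l) hr) (H.inv_mem (mem l))
    · rw [sg, dif_neg hv]; exact H.one_mem
  · obtain ⟨a, ha, rfl⟩ := h.surj v
    have h3 := al_iff hT ha
    have h4 : qn a = false := cc_zero ((h.q a).symm.trans hv)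
    have h5 : (a == 0) = false := by
      rw [beq_eq_false_iff_ne]
      rintro rfl
      exact h0 h.zero
    rw [h4, h5, Bool.false_or, Bool.false_or, beq_iff_eq] at h3
    refine ⟨_, mem (bits 40 (lw T a)), ?_⟩
    rw [(hx.wd hy _ u hu).2, h3]

end Cfsg.Agent.N2.Tg.Orth

private theorem dce_007195625a77 : _root_.True := by
  try have : _root_.True := by simp only [_root_.Cfsg.Agent.N2.Tg.Orth.cc.eq_1]
  try have : _root_.True := by simp only [_root_.Cfsg.Agent.N2.Tg.Orth.topChk.eq_1]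
  try have : _root_.True := by simp only [_root_.Cfsg.Agent.N2.Tg.Orth.sg.eq_1]
  try have : _root_.True := by simp only [_root_.Cfsg.Agent.N2.Tg.Orth.bn.eq_1]
  try have : _root_.True := by simp only [_root_.Cfsg.Agent.N2.Tg.Orth.xn.eq_1]
  try have : _root_.True := by simp only [_root_.Cfsg.Agent.N2.Tg.Orth.ok.eq_1]
  try have : _root_.True := by simp only [_root_.Cfsg.Agent.N2.Tg.Orth.tabChk.eq_1]
  exact _root_.True.intro
end

-- part: N2/Cl/Ten/Alg
section
set_option linter.all false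
open scoped Cfsg.Agent.FastGrp

/-!
# N2 classical, tensor decompositions: counting with matrix units (helper54)

* `card_eq_pow` : `|T| = |T ⊓ CE E| ^ (k ^ 2)`; `card_le_col` : cyclic vectors;
* `uu_sh_le` : the unitary elements commuting with the Jordan block `sh E`; `exists_J` : the regular unipotent isometry;
* `exists_tau`, `diag_le` : the semisimple elements.
-/

set_option autoImplicit false
set_option linter.unusedSectionVars false

namespace Cfsg.Agent.N2C.Ten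

open Cfsg.Agent.DS.Cl

section mu

variable {A : Type} [Ring A] {k : ℕ} {E : Fin k → Fin k → A}

/-- the elements commuting with the matrix units -/
def CE (E : Fin k → Fin k → A) : Subring A := Subring.centralizer {x | ∃ i j, x = E i j}

theorem mem_CE {x : A} : x ∈ CE E ↔ ∀ i j, x * E i j = E i j * x :=
  ⟨fun h i j => (h _ ⟨i, j, rfl⟩).symm, by rintro h _ ⟨i, j, rfl⟩; exact (h i j).symm⟩

/-- the elements commuting with `s` -/
def C1 (s : A) : Subring A := Subring.centralizer {s}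

theorem mem_C1 {s x : A} : x ∈ C1 s ↔ x * s = s * x :=
  ⟨fun h => (h s rfl).symm, by rintro h _ rfl; exact h.symm⟩

theorem coef_CE (h : MU0 E) (a : A) (i j : Fin k) : coef E a i j ∈ CE E := mem_CE.2 (h.coef_comm a i j)

theorem coef_sub (a b : A) (i j : Fin k) : coef E (a - b) i j = coef E a i j - coef E b i j := by
  simp only [coef, mul_sub, sub_mul, Finset.sum_sub_distrib]

theorem coef_mul_coef (h : MU0 E) (a b : A) (i j : Fin k) :
    coef E (a * b) i j = ∑ l, coef E a i l * coef E b l j := by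
  have h1 : ∀ l, coef E a i l * coef E b l j = ∑ p, E p i * a * E l l * b * E j p := fun l => by
    rw [show coef E b l j = ∑ p, E p l * b * E j p from rfl, Finset.mul_sum]
    exact Finset.sum_congr rfl fun p _ => by rw [← mul_assoc, ← mul_assoc, h.coef_mul]
  simp only [h1]
  rw [Finset.sum_comm]
  refine Finset.sum_congr rfl fun p _ => ?_
  rw [← Finset.sum_mul, ← Finset.sum_mul, ← Finset.mul_sum, h.sum, mul_one, mul_assoc (E p i) a b]

theorem coef_one (h : MU0 E) (i : Fin k) : coef E 1 i i = 1 := by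
  simp only [coef, mul_one, h.mul_eq, h.sum]

theorem coef_eq (h : MU0 E) {a d : A} (hd : d ∈ CE E) {i j : Fin k} (e : E i i * a * E j j = d * E i j) :
    coef E a i j = d :=
  sub_eq_zero.1 (h.eq_zero (mem_CE.1 (sub_mem (coef_CE h a i j) hd)) (i := i) (j := j)
    (by rw [sub_mul, h.coef_mul, e, sub_self]))

theorem coef_of (h : MU0 E) {d : Fin k → Fin k → A} (hd : ∀ i j, d i j ∈ CE E) (i j : Fin k) :
    coef E (∑ a, ∑ b, d a b * E a b) i j = d i j := by
  refine coef_eq h (hd i j) ?_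
  have h1 : ∀ a b, E i i * (d a b * E a b) * E j j = if i = a then (if b = j then d a b * E i j else 0) else 0 := by
    intro a b
    rw [← mul_assoc, ← mem_CE.1 (hd a b), mul_assoc (d a b), h.mul, mul_assoc]
    split_ifs with h2 h3
    · rw [h3, h.mul_eq]
    · rw [h.mul, if_neg h3, mul_zero]
    · rw [zero_mul, mul_zero]
  simp only [Finset.mul_sum, Finset.sum_mul, h1]
  simp

theorem card_eq_pow (h : MU0 E) {T : Subring A} (hE : ∀ i j, E i j ∈ T) :
    Nat.card T = Nat.card ↥(T ⊓ CE E) ^ (k ^ 2) := by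
  have h1 : Nat.card (Fin k → Fin k → ↥(T ⊓ CE E)) = Nat.card ↥(T ⊓ CE E) ^ (k ^ 2) := by
    rw [Nat.card_fun, Nat.card_fun, Nat.card_fin, ← pow_mul, sq]
  rw [← h1]
  refine Nat.card_eq_of_bijective (fun x i j => ⟨coef E x i j, coef_mem hE x.2 i j, coef_CE h _ i j⟩)
    ⟨fun x y e => Subtype.ext ?_, fun d => ⟨⟨∑ a, ∑ b, (d a b : A) * E a b, T.sum_mem fun a _ => T.sum_mem fun b _ =>
      T.mul_mem (d a b).2.1 (hE a b)⟩, funext₂ fun i j => Subtype.ext (coef_of h (fun a b => (d a b).2.2) i j)⟩⟩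
  rw [h.expand x, h.expand y]
  exact Finset.sum_congr rfl fun i _ => Finset.sum_congr rfl fun j _ => by
    rw [show coef E x i j = coef E y i j from congrArg Subtype.val (congrFun (congrFun e i) j)]

/-- **cyclic vectors** -/
theorem card_le_col [Finite A] (h : MU0 E) {D : Subring A} (hE : ∀ i j, E i j ∈ D) (S : AddSubgroup A) {v : A} {o : Fin k}
    (hv : v * E o o = v) (hS : ∀ x ∈ S, x * v ∈ D) (inj : ∀ x ∈ S, x * v = 0 → x = 0) {m : ℕ} (ι : Fin m → Fin k)
    (hz : ∀ x ∈ S, ∀ i, (∀ a, ι a ≠ i) → E i i * x * v = 0) : Nat.card S ≤ Nat.card ↥(D ⊓ CE E) ^ m := by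
  have h1 : Nat.card (Fin m → ↥(D ⊓ CE E)) = Nat.card ↥(D ⊓ CE E) ^ m := by rw [Nat.card_fun, Nat.card_fin]
  rw [← h1]
  refine Nat.card_le_card_of_injective
    (fun x a => ⟨coef E (x * v) (ι a) o, coef_mem hE (hS x x.2) _ _, coef_CE h _ _ _⟩) fun x y e => ?_
  refine Subtype.ext (sub_eq_zero.1 (inj _ (sub_mem x.2 y.2) ?_))
  rw [← one_mul (_ * v), ← h.sum, Finset.sum_mul]
  refine Finset.sum_eq_zero fun i _ => ?_
  by_cases hi : ∃ a, ι a = i
  · obtain ⟨a, rfl⟩ := hi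
    rw [← hv, ← mul_assoc _ v, ← mul_assoc, ← h.coef_mul, sub_mul, coef_sub,
      show coef E (x * v) (ι a) o = coef E (y * v) (ι a) o from congrArg Subtype.val (congrFun e a), sub_self, zero_mul]
  · rw [← mul_assoc]
    exact hz _ (sub_mem x.2 y.2) i (not_exists.1 hi)

theorem inv_mem_fin [Finite A] {T : Subring A} {u : Aˣ} (hu : (u : A) ∈ T) : ((u⁻¹ : Aˣ) : A) ∈ T := by
  have h1 : u⁻¹ = u ^ (orderOf u - 1) := by
    rw [inv_eq_iff_mul_eq_one, ← pow_succ', Nat.sub_add_cancel (orderOf_pos u), pow_orderOf_eq_one]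
  rw [h1, Units.val_pow_eq_pow_val]
  exact T.pow_mem hu _

theorem exists_pow_one [Nontrivial A] {p : ℕ} (hp : p.Prime) (h0 : (p : A) = 0) {j : A} (hj : IsNilpotent j) :
    ∃ a, (1 + j) ^ p ^ a = 1 := by
  have : Fact p.Prime := ⟨hp⟩
  have : CharP A p := (CharP.charP_iff_prime_eq_zero hp).2 h0
  obtain ⟨a, ha⟩ := hj
  refine ⟨a, ?_⟩
  rw [add_pow_char_pow_of_commute _ _ (Commute.one_left j), one_pow,
    pow_eq_zero_of_le (Nat.lt_pow_self hp.one_lt).le ha, add_zero]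

end mu

section sh

variable {A : Type} [Ring A] {m : ℕ} {E : Fin (m + 1) → Fin (m + 1) → A}

/-- the Jordan block -/
def sh (E : Fin (m + 1) → Fin (m + 1) → A) : A := ∑ i : Fin m, E i.castSucc i.succ

theorem sh_mem {T : Subring A} (hE : ∀ i j, E i j ∈ T) : sh E ∈ T := T.sum_mem fun _ _ => hE _ _

variable (h : MU0 E)
include h

theorem sh_zero (b : Fin (m + 1)) : sh E * E 0 b = 0 := by
  rw [sh, Finset.sum_mul]
  exact Finset.sum_eq_zero fun i _ => by rw [h.mul, if_neg (Fin.succ_ne_zero i)]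

theorem sh_succ (i : Fin m) (b : Fin (m + 1)) : sh E * E i.succ b = E i.castSucc b := by
  rw [sh, Finset.sum_mul, Finset.sum_eq_single i, h.mul_eq]
  · exact fun j _ hj => by rw [h.mul, if_neg fun e => hj (Fin.succ_injective _ e)]
  · exact fun hi => absurd (Finset.mem_univ i) hi

theorem sh_pow (i b : Fin (m + 1)) : sh E ^ (i : ℕ) * E i b = E 0 b := by
  induction i using Fin.induction with
  | zero => simp
  | succ i ih => rw [Fin.val_succ, pow_succ, mul_assoc, sh_succ h, ← ih, Fin.val_castSucc]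

theorem sh_pow_last : sh E ^ m = E 0 (Fin.last m) := by
  rw [← mul_one (sh E ^ m), ← h.sum, Finset.mul_sum, Fin.sum_univ_castSucc, Finset.sum_eq_zero, zero_add]
  · exact sh_pow h (Fin.last m) _
  · intro i _
    obtain ⟨d, hd⟩ := Nat.exists_eq_add_of_lt i.2
    have h1 := sh_pow h i.castSucc i.castSucc
    rw [Fin.val_castSucc] at h1
    rw [show sh E ^ m = sh E ^ d * (sh E * sh E ^ (i : ℕ)) by rw [← pow_succ', ← pow_add]; congr 1; omega, mul_assoc,
      mul_assoc, h1, sh_zero h, mul_zero]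

theorem sh_nil : sh E ^ (m + 1) = 0 := by rw [pow_succ', sh_pow_last h, sh_zero h]

theorem sh_inj {j : A} (hj : j * sh E = sh E * j) (h0 : j * E (Fin.last m) (Fin.last m) = 0) : j = 0 := by
  have h1 : ∀ i b, j * E i b = 0 := fun i b => by
    induction i using Fin.reverseInduction with
    | last => rw [← h.mul_eq _ (Fin.last m), ← mul_assoc, h0, zero_mul]
    | cast i ih => rw [← sh_succ h, ← mul_assoc, hj, mul_assoc, ih, mul_zero]
  rw [← mul_one j, ← h.sum, Finset.mul_sum]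
  exact Finset.sum_eq_zero fun i _ => h1 i i

theorem nil_of {j : A} (hj : j * sh E = sh E * j) (h0 : j * E 0 (Fin.last m) = 0) : IsNilpotent j := by
  have h1 : j * E 0 0 = 0 := by rw [← h.mul_eq 0 (Fin.last m) 0, ← mul_assoc, h0, zero_mul]
  let y' : A := ∑ i : Fin m, E i.succ i.castSucc
  have h2 : y' * sh E = ∑ i : Fin m, E i.succ i.succ := by
    rw [Finset.sum_mul]
    refine Finset.sum_congr rfl fun i _ => ?_
    rw [sh, Finset.mul_sum, Finset.sum_eq_single i, h.mul_eq]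
    · exact fun l _ hl => by rw [h.mul, if_neg fun e => hl (Fin.castSucc_injective _ e).symm]
    · exact fun hi => absurd (Finset.mem_univ i) hi
  have h3 : j = j * y' * sh E := by
    rw [mul_assoc, h2, ← zero_add (j * _), ← h1, ← mul_add, ← Fin.sum_univ_succ fun i => E i i, h.sum, mul_one]
  have h4 : ∀ i, j ^ i = (j * y') ^ i * sh E ^ i := fun i => by
    induction i with
    | zero => simp
    | succ i ih =>
      rw [pow_succ, ih, mul_assoc, ← (Commute.pow_right (show Commute j (sh E) from hj) i).eq, pow_succ (j * y'),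
        pow_succ' (sh E), mul_assoc, ← mul_assoc (j * y'), ← h3]
  exact ⟨m + 1, by rw [h4, sh_nil h, mul_zero]⟩

end sh

variable {A : Type} [Ring A] [StarRing A]

/-- the number of unitary elements of a subring -/
noncomputable def uu (T : Subring A) : ℕ := Nat.card {x : A // x ∈ T ∧ x * star x = 1}

theorem uu_le_card [Finite A] (T : Subring A) : uu T ≤ Nat.card T :=
  Nat.card_le_card_of_injective (fun x => ⟨x.1, x.2.1⟩) fun _ _ e => Subtype.ext (Subtype.mk.inj e)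

theorem uu_mono [Finite A] {T T' : Subring A} (h : T ≤ T') : uu T ≤ uu T' :=
  Nat.card_le_card_of_injective (fun x => ⟨x.1, h x.2.1, x.2.2⟩) fun _ _ e => Subtype.ext (Subtype.mk.inj e)

theorem uu_pos [Finite A] (T : Subring A) : 0 < uu T :=
  have : Nonempty {x : A // x ∈ T ∧ x * star x = 1} := ⟨⟨1, one_mem _, by simp⟩⟩
  Nat.card_pos

/-- linear groups -/
theorem uu_sq_le [Finite A] {ε : A} (hε : Eps ε) {T : Subring A} (h1 : ε ∈ T) (hs : ∀ x ∈ T, star x ∈ T) :
    uu T ^ 2 ≤ Nat.card T := by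
  have key : ∀ {η : A}, Eps η → ∀ x y : A, x * star x = 1 → y * star y = 1 → η * x = η * y → x = y := by
    intro η hη x y hx hy e
    have h2 : η * star x = η * star y := by
      calc η * star x = star y * (η * y) * star x := by
            rw [← mul_assoc, hη.comm, mul_assoc η, mul_eq_one_comm.1 hy, mul_one]
        _ = η * star y := by rw [← e, ← mul_assoc, mul_assoc, hx, mul_one, hη.comm]
    have h3 := congrArg star h2
    rw [star_mul, star_mul, star_star, star_star, hη.st.comm, hη.st.comm] at h3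
    rw [hη.split x, hη.split y, e, h3]
  rw [uu, sq, ← Nat.card_prod]
  refine Nat.card_le_card_of_injective
    (fun x => (⟨ε * x.1 + star ε * x.2, add_mem (mul_mem h1 x.1.2.1) (mul_mem (hs _ h1) x.2.2.1)⟩ : T)) fun x y e => ?_
  have h2 : ε * x.1 + star ε * x.2 = ε * y.1 + star ε * y.2 := Subtype.mk.inj e
  have h3 := congrArg (ε * ·) h2
  have h4 := congrArg (star ε * ·) h2
  simp only [mul_add, ← mul_assoc, hε.idem, hε.ms, hε.sm, hε.st.idem, zero_mul, add_zero, zero_add] at h3 h4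
  exact Prod.ext (Subtype.ext (key hε _ _ x.1.2.2 y.1.2.2 h3)) (Subtype.ext (key hε.st _ _ x.2.2.2 y.2.2.2 h4))

/-- the centre has an element of trace one and an invertible skew element -/
structure LU (c : A) (δ : Aˣ) : Prop where
  cc : c ∈ Subring.center A
  ca : c + star c = 1
  dc : (δ : A) ∈ Subring.center A
  ds : star (δ : A) = -δ

section J

variable {m : ℕ} {E : Fin (m + 1) → Fin (m + 1) → A} {c : A} {δ : Aˣ}

theorem star_sh (hs : ∀ i j, star (E i j) = E j.rev i.rev) : star (sh E) = sh E := by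
  rw [sh, star_sum, ← Equiv.sum_comp Fin.revPerm]
  exact Finset.sum_congr rfl fun i _ => by rw [hs, Fin.rev_succ, Fin.rev_castSucc, Fin.revPerm_apply, Fin.rev_rev]

theorem star_CE {k : ℕ} {E : Fin k → Fin k → A} {σ : Fin k → Fin k} (hs : ∀ i j, star (E i j) = E (σ j) (σ i)) {x : A}
    (hx : x ∈ CE E) : star x ∈ CE E := mem_CE.2 fun i j => by
  rw [← star_star (E i j), ← star_mul, ← star_mul, hs, mem_CE.1 hx]

/-- skew elements of a module over the centre -/
theorem LU.sk_sq_le [Finite A] (l : LU c δ) (N : AddSubgroup A) (hN : ∀ x ∈ N, c * δ * x ∈ N) :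
    Nat.card {x : A // x ∈ N ∧ star x = -x} ^ 2 ≤ Nat.card N := by
  rw [sq, ← Nat.card_prod]
  refine Nat.card_le_card_of_injective
    (fun x => (⟨x.1 + c * δ * x.2, add_mem x.1.2.1 (hN _ x.2.2.1)⟩ : N)) fun x y e => ?_
  have h2 : x.1 + c * δ * x.2 = y.1 + c * δ * y.2 := Subtype.mk.inj e
  have h1 : ∀ b : A, star b = -b → star (c * δ * b) = star c * δ * b := fun b hb => by
    rw [star_mul, star_mul, hb, l.ds, neg_mul, neg_mul, mul_neg, neg_neg, cen_comm (star_cen l.cc) (δ : A),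
      cen_comm (mul_mem (star_cen l.cc) l.dc)]
  have h3 := congrArg star h2
  rw [star_add, star_add, h1 _ x.2.2.2, h1 _ y.2.2.2, x.1.2.2, y.1.2.2] at h3
  have h4 : (c + star c) * δ * x.2 = (c + star c) * δ * y.2 := by
    have h5 := congrArg₂ (· + ·) h2 h3
    simp only [add_add_add_comm _ (c * δ * _), add_neg_cancel, zero_add] at h5
    rw [add_mul, add_mul, add_mul, h5]
  rw [l.ca, one_mul, Units.mul_right_inj] at h4
  rw [h4, add_left_inj] at h2
  exact Prod.ext (Subtype.ext h2) (Subtype.ext h4)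

/-- **the centraliser of the Jordan block** -/
theorem LU.uu_sh_le [Finite A] (l : LU c δ) (h : MU0 E) (hs : ∀ i j, star (E i j) = E j.rev i.rev) {T : Subring A}
    (hE : ∀ i j, E i j ∈ T) (hC : Subring.center A ≤ T) (hT : ∀ x ∈ T, star x ∈ T) {b : ℕ}
    (hb : Nat.card ↥(T ⊓ CE E) ≤ b ^ 2) : uu (T ⊓ C1 (sh E)) ≤ uu (T ⊓ CE E) * b ^ m := by
  set w := E 0 (Fin.last m) with hw
  have hw1 : star w = w := by rw [hw, hs, Fin.rev_last, Fin.rev_zero]
  have hw2 : ∀ x, x * sh E = sh E * x → x * w = w * x := fun x hx => by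
    rw [hw, ← sh_pow_last h]
    exact (Commute.pow_right (show Commute x (sh E) from hx) m).eq
  let N : AddSubgroup A :=
    { carrier := {j | j ∈ T ∧ j * sh E = sh E * j ∧ j * w = 0}
      add_mem' := fun ha hb => ⟨add_mem ha.1 hb.1, by rw [add_mul, mul_add, ha.2.1, hb.2.1],
        by rw [add_mul, ha.2.2, hb.2.2, add_zero]⟩
      zero_mem' := ⟨zero_mem _, by simp, zero_mul _⟩
      neg_mem' := fun ha => ⟨neg_mem ha.1, by rw [neg_mul, mul_neg, ha.2.1], by rw [neg_mul, ha.2.2, neg_zero]⟩ }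
  have hN : ∀ z ∈ Subring.center A, ∀ x ∈ N, z * x ∈ N := fun z hz x hx =>
    ⟨mul_mem (hC hz) hx.1, by rw [mul_assoc, hx.2.1, ← mul_assoc, ← cen_comm hz, mul_assoc],
      by rw [mul_assoc, hx.2.2, mul_zero]⟩
  have h1 : Nat.card N ≤ Nat.card ↥(T ⊓ CE E) ^ m :=
    card_le_col h hE N (h.mul_eq (Fin.last m) (Fin.last m) (Fin.last m)) (fun x hx => mul_mem hx.1 (hE _ _))
      (fun x hx => sh_inj h hx.2.1) Fin.castSucc fun x hx i hi => by
        obtain rfl : i = Fin.last m := by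
          by_contra hl
          exact hi (i.castPred hl) (Fin.castSucc_castPred i hl)
        rw [← h.mul_eq _ 0, mul_assoc _ _ x, ← hw, ← hw2 x hx.2.1, hx.2.2, mul_zero, zero_mul]
  have h2 : Nat.card {x : A // x ∈ N ∧ star x = -x} ≤ b ^ m := by
    refine (Nat.pow_le_pow_iff_left two_ne_zero).1 ((l.sk_sq_le N (hN _ (mul_mem l.cc l.dc))).trans (h1.trans ?_))
    rw [← pow_mul, mul_comm, pow_mul]
    exact Nat.pow_le_pow_left hb m
  refine le_trans ?_ (Nat.mul_le_mul_left _ h2)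
  have key : ∀ x : {x : A // x ∈ T ⊓ C1 (sh E) ∧ x * star x = 1}, ∃ (d : {x : A // x ∈ T ⊓ CE E ∧ x * star x = 1})
      (Y : {x : A // x ∈ N ∧ star x = -x}), Y.1 * (1 + c * (star d.1 * x - 1)) = star d.1 * x - 1 := by
    rintro ⟨x, ⟨hx, hx'⟩, hu⟩
    replace hx' := mem_C1.1 hx'
    set d := coef E x 0 0
    have hd : d ∈ CE E := coef_CE h x 0 0
    have hd' := star_CE hs hd
    have h3 : x * w = d * w := by rw [hw, h.coef_mul, mul_assoc, hw2 x hx', ← mul_assoc, hw, h.mul_eq]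
    have h4 : star x * w = star d * w := by
      rw [← hw1, ← star_mul, ← hw2 x hx', h3, star_mul, hw1, mem_CE.1 hd']
    have h5 : d * star d = 1 := sub_eq_zero.1 (h.eq_zero (mem_CE.1 (sub_mem (mul_mem hd hd') (one_mem _)))
      (i := 0) (j := Fin.last m) (by
        rw [sub_mul, one_mul, mul_assoc, mem_CE.1 hd', ← mul_assoc, ← hw, ← h3, mul_assoc, ← mem_CE.1 hd', ← hw, ← h4,
          ← mul_assoc, hu, one_mul, sub_self]))
    have hdT : d ∈ T := coef_mem hE hx 0 0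
    have h6 : star d * sh E = sh E * star d := by
      rw [sh, Finset.mul_sum, Finset.sum_mul]
      exact Finset.sum_congr rfl fun i _ => mem_CE.1 hd' _ _
    have h7 : star d * x - 1 ∈ N := ⟨sub_mem (mul_mem (hT _ hdT) hx) (one_mem _),
      by rw [sub_mul, mul_sub, mul_assoc, hx', ← mul_assoc, h6, mul_assoc, one_mul, mul_one],
      by rw [sub_mul, mul_assoc, h3, ← mul_assoc, mul_eq_one_comm.1 h5, sub_self]⟩
    have h8 : star (star d * x - 1) * (star d * x - 1) = -(star d * x - 1) - star (star d * x - 1) := by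
      rw [star_sub, star_mul, star_star, star_one, sub_mul, mul_sub, mul_assoc, ← mul_assoc d, h5, one_mul,
        mul_eq_one_comm.1 hu, mul_one, one_mul]
      abel
    refine ⟨⟨d, ⟨hdT, hd⟩, h5⟩, ?_⟩
    change ∃ Y : {x : A // x ∈ N ∧ star x = -x}, Y.1 * (1 + c * (star d * x - 1)) = star d * x - 1
    generalize star d * x - 1 = j at h7 h8
    have h9 := hN c l.cc j h7
    obtain ⟨u, hu⟩ := (nil_of h h9.2.1 h9.2.2).isUnit_one_add
    have h10 : (u : A) * sh E = sh E * u := by rw [hu, add_mul, mul_add, h9.2.1, one_mul, mul_one]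
    have h11 : (u : A) * w = w := by rw [hu, add_mul, h9.2.2, one_mul, add_zero]
    refine ⟨⟨j * (u⁻¹ : Aˣ), ⟨mul_mem h7.1 (inv_mem_fin (hu ▸ add_mem (one_mem _) h9.1)), ?_, ?_⟩, ?_⟩,
      show j * (u⁻¹ : Aˣ) * (1 + c * j) = j by rw [← hu, Units.inv_mul_cancel_right]⟩
    · rw [mul_assoc, ← (Commute.units_inv_left (show Commute (u : A) (sh E) from h10)).eq.symm, ← mul_assoc, h7.2.1,
        mul_assoc]
    · rw [mul_assoc, ← h11, Units.inv_mul_cancel_left, h7.2.2]
    · rw [star_mul, ← Units.mul_left_inj u, neg_mul, Units.inv_mul_cancel_right, ← Units.coe_star_inv, mul_assoc,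
        Units.inv_mul_eq_iff_eq_mul, Units.coe_star, hu, star_add, star_one, star_mul, mul_add, mul_one, mul_neg, add_mul,
        one_mul, ← mul_assoc, cen_comm l.cc, cen_comm (star_cen l.cc), mul_assoc, mul_assoc, eq_neg_iff_add_eq_zero,
        add_add_add_comm, ← add_mul, l.ca, one_mul, h8]
      abel
  choose d Y hY using key
  rw [uu, uu, ← Nat.card_prod]
  refine Nat.card_le_card_of_injective (fun x => (d x, Y x)) fun x y e => Subtype.ext ?_
  have h3 := hY x
  have h4 := hY y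
  rw [← (Prod.mk.inj e).1, ← (Prod.mk.inj e).2] at h4
  have h5 : ∀ j, (Y x).1 * (1 + c * j) = j → (1 - c * (Y x).1) * j = Y x ∧ (1 - c * (Y x).1) * (1 + c * j) = 1 :=
    fun j hj => ⟨by
      rw [mul_add, mul_one, ← mul_assoc, cen_comm l.cc] at hj
      rw [sub_mul, one_mul, sub_eq_iff_eq_add, hj], by rw [sub_mul, one_mul, mul_assoc, hj, add_sub_cancel_right]⟩
  have h6 := (IsUnit.of_mul_eq_one _ (h5 _ h3).2).mul_left_cancel ((h5 _ h3).1.trans (h5 _ h4).1.symm)
  exact (IsUnit.of_mul_eq_one _ (mul_eq_one_comm.1 (d x).2.2)).mul_left_cancel (sub_left_injective h6)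

/-- **Cayley transform** of a symmetric nilpotent element -/
theorem LU.exists_J [Finite A] (l : LU c δ) {y : A} (hy : star y = y) (hn : IsNilpotent y) {B : Subring A}
    (hC : Subring.center A ≤ B) (hB : y ∈ B) : ∃ J : Aˣ, (J : A) ∈ B ∧ (J : A) * star (J : A) = 1 ∧
      IsNilpotent ((J : A) - 1) ∧ ∀ x : A, x * J = J * x → x * y = y * x := by
  have h1 : IsNilpotent (δ * y) := (show Commute (δ : A) y from (cen_comm l.dc y).symm).isNilpotent_mul_left hn
  have h2 : star (δ * y) = -(δ * y) := by rw [star_mul, hy, l.ds, mul_neg, cen_comm l.dc]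
  have h3 : δ * y ∈ B := mul_mem (hC l.dc) hB
  suffices h : ∃ J : Aˣ, (J : A) ∈ B ∧ (J : A) * star (J : A) = 1 ∧ IsNilpotent ((J : A) - 1) ∧
      ∀ x : A, x * J = J * x → x * (δ * y) = δ * y * x by
    obtain ⟨J, a1, a2, a3, a4⟩ := h
    refine ⟨J, a1, a2, a3, fun x hx => ?_⟩
    have h4 := a4 x hx
    rwa [← mul_assoc, cen_comm l.dc, mul_assoc, mul_assoc, Units.mul_right_inj] at h4
  generalize δ * y = Y at h1 h2 h3
  obtain ⟨u, hu⟩ := ((show Commute c Y from (cen_comm l.cc Y).symm).isNilpotent_mul_left h1).isUnit_one_sub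
  have h4 : star (u : A) = u + Y := by
    rw [hu, star_sub, star_one, star_mul, h2, neg_mul, cen_comm (star_cen l.cc), eq_sub_of_add_eq' l.ca, sub_mul, one_mul]
    abel
  have h5 : Commute (u : A) Y := by
    rw [hu]
    exact (Commute.one_left Y).sub_left ((show Commute c Y from (cen_comm l.cc Y).symm).mul_left (Commute.refl Y))
  have h6 : ((star u * u⁻¹ : Aˣ) : A) - 1 = Y * (u⁻¹ : Aˣ) := by
    rw [Units.val_mul, Units.coe_star, h4, add_mul, Units.mul_inv, add_sub_cancel_left]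
  have h7 : Commute u (star u) := Units.ext (by
    rw [Units.val_mul, Units.val_mul, Units.coe_star, h4]
    exact (Commute.refl _).add_right h5)
  have huB : (u : A) ∈ B := hu ▸ sub_mem (one_mem _) (mul_mem (hC l.cc) h3)
  refine ⟨star u * u⁻¹, mul_mem (show star (u : A) ∈ B from h4 ▸ add_mem huB h3) (inv_mem_fin huB), ?_,
    h6 ▸ h5.units_inv_left.symm.isNilpotent_mul_right h1, fun x hx => ?_⟩
  · rw [← Units.coe_star, ← Units.val_mul, star_mul, star_star, star_inv, mul_assoc, ← mul_assoc u⁻¹,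
      h7.inv_inv.eq, mul_assoc, inv_mul_cancel, mul_one, mul_inv_cancel, Units.val_one]
  · have h8 : Commute x (Y * ((u⁻¹ : Aˣ) : A)) := h6 ▸ (show Commute x _ from hx).sub_right (Commute.one_right x)
    have h9 : ((u⁻¹ : Aˣ) : A) = 1 + c * (Y * (u⁻¹ : Aˣ)) := by
      rw [← mul_assoc, ← Units.mul_inv u, ← add_mul, hu, sub_add_cancel, one_mul]
    have h10 : Commute x (u : A) := by
      have h11 : Commute x ((u⁻¹ : Aˣ) : A) := by
        rw [h9]
        exact (Commute.one_right x).add_right ((show Commute x c from cen_comm l.cc x).mul_right h8)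
      simpa using h11.units_inv_right
    have h11 := h8.mul_right h10
    rwa [Units.inv_mul_cancel_right] at h11

end J

end Cfsg.Agent.N2C.Ten

private theorem dce_abf73ac71aa1 : _root_.True := by
  try have : _root_.True := by simp only [_root_.Cfsg.Agent.DS.Cl.coef.eq_1]
  try have : _root_.True := by simp only [_root_.Cfsg.Agent.N2C.Ten.uu.eq_1]
  try have : _root_.True := by simp only [_root_.Cfsg.Agent.N2C.Ten.sh.eq_1]
  exact _root_.True.intro
end

-- part: N2/Cl/Ten/Sem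
section
set_option linter.all false
open scoped Cfsg.Agent.FastGrp

/-!
# N2 classical, tensor decompositions: semisimple elements of small factors (helper54)

`LU.exists_tau` : a regular element of order 3 or 4 in dimension 2, 3; `exists_diag` : `diag (lam, lam⁻¹)`.
-/

set_option autoImplicit false
set_option linter.unusedSectionVars false

namespace Cfsg.Agent.N2C.Ten

open Cfsg.Agent.DS.Cl
open scoped commutatorElement

variable {A : Type} [Ring A] [StarRing A] [Finite A]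

omit [StarRing A] in
theorem isUnit_cast {p r : ℕ} (h0 : (p : A) = 0) (hc : r.Coprime p) : IsUnit (r : A) := by
  obtain ⟨a, b, hab⟩ := Nat.isCoprime_iff_coprime.2 hc
  have h1 := congrArg (Int.cast : ℤ → A) hab
  push_cast at h1
  rw [h0, mul_zero, add_zero] at h1
  exact IsUnit.of_mul_eq_one _ (mul_eq_one_comm.1 h1)

theorem skew_uni {a : A} (h1 : star a = -a) (h2 : a * a = 0) : (1 + a) * star (1 + a) = 1 := by
  rw [star_add, star_one, h1, mul_add, mul_one, mul_neg, add_mul, one_mul, h2, add_zero, add_neg_cancel_right]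

/-- a product of two transvections -/
theorem LU.exists_tau {m : ℕ} {E : Fin (m + 1) → Fin (m + 1) → A} {c : A} {δ : Aˣ} (l : LU c δ) (h : MU0 E)
    (hs : ∀ i j, star (E i j) = E j.rev i.rev) (hm : 1 ≤ m) (hm' : m ≤ 2) {p : ℕ} (hp : p.Prime) (h0 : (p : A) = 0)
    {G : Subgroup Aˣ} (hG : ∀ u : Aˣ, (u : A) * star (u : A) = 1 → IsNilpotent ((u : A) - 1) → u ∈ G) {B : Subring A}
    (hC : Subring.center A ≤ B) (hE : ∀ i j, E i j ∈ B) : ∃ s ∈ G, (s : A) ∈ B ∧ (∃ r, p.Coprime r ∧ s ^ r = 1) ∧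
      ∀ D : Subring A, (∀ i j, E i j ∈ D) → Nat.card ↥(D ⊓ C1 (s : A)) ≤ Nat.card ↥(D ⊓ CE E) ^ (m + 1) := by
  obtain ⟨ρ, hρ, hρ'⟩ : ∃ ρ : ℕ, ρ.Coprime p ∧ (ρ = 3 ∧ p.Coprime 3 ∨ ρ = 2 ∧ p.Coprime 4) := by
    by_cases h2 : p = 2
    · exact ⟨3, by rw [h2]; norm_num, Or.inl ⟨rfl, by rw [h2]; norm_num⟩⟩
    · have h3 := (Nat.coprime_primes hp Nat.prime_two).2 h2
      exact ⟨2, h3.symm, Or.inr ⟨rfl, h3.pow_right 2⟩⟩
  obtain ⟨τ, hτ⟩ := (isUnit_cast h0 hρ).neg
  have hτc : (τ : A) ∈ Subring.center A := hτ ▸ neg_mem (natCast_mem _ ρ)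
  have hτs : star (τ : A) = τ := by rw [hτ, star_neg, star_natCast]
  set i := Fin.last m with hi
  have hne : (0 : Fin (m + 1)) ≠ i := fun e => by have := congrArg Fin.val e; simp [hi] at this; omega
  have e1 : star (E 0 i) = E 0 i := by rw [hs, hi, Fin.rev_last, Fin.rev_zero]
  have e2 : star (E i 0) = E i 0 := by rw [hs, hi, Fin.rev_last, Fin.rev_zero]
  have hκc : ((τ * δ⁻¹ : Aˣ) : A) ∈ Subring.center A := mul_mem hτc (inv_cen l.dc)
  have hκs : star ((τ * δ⁻¹ : Aˣ) : A) = -(τ * δ⁻¹ : Aˣ) := by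
    rw [Units.val_mul, star_mul, hτs, cen_comm hτc, ← mul_neg, Units.mul_right_inj, ← Units.coe_star_inv,
      ← Units.val_neg, Units.val_inj, inv_eq_iff_eq_inv, inv_neg, inv_inv]
    exact Units.ext l.ds
  have hκ : (δ : A) * (τ * δ⁻¹ : Aˣ) = τ := by rw [Units.val_mul, ← mul_assoc, cen_comm hτc, Units.mul_inv_cancel_right]
  generalize τ * δ⁻¹ = κ at hκc hκs hκ
  have mm : ∀ {x y : A}, y ∈ Subring.center A → ∀ a b, x * a * (y * b) = x * y * (a * b) := fun hy a b => by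
    rw [mul_assoc, ← mul_assoc a, cen_comm hy a, mul_assoc, mul_assoc]
  obtain ⟨a, ha⟩ : ∃ a, a = δ * E 0 i := ⟨_, rfl⟩
  obtain ⟨b, hb⟩ : ∃ b, b = κ * E i 0 := ⟨_, rfl⟩
  have a1 : star a = -a := by rw [ha, star_mul, e1, l.ds, mul_neg, cen_comm l.dc]
  have b1 : star b = -b := by rw [hb, star_mul, e2, hκs, mul_neg, cen_comm hκc]
  have a2 : a * a = 0 := by rw [ha, mm l.dc, h.mul, if_neg hne.symm, mul_zero]
  have b2 : b * b = 0 := by rw [hb, mm hκc, h.mul, if_neg hne, mul_zero]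
  have ab : a * b = τ * E 0 0 := by rw [ha, hb, mm hκc, h.mul_eq, hκ]
  have ba : b * a = τ * E i i := by rw [ha, hb, mm l.dc, h.mul_eq, cen_comm l.dc, hκ]
  have a3 : E 0 0 * a = a := by rw [ha, ← mul_assoc, cen_comm l.dc, mul_assoc, h.mul_eq]
  have a4 : a * E 0 0 = 0 := by rw [ha, mul_assoc, h.mul, if_neg hne.symm, mul_zero]
  have a5 : a * E i i = a := by rw [ha, mul_assoc, h.mul_eq]
  have b3 : E 0 0 * b = 0 := by rw [hb, ← mul_assoc, cen_comm hκc, mul_assoc, h.mul, if_neg hne, mul_zero]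
  have b4 : b * E 0 0 = b := by rw [hb, mul_assoc, h.mul_eq]
  have b5 : b * E i i = 0 := by rw [hb, mul_assoc, h.mul, if_neg hne, mul_zero]
  have haB : a ∈ B := ha ▸ mul_mem (hC l.dc) (hE _ _)
  have hbB : b ∈ B := hb ▸ mul_mem (hC hκc) (hE _ _)
  let s := mkU _ (skew_uni a1 a2) * mkU _ (skew_uni b1 b2)
  obtain ⟨n, hn⟩ : ∃ n, n = a + b + τ * E 0 0 := ⟨_, rfl⟩
  have hsv : (s : A) = 1 + n := by
    change (1 + a) * (1 + b) = _
    rw [add_mul, mul_add, mul_add, ab, hn]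
    noncomm_ring
  have n1 : n * E 0 0 = b + τ * E 0 0 := by rw [hn, add_mul, add_mul, a4, b4, zero_add, mul_assoc, h.mul_eq]
  have n2 : n * E i i = a := by rw [hn, add_mul, add_mul, a5, b5, mul_assoc, h.mul, if_neg hne, mul_zero, add_zero, add_zero]
  have n3 : n * n = τ * (E 0 0 + E i i) + τ * n := by
    conv_lhs => rhs; rw [hn]
    rw [mul_add, mul_add, ← mul_assoc, cen_comm hτc n, mul_assoc, n1, hn, add_mul, add_mul, add_mul, add_mul, a2, b2, ab,
      ba, mul_assoc, a3, mul_assoc, b3]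
    noncomm_ring
  have n4 : n * (n * n) = τ * n + τ * (n * n) := by
    rw [n3, mul_add, ← mul_assoc, ← mul_assoc, cen_comm hτc n, mul_assoc, mul_assoc, ← n3, mul_add n, n1, n2, add_comm _ a,
      ← add_assoc, ← hn]
  refine ⟨s, mul_mem (hG _ (skew_uni a1 a2) ⟨2, by rw [mkU_val, add_sub_cancel_left, sq, a2]⟩)
    (hG _ (skew_uni b1 b2) ⟨2, by rw [mkU_val, add_sub_cancel_left, sq, b2]⟩),
    mul_mem (add_mem (one_mem _) haB) (add_mem (one_mem _) hbB), ?_, fun D hD => ?_⟩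
  · rw [hτ] at n4
    rcases hρ' with ⟨rfl, h3⟩ | ⟨rfl, h3⟩ <;> refine ⟨_, h3, Units.ext ?_⟩ <;>
      rw [Units.val_pow_eq_pow_val, hsv, Units.val_one]
    · rw [show (1 + n) ^ 3 = 1 + 3 * n + 3 * (n * n) + n * (n * n) by noncomm_ring, n4]
      push_cast
      noncomm_ring
    · rw [show (1 + n) ^ 4 = 1 + (n + 2) * (2 * n + 2 * (n * n) + n * (n * n)) by noncomm_ring, n4]
      push_cast
      noncomm_ring
  obtain ⟨g, g1, g2, g3, g4⟩ : ∃ g ∈ D, g * E 0 0 = g ∧ (E 0 0 + E i i) * g = 0 ∧ ∀ j, j ≠ 0 → j ≠ i → E j 0 = g := by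
    by_cases hj : ∃ j, j ≠ 0 ∧ j ≠ i
    · obtain ⟨j, j1, j2⟩ := hj
      refine ⟨E j 0, hD _ _, h.mul_eq _ _ _, by rw [add_mul, h.mul, h.mul, if_neg j1.symm, if_neg j2.symm, add_zero],
        fun j' j3 j4 => ?_⟩
      rw [show j' = j from Fin.ext (by
        have := j.2
        have := j'.2
        simp only [hi, ne_eq, Fin.ext_iff, Fin.val_zero, Fin.val_last] at j1 j2 j3 j4
        omega)]
    · exact ⟨0, zero_mem _, zero_mul _, mul_zero _, fun j j1 j2 => absurd ⟨j, j1, j2⟩ hj⟩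
  refine card_le_col h hD (D ⊓ C1 (s : A)).toAddSubgroup (v := E 0 0 + g) (o := 0) (by rw [add_mul, g2, h.mul_eq])
    (fun x hx => mul_mem hx.1 (add_mem (hD _ _) g1)) (fun x hx hv => ?_) id fun _ _ j hj => absurd rfl (hj j)
  have x1 : x * n = n * x := by
    have h1 := mem_C1.1 hx.2
    rwa [hsv, mul_add, add_mul, mul_one, one_mul, add_right_inj] at h1
  have x2 : x * (E 0 0 + E i i) = (E 0 0 + E i i) * x := by
    have h1 : x * (n * n) = n * n * x := by rw [← mul_assoc, x1, mul_assoc, x1, mul_assoc]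
    rwa [n3, mul_add x, add_mul, ← mul_assoc, ← mul_assoc, cen_comm hτc x, mul_assoc, mul_assoc, mul_assoc, mul_assoc, x1,
      add_left_inj, Units.mul_right_inj] at h1
  have x3 : x * E 0 0 = 0 := by
    have h1 : x * ((E 0 0 + E i i) * (E 0 0 + g)) = 0 := by rw [← mul_assoc, x2, mul_assoc, hv, mul_zero]
    rwa [mul_add _ _ g, g3, add_zero, add_mul, h.mul_eq, h.mul, if_neg hne.symm, add_zero] at h1
  have x4 : x * E i 0 = 0 := by
    have h1 : x * (n * E 0 0) = 0 := by rw [← mul_assoc, x1, mul_assoc, x3, mul_zero]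
    rwa [n1, mul_add, ← mul_assoc, cen_comm hτc, mul_assoc, x3, mul_zero, add_zero, hb, ← mul_assoc, cen_comm hκc,
      mul_assoc, Units.mul_right_eq_zero] at h1
  rw [mul_add, x3, zero_add] at hv
  rw [← mul_one x, ← h.sum, Finset.mul_sum]
  refine Finset.sum_eq_zero fun j _ => ?_
  rw [← h.mul_eq j 0 j, ← mul_assoc]
  by_cases j1 : j = 0
  · rw [j1, x3, zero_mul]
  by_cases j2 : j = i
  · rw [j2, x4, zero_mul]
  · rw [g4 j j1 j2, hv, zero_mul]

section diag

variable {E : Fin 2 → Fin 2 → A}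

/-- diagonal matrices -/
def dg (E : Fin 2 → Fin 2 → A) (a b : A) : A := a * E 0 0 + b * E 1 1

variable (h : MU0 E)
include h

omit [StarRing A] [Finite A] in
theorem dg_same (a : A) : dg E a a = a := by rw [dg, ← mul_add, ← Fin.sum_univ_two fun i => E i i, h.sum, mul_one]

omit [StarRing A] [Finite A] in
theorem dg_zero (a b : A) (j : Fin 2) : dg E a b * E 0 j = a * E 0 j := by
  rw [dg, add_mul, mul_assoc, mul_assoc, h.mul_eq, h.mul, if_neg (by decide), mul_zero, add_zero]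

omit [StarRing A] [Finite A] in
theorem dg_one (a b : A) (j : Fin 2) : dg E a b * E 1 j = b * E 1 j := by
  rw [dg, add_mul, mul_assoc, mul_assoc, h.mul_eq, h.mul, if_neg (by decide), mul_zero, zero_add]

omit [StarRing A] [Finite A] in
theorem dg_mul (a b : A) {a' b' : A} (ha : a' ∈ CE E) (hb : b' ∈ CE E) :
    dg E a b * dg E a' b' = dg E (a * a') (b * b') := by
  conv_lhs => rhs; rw [dg]
  rw [mul_add, mem_CE.1 ha, mem_CE.1 hb, ← mul_assoc, ← mul_assoc, dg_zero h, dg_one h, mul_assoc, mul_assoc,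
    ← mem_CE.1 ha, ← mem_CE.1 hb, dg, mul_assoc, mul_assoc]

omit h [Finite A] in
theorem star_dg (hs : ∀ i j, star (E i j) = E j i) {a b : A} (ha : a ∈ CE E) (hb : b ∈ CE E) :
    star (dg E a b) = dg E (star a) (star b) := by
  rw [dg, star_add, star_mul, star_mul, hs, hs, dg, mem_CE.1 (star_CE (σ := id) hs ha), mem_CE.1 (star_CE (σ := id) hs hb)]

/-- the element `diag (lam, lam⁻¹)` -/
theorem exists_diag (hs : ∀ i j, star (E i j) = E j i) {lam : A} (hc : lam ∈ Subring.center A) (hu : lam * star lam = 1)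
    (hd : IsUnit (lam - star lam)) {G : Subgroup Aˣ} (hG : ∀ u : Aˣ, (u : A) * star (u : A) = 1 → u ∈ G) {B : Subring A}
    (hC : Subring.center A ≤ B) (hE : ∀ i j, E i j ∈ B) : ∃ s ∈ ⁅G, G⁆, (s : A) ∈ B ∧ (∀ r, lam ^ r = 1 → s ^ r = 1) ∧
      (∀ D : Subring A, (∀ i j, E i j ∈ D) →
        Nat.card ↥(D ⊓ C1 (s : A)) ≤ Nat.card ↥(D ⊓ CE E) ^ 2 ∧ uu (D ⊓ C1 (s : A)) ≤ uu (D ⊓ CE E) ^ 2) ∧
      ∀ z v : Aˣ, (z : A) ∈ Subring.center A → IsUnit ((z : A) - 1) → v * s = z * s * v → z ^ 2 = 1 := by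
  have cE : ∀ {x : A}, x ∈ Subring.center A → x ∈ CE E := fun hx => mem_CE.2 fun i j => (cen_comm hx _).symm
  have hc' := star_cen hc
  have hu' := mul_eq_one_comm.1 hu
  have t1 : dg E lam 1 * star (dg E lam 1) = 1 := by
    rw [star_dg hs (cE hc) (one_mem _), star_one, dg_mul h _ _ (cE hc') (one_mem _), hu, one_mul, dg_same h]
  have w0 : star (E 0 1 + E 1 0) = E 0 1 + E 1 0 := by rw [star_add, hs, hs, add_comm]
  have w1 : ∀ a b, a ∈ Subring.center A → b ∈ Subring.center A →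
      (E 0 1 + E 1 0) * dg E a b * (E 0 1 + E 1 0) = dg E b a := fun a b ha hb => by
    rw [mul_assoc, mul_add (dg E a b), dg_zero h, dg_one h, mul_add, ← mul_assoc, ← mul_assoc, cen_comm ha, cen_comm hb,
      mul_assoc, mul_assoc, add_mul, add_mul, h.mul_eq, h.mul_eq, h.mul, h.mul, if_neg (by decide), if_neg (by decide),
      zero_add, add_zero, dg, add_comm]
  have w2 : (E 0 1 + E 1 0) * star (E 0 1 + E 1 0) = 1 := by
    have h1 := w1 1 1 (one_mem _) (one_mem _)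
    rw [dg_same h, mul_one] at h1
    rw [w0, h1]
  have hsv : ((⁅mkU _ t1, mkU _ w2⁆ : Aˣ) : A) = dg E lam (star lam) := by
    change dg E lam 1 * (E 0 1 + E 1 0) * star (dg E lam 1) * star (E 0 1 + E 1 0) = _
    rw [w0, star_dg hs (cE hc) (one_mem _), star_one, mul_assoc, mul_assoc, ← mul_assoc (E 0 1 + E 1 0),
      w1 _ _ hc' (one_mem _), dg_mul h _ _ (one_mem _) (cE hc'), mul_one, one_mul]
  refine ⟨_, Subgroup.commutator_mem_commutator (hG (mkU _ t1) t1) (hG (mkU _ w2) w2), ?_, fun r hr => Units.ext ?_, fun D hD => ?_,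
    fun z v hz hz' e => ?_⟩
  · exact hsv ▸ add_mem (mul_mem (hC hc) (hE _ _)) (mul_mem (hC hc') (hE _ _))
  · have h1 : ∀ j, dg E lam (star lam) ^ j = dg E (lam ^ j) (star lam ^ j) := fun j => by
      induction j with
      | zero => rw [pow_zero, pow_zero, pow_zero, dg_same h]
      | succ j ih => rw [pow_succ, ih, dg_mul h _ _ (cE hc) (cE hc'), pow_succ, pow_succ]
    rw [Units.val_pow_eq_pow_val, hsv, h1, ← star_pow, hr, star_one, dg_same h, Units.val_one]
  · rw [hsv]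
    have hsy : star (dg E lam (star lam)) = dg E (star lam) lam := by rw [star_dg hs (cE hc) (cE hc'), star_star]
    have l0 : E 0 0 * dg E lam (star lam) = lam * E 0 0 := by
      rw [← star_star (E 0 0 * _), star_mul, hsy, hs, dg_zero h, star_mul, star_star, hs, cen_comm hc]
    have l1 : E 1 1 * dg E lam (star lam) = star lam * E 1 1 := by
      rw [← star_star (E 1 1 * _), star_mul, hsy, hs, dg_one h, star_mul, hs, cen_comm hc']
    have key : ∀ x ∈ C1 (dg E lam (star lam)), x = dg E (coef E x 0 0) (coef E x 1 1) := fun x hx => by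
      have h1 := mem_C1.1 hx
      have h2 : E 0 0 * x * E 1 1 = 0 := hd.mul_right_eq_zero.1 (by
        rw [sub_mul, ← mul_assoc, ← mul_assoc, ← l0, mul_assoc _ _ x, ← h1, ← cen_comm hc', mul_assoc, mul_assoc,
          dg_one h, mul_assoc, mul_assoc, cen_comm hc', sub_self])
      have h3 : E 1 1 * x * E 0 0 = 0 := hd.mul_right_eq_zero.1 (by
        rw [sub_mul, ← mul_assoc (star lam), ← mul_assoc (star lam), ← l1, mul_assoc _ _ x, ← h1, ← cen_comm hc, mul_assoc,
          mul_assoc, mul_assoc, mul_assoc, dg_zero h, cen_comm hc, sub_self])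
      conv_lhs => rw [h.expand x]
      rw [Fin.sum_univ_two, Fin.sum_univ_two, Fin.sum_univ_two, h.coef_mul x 0 1, h.coef_mul x 1 0, h2, h3, add_zero,
        zero_add, dg]
    constructor
    · rw [sq, ← Nat.card_prod]
      exact Nat.card_le_card_of_injective (fun x => (⟨coef E x 0 0, coef_mem hD x.2.1 _ _, coef_CE h _ _ _⟩,
        ⟨coef E x 1 1, coef_mem hD x.2.1 _ _, coef_CE h _ _ _⟩)) fun x y e => Subtype.ext (by
          rw [key x x.2.2, key y y.2.2, Subtype.mk.inj (Prod.mk.inj e).1, Subtype.mk.inj (Prod.mk.inj e).2])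
    · have k2 : ∀ x ∈ C1 (dg E lam (star lam)), x * star x = 1 →
          coef E x 0 0 * star (coef E x 0 0) = 1 ∧ coef E x 1 1 * star (coef E x 1 1) = 1 := fun x hx h1 => by
        have a0 := coef_CE h x 0 0
        have a1 := coef_CE h x 1 1
        have b0 := star_CE (σ := id) hs a0
        have b1 := star_CE (σ := id) hs a1
        rw [key x hx, star_dg hs a0 a1, dg_mul h _ _ b0 b1] at h1
        exact ⟨sub_eq_zero.1 (h.eq_zero (mem_CE.1 (sub_mem (mul_mem a0 b0) (one_mem _))) (i := 0) (j := 0)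
          (by rw [sub_mul, ← dg_zero h, h1, sub_self])), sub_eq_zero.1 (h.eq_zero
            (mem_CE.1 (sub_mem (mul_mem a1 b1) (one_mem _))) (i := 1) (j := 1) (by rw [sub_mul, ← dg_one h, h1, sub_self]))⟩
      rw [uu, uu, sq, ← Nat.card_prod]
      exact Nat.card_le_card_of_injective (fun x =>
        (⟨coef E x 0 0, ⟨coef_mem hD x.2.1.1 _ _, coef_CE h _ _ _⟩, (k2 x x.2.1.2 x.2.2).1⟩,
        ⟨coef E x 1 1, ⟨coef_mem hD x.2.1.1 _ _, coef_CE h _ _ _⟩, (k2 x x.2.1.2 x.2.2).2⟩)) fun x y e => Subtype.ext (by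
          rw [key x x.2.1.2, key y y.2.1.2, Subtype.mk.inj (Prod.mk.inj e).1, Subtype.mk.inj (Prod.mk.inj e).2])
  · have h1 : (v : A) * dg E lam (star lam) = z * dg E lam (star lam) * v := hsv ▸ congrArg Units.val e
    have h2 : ∀ a b x, x ∈ Subring.center A → dg E a b - x = dg E (a - x) (b - x) := fun a b x _ => by
      conv_lhs => rw [← dg_same h x]
      rw [dg, dg, dg, sub_mul, sub_mul]
      abel
    have h3 : (dg E lam (star lam) - lam) * (dg E lam (star lam) - star lam) = 0 := by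
      rw [h2 _ _ _ hc, h2 _ _ _ hc', dg_mul h _ _ (cE (sub_mem hc hc')) (cE (sub_mem hc' hc')), sub_self, sub_self,
        zero_mul, mul_zero, dg_same h]
    have h4 : ∀ x ∈ Subring.center A, (v : A) * (dg E lam (star lam) - x) = (z * dg E lam (star lam) - x) * v :=
      fun x hx => by rw [mul_sub, sub_mul, h1, cen_comm hx]
    have h5 : (z * dg E lam (star lam) - lam) * (z * dg E lam (star lam) - star lam) = 0 := by
      rw [← Units.mul_left_eq_zero v, mul_assoc, ← h4 _ hc', ← mul_assoc, ← h4 _ hc, mul_assoc, h3, mul_zero]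
    have c1 := mul_mem hz hc
    have c2 := mul_mem hz hc'
    rw [show z * dg E lam (star lam) = dg E (z * lam) (z * star lam) by rw [dg, dg, mul_add, mul_assoc, mul_assoc],
      h2 _ _ _ hc, h2 _ _ _ hc', dg_mul h _ _ (cE (sub_mem c1 hc')) (cE (sub_mem c2 hc'))] at h5
    have h6 := h.eq_zero (mem_CE.1 (cE (mul_mem (sub_mem c1 hc) (sub_mem c1 hc')))) (i := 0) (j := 0)
      (by rw [← dg_zero h, h5, zero_mul])
    have h7 := h.eq_zero (mem_CE.1 (cE (mul_mem (sub_mem c2 hc) (sub_mem c2 hc')))) (i := 1) (j := 1)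
      (by rw [← dg_one h, h5, zero_mul])
    rw [← sub_one_mul, (hz'.mul (IsUnit.of_mul_eq_one _ hu)).mul_right_eq_zero, sub_eq_zero] at h6
    rw [← sub_one_mul, (hz'.mul (IsUnit.of_mul_eq_one _ hu')).mul_left_eq_zero, sub_eq_zero] at h7
    refine Units.ext ?_
    rw [sq, Units.val_mul, ← mul_one (z * z : A), ← hu, mul_assoc, ← mul_assoc (z : A) lam, h6, ← mul_assoc, h7, hu,
      Units.val_one]

end diag

end Cfsg.Agent.N2C.Ten

private theorem dce_a232506a5029 : _root_.True := by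
  try have : _root_.True := by simp only [_root_.Cfsg.Agent.N2C.Ten.dg.eq_1]
  exact _root_.True.intro
end

-- part: FP3/Red/RegA
section
prune_inst 0x14204100090000000018050260003e02ce000400000b0c0084200e0406802c6209002e21b58004031a2880040031000811540080020000000000040001180481008082043140a100200097000000400000000000000000000000000000000004200000000
set_option linter.all false
open scoped Cfsg.Agent.FastGrp

-- part: H882/Sc/Gen
section
/-!
# Scott's lemma for arbitrary representations (helper882)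

* `scott_gen` : `dim V^x + dim V^y + dim V^(xy) ≤ dim V + dim V^H + dim V/[V,H]`, `H = ⟨x, y⟩`;
* `scott_form` : with an invariant nondegenerate form : `≤ dim V + 2 dim V^H`.
-/

set_option autoImplicit false
set_option linter.unusedSectionVars false

namespace Cfsg.Agent.H882.Sc

open Module Cfsg.Agent.H637.JW Cfsg.Agent.H882.Dim

variable {K : Type*} [Field K] {V : Type*} [AddCommGroup V] [Module K V] [FiniteDimensional K V]
  {G : Type*} [Group G] {σ : G →* Module.End K V}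

/-- **Scott's lemma**, general form. -/
theorem scott_gen (x y : G) :
    finrank K (Fix σ x) + finrank K (Fix σ y) + finrank K (Fix σ (x * y)) + finrank K (Rg σ x ⊔ Rg σ y : Submodule K V) ≤
      2 * finrank K V + finrank K (_root_.Cfsg.Agent.H637.JW.Fix σ x ⊓ _root_.Cfsg.Agent.H637.JW.Fix σ y : Submodule K V) := by
  let f : Fix σ (x * y) →ₗ[K] V := (σ y - 1).comp (_root_.Cfsg.Agent.H637.JW.Fix σ (x * y)).subtype
  have hfx : ∀ v : Fix σ (x * y), σ x (σ y (v : V)) = v := fun v => by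
    rw [← mul_apply']
    exact mem_Fix.1 v.2
  have hr : LinearMap.range f ≤ Rg σ x ⊓ Rg σ y := by
    rintro _ ⟨v, rfl⟩
    refine ⟨⟨-(σ y v), ?_⟩, ⟨v, rfl⟩⟩
    change σ x (-(σ y v)) - -(σ y v) = σ y v - v
    rw [map_neg, hfx v]
    abel
  have hk : finrank K (LinearMap.ker f) ≤ finrank K (_root_.Cfsg.Agent.H637.JW.Fix σ x ⊓ _root_.Cfsg.Agent.H637.JW.Fix σ y : Submodule K V) := by
    let g : LinearMap.ker f →ₗ[K] (_root_.Cfsg.Agent.H637.JW.Fix σ x ⊓ _root_.Cfsg.Agent.H637.JW.Fix σ y : Submodule K V) :=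
      LinearMap.codRestrict _ ((_root_.Cfsg.Agent.H637.JW.Fix σ (x * y)).subtype.comp (LinearMap.ker f).subtype) (by
        rintro ⟨v, hv⟩
        have h3 : σ y (v : V) = v := sub_eq_zero.1 (LinearMap.mem_ker.1 hv)
        have h4 : σ x (σ y (v : V)) = v := hfx v
        rw [h3] at h4
        exact ⟨mem_Fix.2 h4, mem_Fix.2 h3⟩)
    refine LinearMap.finrank_le_finrank_of_injective (f := g) ?_
    intro a b hab
    apply Subtype.ext
    apply Subtype.ext
    exact congrArg (Submodule.subtype (_root_.Cfsg.Agent.H637.JW.Fix σ x ⊓ _root_.Cfsg.Agent.H637.JW.Fix σ y)) hab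
  have h5 := Submodule.finrank_mono hr
  have h9 := LinearMap.finrank_range_add_finrank_ker f
  have h6 := Submodule.finrank_sup_add_finrank_inf_eq (Rg σ x) (Rg σ y)
  have h7 := rank_Rg (σ := σ) x
  have h8 := rank_Rg (σ := σ) y
  omega

/-- the orthogonal complement of the fixed space -/
theorem Form.rank_sup {B : V →ₗ[K] V →ₗ[K] K} (hB : Form σ B) (x y : G) :
    finrank K V ≤ finrank K (Rg σ x ⊔ Rg σ y : Submodule K V) + finrank K (_root_.Cfsg.Agent.H637.JW.Fix σ x ⊓ _root_.Cfsg.Agent.H637.JW.Fix σ y : Submodule K V) := by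
  -- the annihilator of `U = [V,x] + [V,y]` consists of fixed vectors
  set U : Submodule K V := Rg σ x ⊔ Rg σ y with hU
  let f : V →ₗ[K] Module.Dual K U := (Module.Dual.transpose (R := K) (Submodule.subtype U)) ∘ₗ B
  have hker : LinearMap.ker f ≤ _root_.Cfsg.Agent.H637.JW.Fix σ x ⊓ _root_.Cfsg.Agent.H637.JW.Fix σ y := by
    intro v hv
    have h1 : ∀ u ∈ U, B v u = 0 := fun u hu => LinearMap.congr_fun (LinearMap.mem_ker.1 hv) ⟨u, hu⟩
    have key : ∀ g, Rg σ g ≤ U → σ g v = v := by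
      intro g hg
      have h2 : ∀ w, B (σ g v - v) w = 0 := by
        intro w
        have h3 : B (σ g v) (σ g (σ g⁻¹ w)) = B v (σ g⁻¹ w) := hB.inv g v _
        rw [← mul_apply' (σ := σ) g g⁻¹ w, mul_inv_cancel, map_one, Module.End.one_apply] at h3
        have h4 := h1 _ (hg (mem_Rg g (σ g⁻¹ w)))
        rw [← mul_apply' (σ := σ) g g⁻¹ w, mul_inv_cancel, map_one, Module.End.one_apply, map_sub] at h4
        rw [map_sub, LinearMap.sub_apply, h3]
        rw [← neg_sub, h4, neg_zero]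
      exact sub_eq_zero.1 (hB.nd _ h2)
    exact ⟨mem_Fix.2 (key x le_sup_left), mem_Fix.2 (key y le_sup_right)⟩
  have h1 := LinearMap.finrank_range_add_finrank_ker f
  have h2 := Submodule.finrank_mono hker
  have h3 := Submodule.finrank_le (LinearMap.range f)
  rw [Subspace.dual_finrank_eq] at h3
  omega

/-- **Scott's lemma with a form.** -/
theorem scott_form {B : V →ₗ[K] V →ₗ[K] K} (hB : Form σ B) (x y : G) :
    finrank K (Fix σ x) + finrank K (Fix σ y) + finrank K (Fix σ (x * y)) ≤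
      finrank K V + 2 * finrank K (_root_.Cfsg.Agent.H637.JW.Fix σ x ⊓ _root_.Cfsg.Agent.H637.JW.Fix σ y : Submodule K V) := by
  have h1 := scott_gen (σ := σ) x y
  have h2 := hB.rank_sup x y
  omega

end Cfsg.Agent.H882.Sc
end

-- part: FP3/Red/Orb
section
/-!
# The number of cycles of a permutation (helper94)

* `orb_eq_sum` : the number of cycles (fixed points included) is the sum of the inverse periods;
* `orb_parity` : an even permutation has as many cycles as points, modulo 2;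
* `orb_prime` : elements of prime order;
* `ree` : two permutations generating a transitive group (Ree's inequality, from Scott's lemma).
-/

set_option autoImplicit false

namespace Cfsg.Agent.FP3.Red

open MulAction Subgroup

variable {X : Type*}

/-- the number of cycles of a permutation, fixed points included -/
noncomputable def orb (σ : Equiv.Perm X) : ℕ := Nat.card (orbitRel.Quotient (zpowers σ) X)

theorem mem_orbit_iff_sameCycle (σ : Equiv.Perm X) (x y : X) : y ∈ orbit (zpowers σ) x ↔ σ.SameCycle x y := by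
  constructor
  · rintro ⟨⟨_, k, rfl⟩, rfl⟩
    exact ⟨k, rfl⟩
  · rintro ⟨k, rfl⟩
    exact ⟨⟨σ ^ k, k, rfl⟩, rfl⟩

theorem period_eq_card [Finite X] (σ : Equiv.Perm X) (x : X) : period σ x = Nat.card (orbit (zpowers σ) x) := by
  have := Fintype.ofFinite (orbit (zpowers σ) x)
  rw [period_eq_minimalPeriod, minimalPeriod_eq_card, Nat.card_eq_fintype_card]

theorem period_pos' [Finite X] (σ : Equiv.Perm X) (x : X) : 0 < period σ x :=
  period_pos_of_orderOf_pos (orderOf_pos σ) x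

theorem orb_eq_sum [Fintype X] (σ : Equiv.Perm X) : (orb σ : ℚ) = ∑ x : X, (1 : ℚ) / period σ x := by
  classical
  have : Fintype (orbitRel.Quotient (zpowers σ) X) := Fintype.ofFinite _
  let q : X → orbitRel.Quotient (zpowers σ) X := fun x => Quotient.mk'' x
  rw [← Finset.sum_fiberwise Finset.univ q, orb, Nat.card_eq_fintype_card, ← Finset.card_univ,
    Finset.card_eq_sum_ones, Nat.cast_sum]
  apply Finset.sum_congr rfl
  intro o _
  obtain ⟨x, rfl⟩ : ∃ x, q x = o := Quotient.exists_rep o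
  have h1 : ∀ y, q y = q x ↔ y ∈ orbit (zpowers σ) x := fun y => Quotient.eq''
  have h2 : (Finset.univ.filter fun y => q y = q x).card = period σ x := by
    rw [period_eq_card, ← Fintype.card_subtype, ← Nat.card_eq_fintype_card]
    exact Nat.card_congr (Equiv.subtypeEquivRight h1)
  have h3 : ∀ y ∈ Finset.univ.filter (fun y => q y = q x), (1 : ℚ) / period σ y = 1 / period σ x := by
    intro y hy
    rw [Finset.mem_filter, h1] at hy
    rw [period_eq_card, period_eq_card, orbit_eq_iff.2 hy.2]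
  rw [Finset.sum_congr rfl h3, Finset.sum_const, h2, nsmul_eq_mul]
  have h4 : (period σ x : ℚ) ≠ 0 := Nat.cast_ne_zero.2 (period_pos' σ x).ne'
  field_simp
  simp

theorem orb_eq_cycle [Fintype X] [DecidableEq X] (σ : Equiv.Perm X) :
    orb σ + σ.support.card = Fintype.card X + Multiset.card σ.cycleType := by
  have h0 : (orb σ : ℚ) = (Fintype.card X - σ.support.card : ℚ) + Multiset.card σ.cycleType := by
    rw [orb_eq_sum, ← Finset.sum_add_sum_compl σ.support, add_comm]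
    congr 1
    · have h1 : ∀ y ∈ σ.supportᶜ, (1 : ℚ) / period σ y = 1 := by
        intro y hy
        rw [Finset.mem_compl, Equiv.Perm.notMem_support] at hy
        rw [period_eq_one_iff.2 hy]
        simp
      rw [Finset.sum_congr rfl h1, Finset.sum_const, Finset.card_compl, nsmul_eq_mul, mul_one,
        Nat.cast_sub (Finset.card_le_univ _)]
    · rw [← Finset.sum_fiberwise_of_maps_to (t := σ.cycleFactorsFinset) (g := fun x => σ.cycleOf x)
        (fun x hx => Equiv.Perm.cycleOf_mem_cycleFactorsFinset_iff.2 hx), Equiv.Perm.cycleType_def,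
        Multiset.card_map, Finset.card_val, Finset.card_eq_sum_ones, Nat.cast_sum]
      apply Finset.sum_congr rfl
      intro c hc
      have h1 : σ.support.filter (fun x => σ.cycleOf x = c) = c.support := by
        ext x
        rw [Finset.mem_filter, eq_comm, Equiv.Perm.eq_cycleOf_of_mem_cycleFactorsFinset_iff σ c hc]
        exact ⟨fun h => h.2, fun h => ⟨Equiv.Perm.mem_cycleFactorsFinset_support_le hc h, h⟩⟩
      have h2 : ∀ y ∈ c.support, (1 : ℚ) / period σ y = 1 / c.support.card := by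
        intro y hy
        have h3 : y ∈ σ.support := Equiv.Perm.mem_cycleFactorsFinset_support_le hc hy
        have h4 : period σ y = c.support.card := by
          rw [period_eq_card, Equiv.Perm.cycle_is_cycleOf hy hc, ← Fintype.card_coe, ← Nat.card_eq_fintype_card]
          refine Nat.card_congr (Equiv.subtypeEquivRight fun z => ?_)
          rw [mem_orbit_iff_sameCycle, Equiv.Perm.mem_support_cycleOf_iff, and_iff_left h3]
        rw [h4]
      rw [h1, Finset.sum_congr rfl h2, Finset.sum_const, nsmul_eq_mul]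
      have h5 : (c.support.card : ℚ) ≠ 0 := by
        have := (Equiv.Perm.mem_cycleFactorsFinset_iff.1 hc).1.two_le_card_support
        exact Nat.cast_ne_zero.2 (by omega)
      field_simp
      simp
  have h1 : ((orb σ + σ.support.card : ℕ) : ℚ) = ((Fintype.card X + Multiset.card σ.cycleType : ℕ) : ℚ) := by
    push_cast
    rw [h0]
    ring
  exact_mod_cast h1

theorem orb_parity [Fintype X] [DecidableEq X] {σ : Equiv.Perm X} (h : Equiv.Perm.sign σ = 1) :
    orb σ % 2 = Fintype.card X % 2 := by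
  have h1 := orb_eq_cycle σ
  rw [Equiv.Perm.sign_of_cycleType, Equiv.Perm.sum_cycleType] at h
  have h2 : Even (σ.support.card + Multiset.card σ.cycleType) := by
    by_contra h3
    rw [Nat.not_even_iff_odd] at h3
    rw [h3.neg_one_pow] at h
    exact absurd h (by decide)
  obtain ⟨k, hk⟩ := h2
  omega

theorem orb_prime [Fintype X] {σ : Equiv.Perm X} {p : ℕ} (hp : p.Prime) (h : σ ^ p = 1) (h1 : σ ≠ 1) :
    ∃ f, f < Fintype.card X ∧ p * orb σ + f = p * f + Fintype.card X := by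
  classical
  refine ⟨σ.supportᶜ.card, ?_, ?_⟩
  · rw [Finset.card_compl]
    have h2 : 0 < σ.support.card := by
      rw [Finset.card_pos, Finset.nonempty_iff_ne_empty, Ne, Equiv.Perm.support_eq_empty_iff]
      exact h1
    have h3 := Finset.card_le_univ σ.support
    omega
  · have hp0 : (p : ℚ) ≠ 0 := Nat.cast_ne_zero.2 hp.ne_zero
    have h0 : (orb σ : ℚ) = σ.support.card / p + σ.supportᶜ.card := by
      rw [orb_eq_sum, ← Finset.sum_add_sum_compl σ.support]
      congr 1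
      · have h2 : ∀ y ∈ σ.support, (1 : ℚ) / period σ y = 1 / p := by
          intro y hy
          have h3 : period σ y ∣ p := pow_smul_eq_iff_period_dvd.1 (by rw [h, one_smul])
          rcases (Nat.dvd_prime hp).1 h3 with h4 | h4
          · exact absurd (period_eq_one_iff.1 h4) (Equiv.Perm.mem_support.1 hy)
          · rw [h4]
        rw [Finset.sum_congr rfl h2, Finset.sum_const, nsmul_eq_mul, mul_one_div]
      · have h2 : ∀ y ∈ σ.supportᶜ, (1 : ℚ) / period σ y = 1 := by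
          intro y hy
          rw [Finset.mem_compl, Equiv.Perm.notMem_support] at hy
          rw [period_eq_one_iff.2 hy]
          simp
        rw [Finset.sum_congr rfl h2, Finset.sum_const, nsmul_eq_mul, mul_one]
    have h2 : (Fintype.card X : ℚ) = σ.support.card + σ.supportᶜ.card := by
      rw [← Finset.card_add_card_compl σ.support]
      push_cast
      rfl
    have h3 : ((p * orb σ + σ.supportᶜ.card : ℕ) : ℚ) = ((p * σ.supportᶜ.card + Fintype.card X : ℕ) : ℚ) := by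
      push_cast
      rw [h0, h2]
      field_simp
      ring
    exact_mod_cast h3

section Ree

open Module Cfsg.Agent.H637.JW Cfsg.Agent.H882.Sc

/-- the permutation representation on functions -/
def permRep (X : Type*) : Equiv.Perm X →* Module.End ℚ (X → ℚ) where
  toFun σ := LinearMap.funLeft ℚ ℚ σ.symm
  map_one' := rfl
  map_mul' _ _ := rfl

theorem permRep_apply (σ : Equiv.Perm X) (f : X → ℚ) (x : X) : permRep X σ f x = f (σ.symm x) := rfl

theorem mem_Fix_perm {σ : Equiv.Perm X} {f : X → ℚ} : f ∈ _root_.Cfsg.Agent.H637.JW.Fix (permRep X) σ ↔ ∀ x, f (σ x) = f x := by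
  rw [mem_Fix]
  constructor
  · intro h x
    have := congrFun h (σ x)
    rw [permRep_apply, Equiv.symm_apply_apply] at this
    exact this.symm
  · intro h
    funext x
    rw [permRep_apply, ← h (σ.symm x), Equiv.apply_symm_apply]

theorem orb_le_finrank [Fintype X] (σ : Equiv.Perm X) : orb σ ≤ finrank ℚ (Fix (permRep X) σ) := by
  classical
  have : Fintype (orbitRel.Quotient (zpowers σ) X) := Fintype.ofFinite _
  let q : X → orbitRel.Quotient (zpowers σ) X := fun x => Quotient.mk'' x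
  let L : (orbitRel.Quotient (zpowers σ) X → ℚ) →ₗ[ℚ] Fix (permRep X) σ :=
    LinearMap.codRestrict _ (LinearMap.funLeft ℚ ℚ q) (by
      intro f
      rw [mem_Fix_perm]
      intro x
      have h1 : q (σ x) = q x := Quotient.sound' ⟨⟨σ, mem_zpowers σ⟩, rfl⟩
      change f (q (σ x)) = f (q x)
      rw [h1])
  have hL : Function.Injective L := by
    intro f g h
    have h1 : LinearMap.funLeft ℚ ℚ q f = LinearMap.funLeft ℚ ℚ q g := congrArg Subtype.val h
    exact LinearMap.funLeft_injective_of_surjective ℚ ℚ q (fun o => Quotient.exists_rep o) h1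
  have h2 := LinearMap.finrank_le_finrank_of_injective hL
  rwa [Module.finrank_fintype_fun_eq_card, ← Nat.card_eq_fintype_card] at h2

/-- **Ree's inequality.** -/
theorem ree [Fintype X] (σ τ : Equiv.Perm X) (htr : ∀ a b : X, ∃ g ∈ _root_.Subgroup.closure ({σ, τ} : Set (Equiv.Perm X)), g a = b) :
    orb σ + orb τ + orb (σ * τ) ≤ Fintype.card X + 2 := by
  classical
  have hB : Form (permRep X) (dotProductBilin ℚ ℚ : (X → ℚ) →ₗ[ℚ] (X → ℚ) →ₗ[ℚ] ℚ) := by
    constructor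
    · intro g v w
      change ∑ x, v (g.symm x) * w (g.symm x) = ∑ x, v x * w x
      exact Equiv.sum_comp g.symm (fun x => v x * w x)
    · intro v hv
      funext x
      have := hv (Pi.single x 1)
      simpa only [_root_.Pi.zero_apply, _root_.dotProductBilin_apply_apply, _root_.dotProduct_single, _root_.mul_one] using this
  have h1 := scott_form hB σ τ
  have h2 : finrank ℚ (_root_.Cfsg.Agent.H637.JW.Fix (permRep X) σ ⊓ _root_.Cfsg.Agent.H637.JW.Fix (permRep X) τ : Submodule ℚ (X → ℚ)) ≤ 1 := by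
    have h3 : (_root_.Cfsg.Agent.H637.JW.Fix (permRep X) σ ⊓ _root_.Cfsg.Agent.H637.JW.Fix (permRep X) τ : Submodule ℚ (X → ℚ)) ≤ ℚ ∙ (fun _ => 1) := by
      intro f hf
      have h4 : ∀ g ∈ _root_.Subgroup.closure ({σ, τ} : Set (Equiv.Perm X)), ∀ x, f (g x) = f x := by
        intro g hg
        induction hg using closure_induction with
        | mem g hg =>
          rcases hg with rfl | rfl
          · exact mem_Fix_perm.1 hf.1
          · exact mem_Fix_perm.1 hf.2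
        | one => intro x; rfl
        | mul g h _ _ hg hh => intro x; rw [Equiv.Perm.mul_apply, hg, hh]
        | inv g _ hg => intro x; rw [← hg (g⁻¹ x), ← Equiv.Perm.mul_apply, mul_inv_cancel, Equiv.Perm.one_apply]
      rw [Submodule.mem_span_singleton]
      rcases isEmpty_or_nonempty X with hX | ⟨⟨a⟩⟩
      · exact ⟨0, Subsingleton.elim _ _⟩
      · refine ⟨f a, funext fun b => ?_⟩
        obtain ⟨g, hg, rfl⟩ := htr a b
        rw [h4 g hg]
        simp
    exact (Submodule.finrank_mono h3).trans (finrank_span_le_card _ |>.trans (by simp))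
  have h5 := orb_le_finrank σ
  have h6 := orb_le_finrank τ
  have h7 := orb_le_finrank (σ * τ)
  rw [Module.finrank_fintype_fun_eq_card] at h1
  omega

end Ree

end Cfsg.Agent.FP3.Red
end

-- part: FP3/Red/Avg
section
/-!
# A product of simple groups acting without fixed points has an element with few cycles (helper94)
-/

set_option autoImplicit false

namespace Cfsg.Agent.FP3.Red

open MulAction Subgroup
open scoped commutatorElement

/-- sums over a transitive action -/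
theorem sum_trans {M X : Type*} [Group M] [Fintype M] [Fintype X] [MulAction M X] [IsPretransitive M X] (x0 : X)
    (F : X → ℚ) : (Fintype.card X : ℚ) * ∑ m : M, F (m • x0) = Fintype.card M * ∑ x, F x := by
  have h1 : ∀ x : X, ∑ m : M, F (m • x) = ∑ m : M, F (m • x0) := by
    intro x
    obtain ⟨n, rfl⟩ := _root_.MulAction.exists_smul_eq M x0 x
    rw [← Equiv.sum_comp (Equiv.mulRight n) (fun m : M => F (m • x0))]
    apply Finset.sum_congr rfl
    intro m _
    rw [Equiv.coe_mulRight, mul_smul]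
  have h2 : ∀ m : M, ∑ x : X, F (m • x) = ∑ x, F x := fun m => Equiv.sum_comp (toPerm m) F
  calc (Fintype.card X : ℚ) * ∑ m : M, F (m • x0) = ∑ x : X, ∑ m : M, F (m • x) := by
        rw [Finset.sum_congr rfl (fun x _ => h1 x), Finset.sum_const, Finset.card_univ, nsmul_eq_mul]
    _ = ∑ m : M, ∑ x : X, F (m • x) := Finset.sum_comm
    _ = Fintype.card M * ∑ x, F x := by
        rw [Finset.sum_congr rfl (fun m _ => h2 m), Finset.sum_const, Finset.card_univ, nsmul_eq_mul]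

/-- the number of cycles on `Δ` is bounded by the numbers of cycles on quotients of the orbits -/
theorem double_count {M Δ : Type*} [Group M] [Finite M] [Fintype Δ] [MulAction M Δ] (Y : Δ → Subgroup M) (d : ℕ)
    (hd : ∀ δ, (Y δ).index = d) (hst : ∀ δ, stabilizer M δ ≤ Y δ) (g : M) :
    d * orb (toPerm g : Equiv.Perm Δ) ≤ ∑ δ, orb (toPerm g : Equiv.Perm (M ⧸ Y δ)) := by
  classical
  have := Fintype.ofFinite M
  have hM : (0 : ℚ) < Fintype.card M := Nat.cast_pos.2 Fintype.card_pos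
  have h1 : (Fintype.card M : ℚ) * orb (toPerm g : Equiv.Perm Δ) =
      ∑ δ : Δ, ∑ m : M, (1 : ℚ) / period (toPerm g : Equiv.Perm Δ) (m • δ) := by
    rw [Finset.sum_comm, orb_eq_sum]
    have h2 : ∀ m : M, ∑ δ : Δ, (1 : ℚ) / period (toPerm g : Equiv.Perm Δ) (m • δ) =
        ∑ δ : Δ, (1 : ℚ) / period (toPerm g : Equiv.Perm Δ) δ :=
      fun m => Equiv.sum_comp (toPerm m) (fun δ : Δ => (1 : ℚ) / period (toPerm g : Equiv.Perm Δ) δ)
    rw [Finset.sum_congr rfl (fun m _ => h2 m), Finset.sum_const, Finset.card_univ, nsmul_eq_mul]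
  have h2 : ∀ δ : Δ, (d : ℚ) * ∑ m : M, (1 : ℚ) / period (toPerm g : Equiv.Perm Δ) (m • δ) ≤
      Fintype.card M * orb (toPerm g : Equiv.Perm (M ⧸ Y δ)) := by
    intro δ
    have := Fintype.ofFinite (M ⧸ Y δ)
    have h3 : (d : ℚ) = Fintype.card (M ⧸ Y δ) := by
      rw [← hd δ, Subgroup.index, Nat.card_eq_fintype_card]
    rw [orb_eq_sum, ← sum_trans ((1 : M) : M ⧸ Y δ), h3]
    apply mul_le_mul_of_nonneg_left _ (Nat.cast_nonneg _)
    apply Finset.sum_le_sum
    intro m _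
    apply one_div_le_one_div_of_le (Nat.cast_pos.2 (period_pos' _ _))
    apply Nat.cast_le.2
    apply period_le_of_fixed (period_pos' (toPerm g : Equiv.Perm Δ) (m • δ))
    set n := period (toPerm g : Equiv.Perm Δ) (m • δ) with hn
    have h4 : (toPerm g : Equiv.Perm Δ) ^ n • (m • δ) = m • δ := pow_period_smul _ _
    have h5 : (toPerm g : Equiv.Perm Δ) ^ n = toPerm (g ^ n) := (map_pow (toPermHom M Δ) g n).symm
    have h6 : (toPerm g : Equiv.Perm (M ⧸ Y δ)) ^ n = toPerm (g ^ n) := (map_pow (toPermHom M (M ⧸ Y δ)) g n).symm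
    rw [h5] at h4
    rw [h6]
    have h7 : m⁻¹ * g ^ n * m ∈ stabilizer M δ := by
      rw [mem_stabilizer_iff, mul_smul, mul_smul, inv_smul_eq_iff]
      exact h4
    change ((g ^ n * (m * 1) : M) : M ⧸ Y δ) = ((m * 1 : M) : M ⧸ Y δ)
    rw [eq_comm, QuotientGroup.eq, mul_one, ← mul_assoc]
    exact hst δ h7
  have h3 : (Fintype.card M : ℚ) * ((d * orb (toPerm g : Equiv.Perm Δ) : ℕ) : ℚ) ≤
      Fintype.card M * ((∑ δ, orb (toPerm g : Equiv.Perm (M ⧸ Y δ)) : ℕ) : ℚ) := by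
    push_cast
    rw [mul_left_comm, h1, Finset.mul_sum, Finset.mul_sum]
    exact Finset.sum_le_sum fun δ _ => h2 δ
  exact_mod_cast le_of_mul_le_mul_left h3 hM

/-- averaging over a product -/
theorem avg {I J Δ : Type*} [Fintype I] [DecidableEq I] [Fintype J] [Nonempty J] [Fintype Δ] (F : Δ → (I → J) → ℕ) (B : ℕ)
    (h : ∀ δ, ∃ i, ∀ f : I → J, ∑ j, F δ (Function.update f i j) ≤ Fintype.card J * B) :
    ∃ f : I → J, ∑ δ, F δ f ≤ Fintype.card Δ * B := by
  classical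
  have h1 : ∀ δ, ∑ f : I → J, F δ f ≤ Fintype.card (I → J) * B := by
    intro δ
    obtain ⟨i, hi⟩ := h δ
    let e : (I → J) × J ≃ (I → J) × J :=
      { toFun := fun p => (Function.update p.1 i p.2, p.1 i)
        invFun := fun p => (Function.update p.1 i p.2, p.1 i)
        left_inv := fun p => by simp
        right_inv := fun p => by simp }
    have h2 : ∑ p : (I → J) × J, F δ (e p).1 = ∑ p : (I → J) × J, F δ p.1 := Equiv.sum_comp e (fun p => F δ p.1)
    rw [Fintype.sum_prod_type, Fintype.sum_prod_type] at h2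
    have h3 : ∑ f : I → J, ∑ j : J, F δ (e (f, j)).1 ≤ ∑ _f : I → J, Fintype.card J * B :=
      Finset.sum_le_sum fun f _ => hi f
    rw [h2] at h3
    simp only [Finset.sum_const, Finset.card_univ, smul_eq_mul] at h3
    rw [← Finset.mul_sum, mul_left_comm] at h3
    exact Nat.le_of_mul_le_mul_left h3 Fintype.card_pos
  by_contra hcon
  push Not at hcon
  have h2 : ∑ _f : I → J, Fintype.card Δ * B < ∑ f : I → J, ∑ δ, F δ f :=
    Finset.sum_lt_sum_of_nonempty Finset.univ_nonempty fun f _ => hcon f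
  have h3 : ∑ δ, ∑ f : I → J, F δ f ≤ ∑ _δ : Δ, Fintype.card (I → J) * B := Finset.sum_le_sum fun δ _ => h1 δ
  rw [Finset.sum_comm] at h3
  simp only [Finset.sum_const, Finset.card_univ, smul_eq_mul] at h2 h3
  rw [mul_left_comm] at h3
  omega

section Local

variable {S X : Type*} [Group S] [IsSimpleGroup S]

theorem commutator_top (hna : ¬ IsMulCommutative S) : commutator S = ⊤ := by
  rcases (inferInstance : (commutator S).Normal).eq_bot_or_eq_top with h | h
  · exfalso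
    apply hna
    rw [commutator_eq_bot_iff_center_eq_top] at h
    exact ⟨⟨fun a b => (mem_center_iff.1 (by rw [h]; exact mem_top b) a)⟩⟩
  · exact h

/-- `x` and `y h` generate a group which contains the image of `S` -/
theorem mem_closure_twist {P : Type*} [Group P] (hna : ¬ IsMulCommutative S) (ψ : S →* P) {h : P}
    (hh : ∀ s, Commute h (ψ s)) {x y : S} (hxy : _root_.Subgroup.closure ({x, y} : Set S) = ⊤) (s : S) :
    ψ s ∈ _root_.Subgroup.closure ({ψ x, ψ y * h} : Set P) := by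
  set K := _root_.Subgroup.closure ({ψ x, ψ y * h} : Set P) with hK
  have h1 : ∀ s : S, ∃ k : ℤ, ψ s * h ^ k ∈ K := by
    intro s
    have hs : s ∈ _root_.Subgroup.closure ({x, y} : Set S) := by rw [hxy]; exact mem_top s
    induction hs using closure_induction with
    | mem s hs =>
      rcases hs with rfl | rfl
      · exact ⟨0, by rw [zpow_zero, mul_one]; exact _root_.Subgroup.subset_closure (Set.mem_insert _ _)⟩
      · exact ⟨1, by rw [zpow_one]; exact _root_.Subgroup.subset_closure (Set.mem_insert_of_mem _ rfl)⟩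
    | one => exact ⟨0, by rw [map_one, zpow_zero, mul_one]; exact one_mem _⟩
    | mul s t _ _ hs ht =>
      obtain ⟨k, hk⟩ := hs
      obtain ⟨l, hl⟩ := ht
      refine ⟨k + l, ?_⟩
      have h2 : ψ (s * t) * h ^ (k + l) = ψ s * h ^ k * (ψ t * h ^ l) := by
        rw [map_mul, zpow_add, mul_assoc (ψ s), mul_assoc (ψ s), ← mul_assoc (h ^ k), ((hh t).zpow_left k).eq,
          mul_assoc]
      rw [h2]
      exact mul_mem hk hl
    | inv s _ hs =>
      obtain ⟨k, hk⟩ := hs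
      refine ⟨-k, ?_⟩
      have h2 : ψ s⁻¹ * h ^ (-k) = (ψ s * h ^ k)⁻¹ := by
        rw [mul_inv_rev, ← map_inv, ← zpow_neg, ((hh s⁻¹).zpow_left (-k)).eq]
      rw [h2]
      exact inv_mem hk
  have h2 : commutator S ≤ K.comap ψ := by
    rw [commutator_def, commutator_le]
    intro a _ b _
    obtain ⟨k, hk⟩ := h1 a
    obtain ⟨l, hl⟩ := h1 b
    rw [mem_comap]
    have h3 : ψ ⁅a, b⁆ = (ψ a * h ^ k) * (ψ b * h ^ l) * (ψ a * h ^ k)⁻¹ * (ψ b * h ^ l)⁻¹ := by
      have e1 : Commute (h ^ k) (ψ b) := (hh b).zpow_left k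
      have e2 : Commute (h ^ l) (ψ a)⁻¹ := ((hh a).zpow_left l).inv_right
      have e3 : Commute (h ^ k) (h ^ l) := Commute.zpow_zpow_self h k l
      rw [map_commutatorElement, commutatorElement_def]
      calc ψ a * ψ b * (ψ a)⁻¹ * (ψ b)⁻¹ = ψ a * ψ b * ((ψ a)⁻¹ * h ^ l) * (h ^ l)⁻¹ * (ψ b)⁻¹ := by group
        _ = ψ a * ψ b * (h ^ l * (ψ a)⁻¹) * (h ^ l)⁻¹ * (ψ b)⁻¹ := by rw [e2.eq]
        _ = ψ a * (ψ b * h ^ k) * h ^ l * (h ^ k)⁻¹ * (ψ a)⁻¹ * (h ^ l)⁻¹ * (ψ b)⁻¹ := by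
          have e4 : h ^ k * h ^ l * (h ^ k)⁻¹ = h ^ l := by rw [e3.eq, mul_inv_cancel_right]
          calc ψ a * ψ b * (h ^ l * (ψ a)⁻¹) * (h ^ l)⁻¹ * (ψ b)⁻¹
              = ψ a * ψ b * (h ^ k * h ^ l * (h ^ k)⁻¹ * (ψ a)⁻¹) * (h ^ l)⁻¹ * (ψ b)⁻¹ := by rw [e4]
            _ = _ := by simp only [mul_assoc]
        _ = ψ a * (h ^ k * ψ b) * h ^ l * (h ^ k)⁻¹ * (ψ a)⁻¹ * (h ^ l)⁻¹ * (ψ b)⁻¹ := by rw [e1.eq]
        _ = _ := by simp only [mul_assoc, mul_inv_rev]
    rw [h3]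
    exact mul_mem (mul_mem (mul_mem hk hl) (inv_mem hk)) (inv_mem hl)
  have h3 : s ∈ commutator S := by rw [commutator_top hna]; exact mem_top s
  exact h2 h3

variable [Fintype X]

theorem ree_twist (hna : ¬ IsMulCommutative S) (ψ : S →* Equiv.Perm X) (htr : ∀ a b : X, ∃ s, ψ s a = b)
    {h : Equiv.Perm X} (hh : ∀ s, Commute h (ψ s)) {x y : S} (hxy : _root_.Subgroup.closure ({x, y} : Set S) = ⊤) :
    orb (ψ x) + orb (ψ y * h) + orb (ψ (x * y) * h) ≤ Fintype.card X + 2 := by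
  have h1 := ree (ψ x) (ψ y * h) (fun a b => by
    obtain ⟨s, hs⟩ := htr a b
    exact ⟨ψ s, mem_closure_twist hna ψ hh hxy s, hs⟩)
  rwa [← mul_assoc, ← map_mul] at h1

omit [Fintype X] in
theorem inj_of_trans (ψ : S →* Equiv.Perm X) (htr : ∀ a b : X, ∃ s, ψ s a = b) [Nontrivial X] :
    Function.Injective ψ := by
  rw [← MonoidHom.ker_eq_bot_iff]
  rcases (inferInstance : ψ.ker.Normal).eq_bot_or_eq_top with h | h
  · exact h
  · exfalso
    obtain ⟨a, b, hab⟩ := exists_pair_ne X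
    obtain ⟨s, hs⟩ := htr a b
    have h1 : s ∈ ψ.ker := by rw [h]; exact mem_top s
    rw [MonoidHom.mem_ker] at h1
    rw [h1] at hs
    exact hab hs

omit [Fintype X] in
theorem twist_ne_one (hna : ¬ IsMulCommutative S) (ψ : S →* Equiv.Perm X) (hψ : Function.Injective ψ)
    {h : Equiv.Perm X} (hh : ∀ s, Commute h (ψ s)) {x : S} (hx : x ≠ 1) : ψ x * h ≠ 1 := by
  intro e
  have h1 : x ∈ center S := by
    rw [mem_center_iff]
    intro g
    apply hψ
    rw [map_mul, map_mul, eq_inv_of_mul_eq_one_left e]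
    exact ((hh g).inv_left.eq).symm
  rcases (inferInstance : (center S).Normal).eq_bot_or_eq_top with h2 | h2
  · rw [h2, mem_bot] at h1
    exact hx h1
  · exact hna ⟨⟨fun a b => (mem_center_iff.1 (by rw [h2]; exact mem_top b) a)⟩⟩

theorem five_le_card [Finite S] (hna : ¬ IsMulCommutative S) (ψ : S →* Equiv.Perm X) (htr : ∀ a b : X, ∃ s, ψ s a = b)
    [Nontrivial X] : 5 ≤ Fintype.card X ∧ Fintype.card X ∣ Nat.card S := by
  let _ : MulAction S X := MulAction.compHom X ψ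
  have htr' : IsPretransitive S X := ⟨htr⟩
  obtain ⟨a, b, hab⟩ := exists_pair_ne X
  have h1 : (stabilizer S a).index = Fintype.card X := by
    rw [index_stabilizer_of_transitive, Nat.card_eq_fintype_card]
  rw [← h1]
  refine ⟨SmallSimple.Embed.five_le_index hna _ ?_, index_dvd_card _⟩
  intro e
  obtain ⟨s, hs⟩ := htr a b
  have h2 : s ∈ stabilizer S a := by rw [e]; exact mem_top s
  exact hab (h2.symm.trans hs)

variable [DecidableEq X]

theorem sign_perfect {M : Type*} [Group M] (hM : commutator M = ⊤) (φ : M →* Equiv.Perm X) (m : M) :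
    Equiv.Perm.sign (φ m) = 1 := by
  have h1 : commutator M ≤ (Equiv.Perm.sign.comp φ).ker := Abelianization.commutator_subset_ker _
  have h2 : m ∈ commutator M := by rw [hM]; exact mem_top m
  exact h1 h2

theorem local_two (hna : ¬ IsMulCommutative S) (ψ : S →* Equiv.Perm X) (htr : ∀ a b : X, ∃ s, ψ s a = b)
    {h : Equiv.Perm X} (hh : ∀ s, Commute h (ψ s)) {x y : S} (hx : orderOf x = 2)
    (hxy : _root_.Subgroup.closure ({x, y} : Set S) = ⊤) (h6 : 6 ≤ Fintype.card X) (h8 : Fintype.card X ≠ 8) :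
    3 * orb (ψ y * h) + 3 * orb (ψ (x * y) * h) ≤ 2 * Fintype.card X := by
  have : Nontrivial X := Fintype.one_lt_card_iff_nontrivial.1 (by omega)
  have h1 := ree_twist hna ψ htr hh hxy
  have hx1 : x ≠ 1 := by
    rintro rfl
    rw [orderOf_one] at hx
    omega
  obtain ⟨f, hf, hf'⟩ := orb_prime (σ := ψ x) Nat.prime_two (by rw [← map_pow, ← hx, pow_orderOf_eq_one, map_one])
    (fun e => hx1 (inj_of_trans ψ htr (e.trans (map_one ψ).symm)))
  have h2 := orb_parity (sign_perfect (commutator_top hna) ψ x)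
  omega

theorem local_three (hna : ¬ IsMulCommutative S) (ψ : S →* Equiv.Perm X) (htr : ∀ a b : X, ∃ s, ψ s a = b)
    {h : Equiv.Perm X} (hh : ∀ s, Commute h (ψ s)) (hs : Equiv.Perm.sign h = 1) {x y : S} {p : ℕ} (hp : p.Prime)
    (hp2 : p ≠ 2) (hp7 : p ≠ 7) (hx : orderOf x = p) (hxy : _root_.Subgroup.closure ({x, y} : Set S) = ⊤) (h8 : Fintype.card X = 8) :
    3 * orb (ψ y * h) + 3 * orb (ψ (x * y) * h) + 3 * orb (ψ (x * (x * y)) * h) ≤ 3 * Fintype.card X := by
  have : Nontrivial X := Fintype.one_lt_card_iff_nontrivial.1 (by omega)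
  have hψ := inj_of_trans ψ htr
  have key : ∀ z : S, orderOf z = p → 4 ≤ orb (ψ z) := by
    intro z hz
    have hz1 : z ≠ 1 := by
      rintro rfl
      rw [orderOf_one] at hz
      exact hp.one_lt.ne hz
    obtain ⟨f, hf, hf'⟩ := orb_prime (σ := ψ z) hp (by rw [← map_pow, ← hz, pow_orderOf_eq_one, map_one])
      (fun e => hz1 (hψ (e.trans (map_one ψ).symm)))
    have h2 := orb_parity (sign_perfect (commutator_top hna) ψ z)
    rw [h8] at hf hf' h2
    have h3 : p ∣ 8 - f := by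
      have h4 : f ≤ orb (ψ z) := by
        by_contra h5
        have h6 : p * (orb (ψ z) + 1) ≤ p * f := Nat.mul_le_mul_left p (by omega)
        have h7 := hp.two_le
        rw [mul_add] at h6
        omega
      refine ⟨orb (ψ z) - f, ?_⟩
      rw [Nat.mul_sub]
      omega
    have h4 : p ≤ 8 := (Nat.le_of_dvd (by omega) h3).trans (Nat.sub_le _ _)
    have h5 := hp.two_le
    interval_cases p
    · omega
    · omega
    · exact absurd hp (by norm_num)
    · (clear * - hf'; omega)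
    · exact absurd hp (by norm_num)
    · (clear * - hf h2 hp7 hf'; omega)
    · exact absurd hp (by norm_num)
  have hcop : (orderOf x).Coprime 2 := by
    rw [hx]
    exact (Nat.coprime_primes hp Nat.prime_two).2 hp2
  have hx2 : orderOf (x * x) = p := by
    rw [← pow_two, hcop.orderOf_pow, hx]
  have hg2 : _root_.Subgroup.closure ({x, x * y} : Set S) = ⊤ := by
    rw [eq_top_iff, ← hxy, closure_le]
    have e1 : x ∈ closure ({x, x * y} : Set S) := _root_.Subgroup.subset_closure (Set.mem_insert _ _)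
    have e2 : x * y ∈ closure ({x, x * y} : Set S) := _root_.Subgroup.subset_closure (Set.mem_insert_of_mem _ rfl)
    rintro z (rfl | rfl)
    · exact e1
    · have e3 := mul_mem (inv_mem e1) e2
      rwa [inv_mul_cancel_left] at e3
  have hg3 : closure ({x * x, y} : Set S) = ⊤ := by
    rw [eq_top_iff, ← hxy, closure_le]
    have e1 : x * x ∈ closure ({x * x, y} : Set S) := _root_.Subgroup.subset_closure (Set.mem_insert _ _)
    have e2 : y ∈ closure ({x * x, y} : Set S) := _root_.Subgroup.subset_closure (Set.mem_insert_of_mem _ rfl)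
    rintro z (rfl | rfl)
    · obtain ⟨m, hm⟩ := exists_pow_eq_self_of_coprime hcop.symm
      have e3 := pow_mem e1 m
      rw [← pow_two] at e3
      rw [← hm, ← pow_two]
      rw [hm]
      rwa [hm] at e3
    · exact e2
  have h1 := ree_twist hna ψ htr hh hxy
  have h2 := ree_twist hna ψ htr hh hg2
  have h3 := ree_twist hna ψ htr hh hg3
  rw [mul_assoc x x y] at h3
  have h4 := key x hx
  have h5 := key _ hx2
  have hsg : ∀ s, orb (ψ s * h) % 2 = Fintype.card X % 2 := fun s =>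
    orb_parity (by rw [map_mul, sign_perfect (commutator_top hna) ψ s, hs, mul_one])
  have h6 := hsg y
  have h7 := hsg (x * y)
  have h9 := hsg (x * (x * y))
  (clear * - h8 h1 h2 h3 h4 h5 h9; omega)

omit [DecidableEq X] in
theorem local_one (hna : ¬ IsMulCommutative S) (ψ : S →* Equiv.Perm X) (htr : ∀ a b : X, ∃ s, ψ s a = b)
    {h : Equiv.Perm X} (hh : ∀ s, Commute h (ψ s)) {x : S} (hx : x ≠ 1) {p : ℕ} (hp : (ψ x * h) ^ p = 1)
    (hd : (p = 5 ∧ Fintype.card X = 5) ∨ (p = 7 ∧ Fintype.card X = 8)) : 3 * orb (ψ x * h) ≤ Fintype.card X := by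
  have : Nontrivial X := Fintype.one_lt_card_iff_nontrivial.1 (by omega)
  have h1 := twist_ne_one hna ψ (inj_of_trans ψ htr) hh hx
  rcases hd with ⟨rfl, hd⟩ | ⟨rfl, hd⟩
  · obtain ⟨f, hf, hf'⟩ := orb_prime (by norm_num) hp h1
    omega
  · obtain ⟨f, hf, hf'⟩ := orb_prime (by norm_num) hp h1
    omega

end Local

end Cfsg.Agent.FP3.Red
end

-- part: FP3/Red/Few
section
/-!
# A product of simple groups acting without fixed points has an element with few cycles, part 2 (helper94)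
-/

set_option autoImplicit false

namespace Cfsg.Agent.FP3.Red

open MulAction Subgroup

section

variable {I : Type*} [Fintype I] [DecidableEq I] {S : I → Type*} [∀ i, Group (S i)]

/-- one of the factors is transitive on the cosets of a maximal subgroup -/
theorem exists_factor_trans (Y : Subgroup (∀ i, S i)) (hY : IsCoatom Y) :
    ∃ i, ∀ a b : (∀ i, S i) ⧸ Y, ∃ s : S i, (Pi.mulSingle i s : ∀ i, S i) • a = b := by
  obtain ⟨i, s0, hs0⟩ : ∃ (i : I) (s : S i), (Pi.mulSingle i s : ∀ i, S i) ∉ Y := by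
    by_contra hcon
    push Not at hcon
    apply hY.1
    rw [eq_top_iff]
    intro g _
    exact pi_mem_of_mulSingle_mem g fun i => hcon i (g i)
  refine ⟨i, ?_⟩
  set K : Subgroup (∀ i, S i) := (MonoidHom.mulSingle S i).range with hK
  have hconj : ∀ (m : ∀ i, S i) (s : S i), m * Pi.mulSingle i s * m⁻¹ = Pi.mulSingle i (m i * s * (m i)⁻¹) := by
    intro m s
    funext j
    by_cases hj : j = i
    · subst hj
      simp
    · simp [Pi.mulSingle_eq_of_ne hj]
  have hKn : K.Normal := ⟨by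
    rintro _ ⟨s, rfl⟩ m
    exact ⟨m i * s * (m i)⁻¹, (hconj m s).symm⟩⟩
  have htop : K ⊔ Y = ⊤ := by
    apply hY.2
    refine lt_of_le_of_ne le_sup_right fun e => hs0 ?_
    rw [e]
    exact mem_sup_left ⟨s0, rfl⟩
  intro a b
  obtain ⟨m, rfl⟩ := QuotientGroup.mk_surjective a
  obtain ⟨n, rfl⟩ := QuotientGroup.mk_surjective b
  have h1 : m⁻¹ * n ∈ ((K ⊔ Y : Subgroup (∀ i, S i)) : Set (∀ i, S i)) := by rw [htop]; trivial
  rw [normal_mul] at h1
  obtain ⟨_, ⟨s, rfl⟩, y, hy, hky⟩ := h1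
  refine ⟨m i * s * (m i)⁻¹, ?_⟩
  rw [← hconj]
  change ((m * Pi.mulSingle i s * m⁻¹ * m : ∀ i, S i) : (∀ i, S i) ⧸ Y) = n
  rw [QuotientGroup.eq, inv_mul_cancel_right, mul_inv_rev, mul_assoc, ← hky]
  change (Pi.mulSingle i s : ∀ i, S i)⁻¹ * (Pi.mulSingle i s * y) ∈ Y
  rwa [inv_mul_cancel_left]

omit [Fintype I] in
theorem update_eq (g : ∀ i, S i) (i : I) (s : S i) :
    Function.update g i s = Pi.mulSingle i s * Function.update g i 1 := by
  funext j
  by_cases hj : j = i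
  · subst hj
    simp
  · simp [Pi.mulSingle_eq_of_ne hj, Function.update_of_ne hj]

omit [Fintype I] in
theorem update_commute (g : ∀ i, S i) (i : I) (s : S i) : Commute (Function.update g i 1) (Pi.mulSingle i s) := by
  funext j
  by_cases hj : j = i
  · subst hj
    simp
  · simp [Pi.mulSingle_eq_of_ne hj]

variable [∀ i, Finite (S i)]

/-- the averaging step -/
theorem few_of_local {Δ : Type*} [Fintype Δ] [MulAction (∀ i, S i) Δ] {d : ℕ} (hd0 : 0 < d)
    (Y : Δ → Subgroup (∀ i, S i)) (hd : ∀ δ, (Y δ).index = d) (hst : ∀ δ, stabilizer (∀ i, S i) δ ≤ Y δ)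
    {J : Type*} [Fintype J] [Nonempty J] (a : ∀ i, J → S i)
    (h : ∀ δ, ∃ i, ∀ f : I → J, ∑ j, 3 * orb (toPermHom (∀ i, S i) ((∀ i, S i) ⧸ Y δ) (Pi.mulSingle i (a i j)) *
      toPermHom (∀ i, S i) ((∀ i, S i) ⧸ Y δ) (Function.update (fun k => a k (f k)) i 1)) ≤ Fintype.card J * d) :
    ∃ g : ∀ i, S i, 3 * orb (toPerm g : Equiv.Perm Δ) ≤ Fintype.card Δ := by
  obtain ⟨f, hf⟩ := avg (fun (δ : Δ) (f : I → J) =>
      3 * orb (toPerm (fun k => a k (f k) : ∀ i, S i) : Equiv.Perm ((∀ i, S i) ⧸ Y δ))) d (by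
    intro δ
    obtain ⟨i, hi⟩ := h δ
    refine ⟨i, fun f => le_of_eq_of_le ?_ (hi f)⟩
    apply Finset.sum_congr rfl
    intro j _
    rw [← map_mul, ← update_eq]
    have h1 : (fun k => a k (Function.update f i j k)) = Function.update (fun k => a k (f k)) i (a i j) := by
      funext k
      by_cases hk : k = i
      · subst hk
        simp
      · simp [Function.update_of_ne hk]
    rw [h1]
    rfl)
  refine ⟨fun k => a k (f k), ?_⟩
  have h1 := double_count Y d hd hst (fun k => a k (f k))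
  rw [← Finset.mul_sum] at hf
  have h2 : d * (3 * orb (toPerm (fun k => a k (f k) : ∀ i, S i) : Equiv.Perm Δ)) ≤ d * Fintype.card Δ := by
    rw [mul_left_comm, mul_comm d (Fintype.card Δ)]
    exact (Nat.mul_le_mul_left 3 h1).trans hf
  exact Nat.le_of_mul_le_mul_left h2 hd0

variable [∀ i, IsSimpleGroup (S i)]

theorem exists_few (hna : ∀ i, ¬ IsMulCommutative (S i)) (hgen : ∀ i, GenRow (S i)) (hev : ∀ i, 2 ∣ Nat.card (S i))
    (hcard : ∀ i j, Nat.card (S i) = Nat.card (S j)) {Δ : Type*} [Fintype Δ] [Nonempty Δ] [MulAction (∀ i, S i) Δ]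
    (d : ℕ) (Y : Δ → Subgroup (∀ i, S i)) (hY : ∀ δ, IsCoatom (Y δ)) (hd : ∀ δ, (Y δ).index = d)
    (hst : ∀ δ, stabilizer (∀ i, S i) δ ≤ Y δ) :
    ∃ g : ∀ i, S i, 3 * orb (toPerm g : Equiv.Perm Δ) ≤ Fintype.card Δ := by
  classical
  choose ι hι using fun δ => exists_factor_trans (Y δ) (hY δ)
  have hfin : ∀ δ, Fintype ((∀ i, S i) ⧸ Y δ) := fun δ => Fintype.ofFinite _
  have hX : ∀ δ, Fintype.card ((∀ i, S i) ⧸ Y δ) = d := fun δ => by
    rw [← hd δ, Subgroup.index, Nat.card_eq_fintype_card]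
  let φ : ∀ δ, (∀ i, S i) →* Equiv.Perm ((∀ i, S i) ⧸ Y δ) := fun δ => toPermHom _ _
  let ψ : ∀ δ, S (ι δ) →* Equiv.Perm ((∀ i, S i) ⧸ Y δ) := fun δ => (φ δ).comp (MonoidHom.mulSingle S (ι δ))
  have htr : ∀ δ (a b : (∀ i, S i) ⧸ Y δ), ∃ s, ψ δ s a = b := fun δ a b => hι δ a b
  have hcm : ∀ δ (g : ∀ i, S i) s, Commute (φ δ (Function.update g (ι δ) 1)) (ψ δ s) := fun δ g s =>
    (update_commute g (ι δ) s).map (φ δ)
  have hperf : commutator (∀ i, S i) = ⊤ := by
    rw [commutator_def, ← pi_top Set.univ, commutator_pi_pi_of_finite]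
    have h1 : (fun i => ⁅(⊤ : Subgroup (S i)), (⊤ : Subgroup (S i))⁆) = fun i => ⊤ :=
      funext fun i => commutator_top (hna i)
    rw [h1]
  obtain ⟨δ0⟩ : Nonempty Δ := inferInstance
  have hnt : ∀ δ, Nontrivial ((∀ i, S i) ⧸ Y δ) := by
    intro δ
    rw [← Fintype.one_lt_card_iff_nontrivial, hX, ← hd δ]
    exact one_lt_index_of_ne_top (hY δ).1
  obtain ⟨h5, hdvd⟩ := five_le_card (hna _) (ψ δ0) (htr δ0)
  rw [hX] at h5 hdvd
  have helt : ∀ p : ℕ, p.Prime → p ∣ Nat.card (S (ι δ0)) → ∀ i, ∃ x : S i, orderOf x = p := by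
    intro p hp hpd i
    have := Fact.mk hp
    exact exists_prime_orderOf_dvd_card' p (by rwa [hcard i (ι δ0)])
  have hne : ∀ {p : ℕ}, p.Prime → ∀ {i} {x : S i}, orderOf x = p → x ≠ 1 := by
    intro p hp i x hx e
    rw [e, orderOf_one] at hx
    exact hp.one_lt.ne hx
  by_cases hone : ∃ p : ℕ, p ∣ Nat.card (S (ι δ0)) ∧ ((p = 5 ∧ d = 5) ∨ (p = 7 ∧ d = 8))
  · obtain ⟨p, hpd, hp⟩ := hone
    have hpp : p.Prime := by
      rcases hp with ⟨rfl, -⟩ | ⟨rfl, -⟩ <;> norm_num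
    choose x hx using helt p hpp hpd
    refine few_of_local (by omega) Y hd hst (J := Unit) (fun i _ => x i) fun δ => ⟨ι δ, fun f => ?_⟩
    rw [Fintype.sum_unique, Fintype.card_unique, one_mul, ← hX δ]
    refine local_one (hna _) (ψ δ) (htr δ) (hcm δ _) (hne hpp (hx _)) (p := p) ?_ (by rwa [hX])
    change (φ δ (Pi.mulSingle (ι δ) (x (ι δ))) * φ δ (Function.update x (ι δ) 1)) ^ p = 1
    rw [← map_mul, ← update_eq, Function.update_eq_self, ← map_pow]
    have h1 : x ^ p = 1 := by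
      funext i
      rw [Pi.pow_apply, ← hx i, pow_orderOf_eq_one, Pi.one_apply]
    rw [h1, map_one]
  · push Not at hone
    have hd5 : d ≠ 5 := by
      rintro rfl
      exact (hone 5 hdvd).1 rfl rfl
    by_cases hd8 : d = 8
    · obtain ⟨p, hp, hpd, hp2⟩ : ∃ p : ℕ, p.Prime ∧ p ∣ Nat.card (S (ι δ0)) ∧ p ≠ 2 := by
        by_contra hcon
        push Not at hcon
        have h2 : IsPGroup 2 (S (ι δ0)) :=
          IsPGroup.of_card (Nat.eq_prime_pow_of_unique_prime_dvd Nat.card_pos.ne' fun hq hqd => hcon _ hq hqd)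
        have h3 := h2.center_nontrivial
        rcases (inferInstance : (center (S (ι δ0))).Normal).eq_bot_or_eq_top with h4 | h4
        · rw [h4] at h3
          exact not_subsingleton (⊥ : Subgroup (S (ι δ0))) inferInstance
        · exact hna _ ⟨⟨fun a b => (mem_center_iff.1 (by rw [h4]; exact mem_top b) a)⟩⟩
      have hp7 : p ≠ 7 := fun e => (hone p hpd).2 e hd8
      choose x hx using helt p hp hpd
      choose y hy using fun i => hgen i (x i) (hne hp (hx i))
      refine few_of_local (by omega) Y hd hst (J := Fin 3) (fun i => ![y i, x i * y i, x i * (x i * y i)])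
        fun δ => ⟨ι δ, fun f => ?_⟩
      rw [Fin.sum_univ_three, Fintype.card_fin, ← hX δ]
      exact local_three (hna _) (ψ δ) (htr δ) (hcm δ _) (sign_perfect hperf (φ δ) _) hp hp2 hp7 (hx _) (hy _)
        (by rw [hX, hd8])
    · choose x hx using helt 2 Nat.prime_two (hev _)
      choose y hy using fun i => hgen i (x i) (hne Nat.prime_two (hx i))
      refine few_of_local (by omega) Y hd hst (J := Fin 2) (fun i => ![y i, x i * y i]) fun δ => ⟨ι δ, fun f => ?_⟩
      rw [Fin.sum_univ_two, Fintype.card_fin, ← hX δ]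
      exact local_two (hna _) (ψ δ) (htr δ) (hcm δ _) (hx _) (hy _) (by rw [hX]; omega) (by rwa [hX])

end

end Cfsg.Agent.FP3.Red
end

-- part: FP3/Red/RegA
section
/-!
# The regular non-abelian case, part 1 (helper94)
-/

set_option autoImplicit false

namespace Cfsg.Agent.FP3

/-- box EV (from S0205): non-abelian simple groups have even order -/
def Ev : Prop := ∀ (T : Type) [Group T] [Finite T] [IsSimpleGroup T], ¬ IsMulCommutative T → 2 ∣ Nat.card T

namespace Red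

open MulAction Subgroup Cfsg.Agent.PermutationGroups.OnanScott

theorem exists_min_normal' {G : Type*} [Group G] [Finite G] [Nontrivial G] : ∃ N : Subgroup G, N.Normal ∧ N ≠ ⊥ ∧
    ∀ M : Subgroup G, M.Normal → M ≤ N → M = ⊥ ∨ M = N := by
  obtain ⟨N, ⟨hN, hNne⟩, hmin⟩ := WellFounded.has_min (wellFounded_lt (α := Subgroup G))
    {N | N.Normal ∧ N ≠ ⊥} ⟨⊤, inferInstance, top_ne_bot⟩
  refine ⟨N, hN, hNne, fun M hM hMN => ?_⟩
  by_contra hcon
  push Not at hcon
  exact hmin M ⟨hM, hcon.1⟩ (lt_of_le_of_ne hMN hcon.2)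

theorem not_comm_of_ne {T : Type*} [Group T] (h : ∃ a b : T, a * b ≠ b * a) : ¬ IsMulCommutative T := by
  intro hc
  obtain ⟨a, b, hab⟩ := h
  exact hab (hc.is_comm.comm a b)

theorem card_eq_of_conj {G : Type*} [Group G] {A B : Subgroup G} {g : G} (h : B = A.map (MulAut.conj g).toMonoidHom) :
    Nat.card A = Nat.card B := by
  rw [h]
  exact Nat.card_congr (A.equivMapOfInjective _ (MulAut.conj g).injective).toEquiv

/-- a non-abelian minimal normal subgroup of a transitive group which moves a point -/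
theorem few_normal (hE : Ev) (hG : Gen) {H : Type} [Group H] [Finite H] {Δ : Type*} [Fintype Δ] [MulAction H Δ]
    [IsPretransitive H Δ] (M : Subgroup H) [M.Normal] (hmin : ∀ L : Subgroup H, L.Normal → L ≤ M → L = ⊥ ∨ L = M)
    (hna : ¬ ∀ x ∈ M, ∀ y ∈ M, Commute x y) {δ0 : Δ} (hmove : ∃ x ∈ M, x • δ0 ≠ δ0) :
    ∃ g ∈ M, 3 * orb (toPerm g : Equiv.Perm Δ) ≤ Fintype.card Δ := by
  classical
  obtain ⟨l, S, e, -, hsimple, hSna, -, -, -, -, htrans, -, -⟩ := exists_coordinates M hmin hna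
  let θ : (∀ j, S j) →* H := M.subtype.comp e.symm.toMonoidHom
  let _ : MulAction (∀ j, S j) Δ := MulAction.compHom Δ θ
  have hsm : ∀ (x : ∀ j, S j) (δ : Δ), x • δ = ((e.symm x : M) : H) • δ := fun _ _ => rfl
  have hne : stabilizer (∀ j, S j) δ0 ≠ ⊤ := by
    intro h
    obtain ⟨x, hx, hxδ⟩ := hmove
    apply hxδ
    have h1 : e ⟨x, hx⟩ ∈ stabilizer (∀ j, S j) δ0 := by rw [h]; exact mem_top _
    rw [mem_stabilizer_iff, hsm, MulEquiv.symm_apply_apply] at h1
    exact h1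
  obtain ⟨Y0, hY0, hle⟩ := (eq_top_or_exists_le_coatom (stabilizer (∀ j, S j) δ0)).resolve_left hne
  choose h hh using fun δ => _root_.MulAction.exists_smul_eq H δ δ0
  let α : Δ → (∀ j, S j) ≃* (∀ j, S j) := fun δ => (e.symm.trans (MulAut.conjNormal (h δ) : MulAut M)).trans e
  have : Nonempty Δ := ⟨δ0⟩
  obtain ⟨g, hg⟩ := exists_few (S := fun j => S j) (fun j => not_comm_of_ne (hSna j))
    (fun j => hG (S j) (not_comm_of_ne (hSna j))) (fun j => hE (S j) (not_comm_of_ne (hSna j)))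
    (fun i j => by
      obtain ⟨g, hg⟩ := htrans i j
      exact card_eq_of_conj hg) Y0.index (fun δ : Δ => Y0.comap (α δ).toMonoidHom)
    (fun δ => ((α δ).comapSubgroup.isCoatom_iff Y0).2 hY0)
    (fun δ => index_comap_of_surjective _ (α δ).surjective)
    (fun δ x hx => by
      apply hle
      rw [mem_stabilizer_iff, hsm] at hx
      change ((e.symm (e (MulAut.conjNormal (h δ) (e.symm x))) : M) : H) • δ0 = δ0
      rw [MulEquiv.symm_apply_apply, MulAut.conjNormal_apply, mul_smul, mul_smul, ← hh δ, inv_smul_smul, hx])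
  have h1 : (toPerm (θ g) : Equiv.Perm Δ) = toPerm g := Equiv.ext fun _ => rfl
  exact ⟨θ g, (e.symm g).2, by rwa [h1]⟩

/-- a minimal normal subgroup of an irreducible group of automorphisms of a non-abelian group is not abelian -/
theorem min_not_comm {G : Type*} [Group G] [Finite G] (N H : Subgroup G) [N.Normal]
    (hna : ¬ ∀ x ∈ N, ∀ y ∈ N, Commute x y) (hf : ∀ g : G, (∀ n ∈ N, Commute g n) → g = 1)
    (hirr : ∀ W ≤ N, (∀ h ∈ H, ∀ w ∈ W, h * w * h⁻¹ ∈ W) → W = ⊥ ∨ W = N) (M : Subgroup H) [hM : M.Normal] (hM1 : M ≠ ⊥)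
    (hmin : ∀ L : Subgroup H, L.Normal → L ≤ M → L = ⊥ ∨ L = M) : ¬ ∀ x ∈ M, ∀ y ∈ M, Commute x y := by
  intro hab
  obtain ⟨r, hr, hrd⟩ := Nat.exists_prime_and_dvd (fun e : Nat.card M = 1 => hM1 (card_eq_one.1 e))
  have := Fact.mk hr
  obtain ⟨d, hd⟩ := exists_prime_orderOf_dvd_card' r hrd
  let R0 : Subgroup H :=
    { carrier := {x | x ∈ M ∧ x ^ r = 1}
      one_mem' := ⟨one_mem _, one_pow _⟩
      mul_mem' := by
        rintro x y ⟨hx, hx'⟩ ⟨hy, hy'⟩
        refine ⟨mul_mem hx hy, ?_⟩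
        rw [(hab x hx y hy).mul_pow, hx', hy', one_mul]
      inv_mem' := by
        rintro x ⟨hx, hx'⟩
        exact ⟨inv_mem hx, by rw [inv_pow, hx', inv_one]⟩ }
  have hR0 : R0 = M := by
    rcases hmin R0 ⟨fun x hx g => ⟨hM.conj_mem x hx.1 g, by rw [conj_pow, hx.2, mul_one, mul_inv_cancel]⟩⟩
      (fun x hx => hx.1) with h | h
    · exfalso
      have h1 : (d : H) ∈ R0 := ⟨d.2, by
        have := pow_orderOf_eq_one d
        rw [hd] at this
        exact Subtype.ext_iff.1 this⟩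
      rw [h, mem_bot] at h1
      have h2 : d = 1 := Subtype.ext h1
      rw [h2, orderOf_one] at hd
      exact hr.one_lt.ne hd
    · exact h
  let φ : H →* MulAut N := (MulAut.conjNormal (H := N)).comp H.subtype
  have hφ : ∀ (h : H) (n : N), ((φ h n : N) : G) = h * n * (h : G)⁻¹ := fun h n => MulAut.conjNormal_apply _ _
  have hirr' : ∀ L : Subgroup N, (∀ s ∈ φ.range, ∀ l ∈ L, s l ∈ L) → L = ⊥ ∨ L = ⊤ := by
    intro L hL
    rcases hirr (L.map N.subtype) (map_subtype_le L) (by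
      rintro h hh _ ⟨l, hl, rfl⟩
      exact ⟨_, hL _ ⟨⟨h, hh⟩, rfl⟩ l hl, hφ _ _⟩) with h1 | h1
    · left
      rwa [Subgroup.map_eq_bot_iff_of_injective _ N.subtype_injective] at h1
    · right
      apply map_injective N.subtype_injective
      rw [h1, ← MonoidHom.range_eq_map, range_subtype]
  apply hna
  intro x hx y hy
  have key := H284.reg_core φ.range (M.map φ) hr (by
      rintro _ ⟨s, rfl⟩ _ ⟨t, ht, rfl⟩
      exact ⟨s * t * s⁻¹, hM.conj_mem t ht s, by rw [map_mul, map_mul, map_inv]⟩)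
    (by
      rintro ⟨_, t, ht, rfl⟩
      refine ⟨1, Subtype.ext ?_⟩
      have h1 : t ∈ R0 := by rw [hR0]; exact ht
      rw [pow_one]
      change φ t ^ r = 1
      rw [← map_pow, h1.2, map_one])
    (by
      intro n hn
      let C : Subgroup N :=
        { carrier := {n | ∀ ρ ∈ M.map φ, ρ n = n}
          one_mem' := fun ρ _ => map_one ρ
          mul_mem' := fun {x y} hx hy ρ hρ => by rw [map_mul, hx ρ hρ, hy ρ hρ]
          inv_mem' := fun {x} hx ρ hρ => by rw [map_inv, hx ρ hρ] }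
      rcases hirr' C (by
        rintro _ ⟨s, rfl⟩ n hn _ ⟨t, ht, rfl⟩
        have h1 := hn (φ (s⁻¹ * t * s⁻¹⁻¹)) ⟨_, hM.conj_mem t ht s⁻¹, rfl⟩
        have h2 : φ t (φ s n) = φ s (φ (s⁻¹ * t * s⁻¹⁻¹) n) := by
          rw [← MulAut.mul_apply, ← MulAut.mul_apply, ← map_mul, ← map_mul]
          congr 2
          group
        rw [h2, h1]) with h1 | h1
      · have h2 : n ∈ C := hn
        rwa [h1, mem_bot] at h2
      · exfalso
        apply hM1
        rw [eq_bot_iff]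
        intro t ht
        rw [mem_bot]
        apply Subtype.ext
        apply hf
        intro n hn
        have h2 : (⟨n, hn⟩ : N) ∈ C := by rw [h1]; exact mem_top _
        have h3 := congrArg Subtype.val (h2 (φ t) ⟨t, ht, rfl⟩)
        rw [hφ, mul_inv_eq_iff_eq_mul] at h3
        exact h3)
    hirr' ⟨x, hx⟩ ⟨y, hy⟩
  exact congrArg Subtype.val key

end Red

end Cfsg.Agent.FP3
end

private theorem dce_23f2d80dcea6 : _root_.True := by
  try have : _root_.True := by simp only [_root_.Cfsg.Agent.FP3.Red.orb.eq_1]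
  try have : _root_.True := by simp only [_root_.dotProductBilin.congr_simp]
  exact _root_.True.intro
end

-- part: N2/Ex/Al/SubA
section
prune_inst 0x4143069405d6212000018051020000000380004020040040014000304024e9062a942a80141200c131a3aa81028010000001000b080100000000004000001002080a0d206a348010426009f803082000000000000000000000000000000041004000000000
set_option linter.all false
open scoped Cfsg.Agent.FastGrp

/-!
# N2, `BoxSub`, part a: a base and a datum for a set of roots which is closed under its reflections (helper55)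

The first section follows `DL/Dat/Base`, the second one `DL/Dat/Sub`.
-/

set_option autoImplicit false
set_option linter.unusedSectionVars false

namespace Cfsg.Agent.N2.Ex.Al.Sb

open CoxeterSystem Cfsg.Agent.ChevalleyStructure.CoxeterGeom Cfsg.Agent.Tits.Roots Cfsg.Agent.Nodes.Reps
  Cfsg.Agent.Nodes.BNOf Cfsg.Agent.Nodes.SubComb Cfsg.Agent.Nodes.Coroot Cfsg.Agent.Nodes.Slope
open Cfsg.Agent.DL.Base (cpr_mul_lt ne_neg_of_nonneg lab)
open Cfsg.Agent.BpExc.Zc (ZB CommZ ZClosed)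
open scoped commutatorElement

section Base

variable {I W : Type} [Fintype I] [DecidableEq I] [Group W] [Finite W] {M : CoxeterMatrix I}
  {cs : CoxeterSystem M W} {A : I → I → ℤ} {h : IsCartan M A}

variable (cs h) in
/-- a symmetric set of roots which is closed under its reflections -/
structure Rs where
  s : Set (I → ℤ)
  root : ∀ a ∈ s, IsRoot cs h a
  neg : ∀ a ∈ s, -a ∈ s
  rc : ∀ a ∈ s, ∀ b ∈ s, b - cpr cs h b a • a ∈ s

variable (Λ : Rs cs h)

/-- positive roots in `Λ` -/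
def PosL (a : I → ℤ) : Prop := a ∈ Λ.s ∧ 0 ≤ a

/-- indecomposable positive roots in `Λ` -/
def Ind (a : I → ℤ) : Prop := PosL Λ a ∧ ∀ b c, PosL Λ b → PosL Λ c → a ≠ b + c

/-- the base -/
def Smp : Type := {a : I → ℤ // Ind Λ a}

theorem finite_Smp : Finite (Smp Λ) :=
  ((RGD.finite_roots (cs := cs) (h := h)).subset (fun _ ha => Λ.root _ ha.1.1 : {a | Ind Λ a} ⊆ _)).to_subtype

/-- the base is finite -/
@[reducible] noncomputable def fintypeSmp : Fintype (Smp Λ) := @Fintype.ofFinite _ (finite_Smp Λ)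

/-- classical decidable equality -/
@[reducible] noncomputable def decSmp : DecidableEq (Smp Λ) := Classical.decEq _

attribute [local instance] fintypeSmp decSmp

/-- the base as a family of vectors -/
def bs (j : Smp Λ) : I → ℤ := j.1

variable {Λ}

theorem bs_mem (j : Smp Λ) : bs Λ j ∈ Λ.s := j.2.1.1

theorem bs_root (j : Smp Λ) : IsRoot cs h (bs Λ j) := Λ.root _ (bs_mem j)

theorem bs_nonneg (j : Smp Λ) : 0 ≤ bs Λ j := j.2.1.2

theorem bs_injective : Function.Injective (bs Λ) := Subtype.val_injective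

theorem sub_mem' {a b : I → ℤ} (ha : a ∈ Λ.s) (hb : b ∈ Λ.s) (h1 : a ≠ b) (h2 : a ≠ -b) (h3 : 0 < cpr cs h a b) :
    a - b ∈ Λ.s := by
  have := Fintype.ofFinite W
  have h4 : 0 < cpr cs h b a := by rwa [cpr_pos_iff _ _ _ (Λ.root a ha), form_comm, ← cpr_pos_iff _ _ _ (Λ.root b hb)]
  have h5 := cpr_mul_lt (Λ.root a ha) (Λ.root b hb) h1 h2
  by_cases h6 : cpr cs h a b = 1
  · have := Λ.rc b hb a ha
    rwa [h6, one_smul] at this
  · have h7 : cpr cs h b a = 1 := by
      by_contra h8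
      have : 2 ≤ cpr cs h a b := by omega
      have : 2 ≤ cpr cs h b a := by omega
      nlinarith
    have := Λ.neg _ (Λ.rc a ha b hb)
    rwa [h7, one_smul, neg_sub] at this

theorem cpr_nonpos {j k : Smp Λ} (hjk : j ≠ k) : cpr cs h (bs Λ j) (bs Λ k) ≤ 0 := by
  by_contra h0
  have h1 := sub_mem' (bs_mem j) (bs_mem k) (bs_injective.ne hjk)
    (ne_neg_of_nonneg (bs_root j) (bs_nonneg j) (bs_nonneg k)) (not_le.1 h0)
  rcases (Λ.root _ h1).pos_or_neg with h3 | h3
  · exact j.2.2 _ _ ⟨h1, h3⟩ k.2.1 (sub_add_cancel _ _).symm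
  · refine k.2.2 _ _ ⟨Λ.neg _ h1, neg_nonneg.2 h3⟩ j.2.1 ?_
    show bs Λ k = -(bs Λ j - bs Λ k) + bs Λ j
    abel

theorem exists_coeff {a : I → ℤ} (ha : PosL Λ a) : ∃ c : Smp Λ → ℤ, 0 ≤ c ∧ iota (bs Λ) c = a := by
  have key : ∀ m : ℕ, ∀ a, PosL Λ a → ht a ≤ m → ∃ c : Smp Λ → ℤ, 0 ≤ c ∧ iota (bs Λ) c = a := by
    intro m
    induction m with
    | zero => exact fun a ha h0 => absurd (RGD.ht_pos (Λ.root _ ha.1) ha.2) (by omega)
    | succ m ih =>
      intro a ha hm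
      by_cases hi : Ind Λ a
      · exact ⟨sr ⟨a, hi⟩, sr_nonneg _, iota_sr _ _⟩
      · have : ∃ b c, PosL Λ b ∧ PosL Λ c ∧ a = b + c := by
          by_contra hcon
          exact hi ⟨ha, fun b c hb hc e => hcon ⟨b, c, hb, hc, e⟩⟩
        obtain ⟨b, c, hb, hc, rfl⟩ := this
        rw [RGD.ht_add] at hm
        have h1 := RGD.ht_pos (Λ.root _ hb.1) hb.2
        have h2 := RGD.ht_pos (Λ.root _ hc.1) hc.2
        obtain ⟨d, hd, rfl⟩ := ih b hb (by omega)
        obtain ⟨d', hd', rfl⟩ := ih c hc (by omega)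
        exact ⟨d + d', add_nonneg hd hd', map_add _ _ _⟩
  exact key (ht a).toNat a ha (Int.self_le_toNat _)

theorem eq_zero_of_nonneg {c : Smp Λ → ℤ} (hc : 0 ≤ c) (h0 : iota (bs Λ) c = 0) : c = 0 := by
  have h1 := congrArg htHom h0
  rw [iota_apply, map_sum, map_zero, Finset.sum_eq_zero_iff_of_nonneg] at h1
  · funext j
    have h2 := h1 j (Finset.mem_univ j)
    rw [map_zsmul, smul_eq_mul, mul_eq_zero] at h2
    exact h2.resolve_right (ht_ne_zero (bs_root j))
  · intro j _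
    rw [map_zsmul, smul_eq_mul]
    exact mul_nonneg (hc j) (RGD.ht_pos (bs_root j) (bs_nonneg j)).le

theorem indep (c : Smp Λ → ℤ) (h0 : iota (bs Λ) c = 0) : c = 0 := by
  have := Fintype.ofFinite W
  have h1 : iota (bs Λ) c⁺ = iota (bs Λ) c⁻ := by
    rw [← sub_eq_zero, ← map_sub, posPart_sub_negPart, h0]
  have h2 : form cs h (iota (bs Λ) c⁺) (iota (bs Λ) c⁻) ≤ 0 := by
    let f : (I → ℤ) → (I → ℤ) →+ ℤ := fun v => AddMonoidHom.mk' (form cs h v) (form_add_right cs h v)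
    have hf : ∀ v x, form cs h v x = f v x := fun _ _ => rfl
    rw [iota_apply _ c⁻, hf, map_sum]
    refine Finset.sum_nonpos fun k _ => ?_
    rw [map_zsmul, ← hf, form_comm, iota_apply, hf, map_sum, Finset.smul_sum]
    refine Finset.sum_nonpos fun j _ => ?_
    rw [map_zsmul, ← hf, smul_eq_mul, smul_eq_mul, ← mul_assoc]
    by_cases hjk : k = j
    · subst hjk
      have : c⁻ k * c⁺ k = 0 := by
        show (c k)⁻ * (c k)⁺ = 0
        rcases le_total 0 (c k) with h3 | h3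
        · rw [negPart_eq_zero.2 h3, zero_mul]
        · rw [posPart_eq_zero.2 h3, mul_zero]
      rw [this, zero_mul]
    · refine mul_nonpos_of_nonneg_of_nonpos (mul_nonneg (negPart_nonneg c k) (posPart_nonneg c j)) ?_
      rw [← not_lt, ← cpr_pos_iff _ _ _ (bs_root j), not_lt]
      exact cpr_nonpos hjk
  have h3 : iota (bs Λ) c⁻ = 0 := by
    by_contra h4
    rw [h1] at h2
    exact absurd (form_pos cs h h4) (not_lt.2 h2)
  rw [← posPart_sub_negPart c, eq_zero_of_nonneg (negPart_nonneg c) h3,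
    eq_zero_of_nonneg (posPart_nonneg c) (h1.trans h3), sub_zero]

variable (Λ)

/-- the Cartan matrix of the base -/
noncomputable def car (j k : Smp Λ) : ℤ := cpr cs h (bs Λ k) (bs Λ j)

/-- the Coxeter matrix of the base -/
noncomputable def cox : CoxeterMatrix (Smp Λ) where
  M := Matrix.of fun j k => if j = k then 1 else lab (car Λ j k * car Λ k j)
  isSymm := by
    ext j k
    rw [Matrix.transpose_apply, Matrix.of_apply, Matrix.of_apply, mul_comm]
    exact if_congr eq_comm rfl rfl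
  diagonal j := by rw [Matrix.of_apply, if_pos rfl]
  off_diagonal j k hjk := by
    rw [Matrix.of_apply, if_neg hjk, lab]
    split_ifs <;> decide

theorem isCartan : IsCartan (cox Λ) (car Λ) where
  diag j := cpr_self cs h (bs_root j)
  rel j k hjk := by
    have h1 : car Λ j k ≤ 0 := cpr_nonpos (Ne.symm hjk)
    have h2 : car Λ k j ≤ 0 := cpr_nonpos hjk
    have h3 : car Λ k j * car Λ j k < 4 := cpr_mul_lt (bs_root j) (bs_root k) (bs_injective.ne hjk)
      (ne_neg_of_nonneg (bs_root j) (bs_nonneg j) (bs_nonneg k))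
    have h4 : car Λ k j = 0 ↔ car Λ j k = 0 := cpr_zero_comm cs h (bs_root j) (bs_root k)
    have h5 : cox Λ j k = lab (car Λ j k * car Λ k j) := if_neg hjk
    rw [h5]
    generalize car Λ j k = a at *
    generalize car Λ k j = b at *
    by_cases ha : a = 0
    · have hb := h4.2 ha
      subst ha hb
      decide
    · have hb : b ≠ 0 := fun hb => ha (h4.1 hb)
      have ha' : -4 < a := by nlinarith [lt_of_le_of_ne h2 hb]
      have hb' : -4 < b := by nlinarith [lt_of_le_of_ne h1 ha]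
      interval_cases a <;> interval_cases b <;> first | decide | omega

/-- the Weyl group element carrying a simple root to `bs j` -/
noncomputable def bw (j : Smp Λ) : W := (bs_root j).choose

/-- the simple root conjugate to `bs j` -/
noncomputable def bi (j : Smp Λ) : I := (bs_root j).choose_spec.choose

theorem bs_eq (j : Smp Λ) : bs Λ j = rep cs h (bw Λ j) (sr (bi Λ j)) :=
  (bs_root j).choose_spec.choose_spec

theorem subSys : SubSys cs h (car Λ) (bs Λ) (bw Λ) (bi Λ) where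
  eq := bs_eq Λ
  cartan j k := by rw [← cpr_rep_sr, ← bs_eq]; rfl
  indep := indep

/-- the Coxeter system of the base -/
noncomputable abbrev sys : CoxeterSystem (cox Λ) (cox Λ).Group := (cox Λ).toCoxeterSystem

theorem finite_group : Finite (cox Λ).Group := (subSys Λ).finite (sys Λ) (isCartan Λ)

variable {Λ}

theorem exists_iota {a : I → ℤ} (ha : a ∈ Λ.s) : ∃ c : Smp Λ → ℤ, (0 ≤ c ∨ c ≤ 0) ∧ iota (bs Λ) c = a := by
  rcases (Λ.root a ha).pos_or_neg with h0 | h0
  · obtain ⟨c, h1, h2⟩ := exists_coeff ⟨ha, h0⟩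
    exact ⟨c, Or.inl h1, h2⟩
  · obtain ⟨c, h1, h2⟩ := exists_coeff ⟨Λ.neg a ha, neg_nonneg.2 h0⟩
    exact ⟨-c, Or.inr (neg_nonpos.2 h1), by rw [map_neg, h2, neg_neg]⟩

theorem hbase (c : Smp Λ → ℤ) (hc : iota (bs Λ) c ∈ Λ.s) : 0 ≤ c ∨ c ≤ 0 := by
  obtain ⟨d, h1, h2⟩ := exists_iota hc
  rwa [(subSys Λ).iota_injective h2] at h1

theorem simple_mem (j : Smp Λ) {c : Smp Λ → ℤ} (hc : iota (bs Λ) c ∈ Λ.s) :
    iota (bs Λ) (rep (sys Λ) (isCartan Λ) ((sys Λ).simple j) c) ∈ Λ.s := by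
  rw [← (subSys Λ).rep_simple_iota (sys Λ) (isCartan Λ), rep_rfl'_eq, ← bs_eq]
  exact Λ.rc _ (bs_mem j) _ hc

theorem mem_of_isRoot {c : Smp Λ → ℤ} (hc : IsRoot (sys Λ) (isCartan Λ) c) : iota (bs Λ) c ∈ Λ.s := by
  obtain ⟨v, j, rfl⟩ := hc
  induction v using (sys Λ).simple_induction_left with
  | one =>
    rw [map_one, Module.End.one_apply, iota_sr]
    exact bs_mem j
  | mul_simple_left v i ih =>
    rw [rep_mul_apply]
    exact simple_mem i ih

theorem isRoot_of_mem {c : Smp Λ → ℤ} (hc : iota (bs Λ) c ∈ Λ.s) : IsRoot (sys Λ) (isCartan Λ) c := by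
  have := Fintype.ofFinite W
  have main : ∀ N : ℕ, ∀ c : Smp Λ → ℤ, (ht c).toNat = N → 0 ≤ c → iota (bs Λ) c ∈ Λ.s →
      IsRoot (sys Λ) (isCartan Λ) c := by
    intro N
    induction N using Nat.strong_induction_on with
    | _ N ih =>
    intro c hN h0 hc
    have hform : 0 < form cs h (iota (bs Λ) c) (iota (bs Λ) c) := form_pos cs h (Λ.root _ hc).ne_zero
    have hsum : form cs h (iota (bs Λ) c) (iota (bs Λ) c) = ∑ j, c j * form cs h (iota (bs Λ) c) (bs Λ j) := by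
      conv_lhs => rhs; rw [iota_apply]
      exact (map_sum (AddMonoidHom.mk' (form cs h _) (form_add_right cs h _)) _ _).trans
        (Finset.sum_congr rfl fun j _ => form_smul_right cs h _ _ _)
    rw [hsum] at hform
    obtain ⟨j, -, hj⟩ := Finset.exists_lt_of_sum_lt (f := fun _ => (0 : ℤ)) (by simpa using hform)
    have hcj : 0 < c j := by
      by_contra hcon
      have h1 : c j = 0 := le_antisymm (not_lt.1 hcon) (h0 j)
      rw [h1, zero_mul] at hj
      exact lt_irrefl _ hj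
    have hfj : 0 < form cs h (iota (bs Λ) c) (bs Λ j) := by
      by_contra hcon
      exact absurd hj (not_lt.2 (mul_nonpos_of_nonneg_of_nonpos hcj.le (not_lt.1 hcon)))
    have hp : 0 < pairing (car Λ) j c := by
      rw [← (subSys Λ).fn_iota, fn_apply, ← cpr_rep_sr, ← bs_eq, cpr_pos_iff _ _ _ (bs_root j)]
      exact hfj
    by_cases hk : ∀ k, k ≠ j → c k = 0
    · have hcs : c = c j • sr j := by
        funext k
        by_cases hkj : k = j
        · subst hkj; rw [Pi.smul_apply, sr_self, smul_eq_mul, mul_one]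
        · rw [Pi.smul_apply, sr_ne hkj, smul_zero, hk k hkj]
      have h1 : iota (bs Λ) c = c j • bs Λ j := by
        conv_lhs => rw [hcs]
        rw [map_smul, iota_sr]
      have h2 := isUnit_of_smul cs h (Λ.root _ hc) _ h1
      rcases Int.isUnit_iff.1 h2 with h3 | h3
      · rw [hcs, h3, one_smul]; exact isRoot_sr _ _ j
      · omega
    · push Not at hk
      obtain ⟨k, hkj, hk0⟩ := hk
      have hroot := simple_mem j hc
      set c' : Smp Λ → ℤ := rep (sys Λ) (isCartan Λ) ((sys Λ).simple j) c with hc'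
      have hc'k : c' k = c k := by rw [hc', rep_simple_apply _ _ j c k hkj]
      have h0' : 0 ≤ c' := (hbase c' hroot).resolve_right fun h1 => hk0 (le_antisymm (hc'k ▸ h1 k) (h0 k))
      have hht : ht c' = ht c - pairing (car Λ) j c := by rw [hc', ht_simple]
      have hpos : 0 ≤ ht c' := Finset.sum_nonneg fun m _ => h0' m
      have hr := ih (ht c').toNat (by omega) c' rfl h0' hroot
      have h1 : c = rep (sys Λ) (isCartan Λ) ((sys Λ).simple j) c' := by
        rw [hc', ← rep_mul_apply, simple_mul_simple_self, map_one, Module.End.one_apply]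
      rw [h1]
      exact hr.act _
  rcases hbase c hc with h0 | h0
  · exact main _ c rfl h0 hc
  · have h1 := (main _ (-c) rfl (neg_nonneg.2 h0) (by rw [map_neg]; exact Λ.neg _ hc)).neg
    rwa [neg_neg] at h1

theorem exists_root {a : I → ℤ} (ha : a ∈ Λ.s) : ∃ c, IsRoot (sys Λ) (isCartan Λ) c ∧ iota (bs Λ) c = a := by
  obtain ⟨c, -, rfl⟩ := exists_iota ha
  exact ⟨c, isRoot_of_mem ha, rfl⟩

theorem iota_roots : iota (bs Λ) '' {c | IsRoot (sys Λ) (isCartan Λ) c} = Λ.s :=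
  Set.ext fun _ => ⟨fun ⟨_, hc, e⟩ => e ▸ mem_of_isRoot hc, exists_root⟩

theorem zclosed (a b : I → ℤ) : ZClosed cs h {z | ZB cs h a b z} := by
  refine ⟨fun _ hx => hx.1, ?_⟩
  rintro _ ⟨-, i, j, hi, hj, rfl⟩ _ ⟨-, i', j', hi', hj', rfl⟩ z ⟨hz, m, n, hm, hn, rfl⟩
  exact ⟨hz, m * i + n * i', m * j + n * j', by positivity, by positivity, by module⟩

theorem le_normalizer {Y : Type} [Group Y] {X : (I → ℤ) → Subgroup Y} (hZ : CommZ cs h X) {x : I → ℤ} {S : Set (I → ℤ)}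
    (hx : IsRoot cs h x) (hS : ∀ y ∈ S, IsRoot cs h y ∧ x ≠ y ∧ x ≠ -y ∧ ∀ z, ZB cs h x y z → z ∈ S) :
    X x ≤ Subgroup.normalizer (RGD.Sup X S : Set Y) := by
  have key : ∀ a ∈ X x, cj a (RGD.Sup X S) ≤ RGD.Sup X S := by
    intro a ha
    rw [RGD.cj_Sup]
    refine iSup_le ?_
    rintro ⟨y, hy⟩ b hb
    obtain ⟨hyr, hxy, hxy', hz⟩ := hS y hy
    rw [mem_cj] at hb
    have h2 : b = ⁅a, a⁻¹ * b * a⁆ * (a⁻¹ * b * a) := by
      rw [commutatorElement_def]; group
    rw [h2]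
    exact mul_mem (RGD.Sup_mono (S := {z | ZB cs h x y z}) (S' := S) hz (hZ x y hx hyr hxy hxy' a ha _ hb))
      (RGD.le_Sup hy hb)
  intro a ha
  rw [mem_normalizer_iff_cj]
  apply le_antisymm (key a ha)
  have h2 := cj_mono a (key a⁻¹ (inv_mem ha))
  rwa [cj_cj_inv] at h2

end Base

open Cfsg.Agent.DL Cfsg.Agent.Nodes.Bruhat Cfsg.Agent.Nodes.OppDec

variable {p : ℕ} [Fact p.Prime] {k : Type} [Field k] [CharP k p] {Y : Type} [Group Y] {N : Type} [Fintype N]
  [DecidableEq N] {ρ : Y →* GL N k} {F : MulAut Y} {G : Subgroup Y} (D : Datum p ρ F G)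

attribute [local instance] fintypeSmp decSmp

/-- ordered products for integrally closed sets -/
theorem exists_lp (hZ : CommZ D.cs D.h D.X) (lam : (D.I → ℤ) →+ ℤ) : ∀ {L : List (D.I → ℤ)}, Conv L →
    (∀ a ∈ L, D.Rt a ∧ 0 < lam a) → ∀ {S : Set (D.I → ℤ)}, ZClosed D.cs D.h S → (∀ a ∈ S, a ∈ L) → ∀ {u : Y}, u ∈ D.S S →
      ∃ c : (D.I → ℤ) → k, (∀ a, a ∉ S → c a = 0) ∧ u = D.lp L c := by
  intro L
  induction L with
  | nil =>
    intro _ _ S _ hS u hu
    have : S = ∅ := Set.eq_empty_of_forall_notMem fun a ha => by simpa using hS a ha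
    rw [this, Datum.S, Sup_empty, Subgroup.mem_bot] at hu
    exact ⟨0, fun _ _ => rfl, hu⟩
  | cons r L ih =>
    classical
    rintro ⟨⟨f, hf0, hf⟩, hL⟩ hr S hcl hS u hu
    have hr0 := hr r List.mem_cons_self
    have hr' : ∀ a ∈ L, D.Rt a ∧ 0 < lam a := fun a ha => hr a (List.mem_cons_of_mem _ ha)
    have hrL : r ∉ L := fun h => (hf r h).ne' hf0
    have h1 : ∀ a ∈ {x | x ∈ S ∧ 0 < f x}, a ∈ L := fun a ha =>
      (List.mem_cons.1 (hS a ha.1)).resolve_left fun e => ha.2.ne' (e ▸ hf0)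
    by_cases hrS : r ∈ S
    · have h2 : D.X r ≤ Subgroup.normalizer (D.S {x | x ∈ S ∧ 0 < f x} : Set Y) :=
        le_normalizer hZ hr0.1 fun y hy => ⟨hcl.root y hy.1, fun e => hrL (e ▸ h1 y hy), fun e => by
          have k1 := hr0.2
          have k2 := (hr' y (h1 y hy)).2
          rw [e, map_neg] at k1
          omega, fun z hz => ⟨hcl.btw r hrS y hy.1 z hz, hz.symm.pos f hy.2 hf0.ge⟩⟩
      have h3 : D.S S ≤ D.X r ⊔ D.S {x | x ∈ S ∧ 0 < f x} := RGD.Sup_le fun z hz => by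
        rcases List.mem_cons.1 (hS z hz) with rfl | e
        · exact le_sup_left
        · exact le_sup_of_le_right (RGD.le_Sup (S := {x | x ∈ S ∧ 0 < f x}) ⟨hz, hf z e⟩)
      obtain ⟨v, hv, u', hu', rfl⟩ := (Subgroup.coe_mul_of_left_le_normalizer_right _ _ h2).subset (h3 hu)
      obtain ⟨c, hc0, rfl⟩ := ih hL hr' (hcl.pos f) h1 hu'
      obtain ⟨t, rfl⟩ := (D.mem_X r hr0.1 _).1 hv
      refine ⟨Function.update c r t, fun x hx => ?_, ?_⟩
      · rw [Function.update_of_ne (fun h : x = r => hx (h ▸ hrS))]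
        exact hc0 x fun h => hx h.1
      · rw [D.lp_cons, Function.update_self]
        exact congrArg _ (D.lp_congr fun x hx => (Function.update_of_ne (fun h : x = r => hrL (h ▸ hx)) _ _).symm)
    · obtain ⟨c, hc0, rfl⟩ := ih hL hr' hcl (fun a ha => (List.mem_cons.1 (hS a ha)).resolve_left fun e => hrS (e ▸ ha)) hu
      exact ⟨c, hc0, by rw [D.lp_cons, hc0 r hrS, D.x_zero hr0.1, one_mul]⟩

/-- the integral commutator relations at the finite levels -/
theorem commZ_lev (hZ : CommZ D.cs D.h D.X) {d e : ℕ} (H : D.Split d e) : CommZ D.cs D.h (D.Xe e) := by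
  intro a b ha hb h1 h2 u hu v hv
  obtain ⟨lam, k1, k2⟩ := DL.Base.exists_pos_pair ha hb h1 h2
  have k3 : ∀ z ∈ {z | ZB D.cs D.h a b z}, 0 < lam z := fun z hz => ZB.pos hz lam k1 k2.le
  obtain ⟨L, hL, k4⟩ := exists_conv (cs := D.cs) (h := D.h) (fun z hz => (zclosed a b).root z hz) lam k3
  have k5 : ∀ z ∈ L, D.Rt z ∧ 0 < lam z := fun z hz => ⟨((k4 z).1 hz).1, k3 z ((k4 z).1 hz)⟩
  obtain ⟨c, -, e1⟩ := exists_lp D hZ lam hL k5 (zclosed a b) (fun z hz => (k4 z).2 hz) (hZ a b ha hb h1 h2 u hu.1 v hv.1)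
  have k6 : ⁅u, v⁆ ∈ fix (F ^ d) := by
    rw [H.fix_eq]
    have k7 : u ∈ lev p ρ e := hu.2
    have k8 : v ∈ lev p ρ e := hv.2
    exact mul_mem (mul_mem (mul_mem k7 k8) (inv_mem k7)) (inv_mem k8)
  rw [e1, mem_fix, H.lp fun z hz => (k5 z hz).1] at k6
  rw [e1]
  exact D.lp_mem (fun z hz => (k5 z hz).1) fun z hz _ => RGD.le_Sup (X := D.Xe e) ((k4 z).1 hz)
    ⟨D.x_mem (k5 z hz).1 _, (H.x_mem_lev (k5 z hz).1).2 (D.lp_inj lam hL k5 k6 z hz)⟩

variable [IsAlgClosed k] {D} (Λ : Rs D.cs D.h)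

/-- representatives -/
noncomputable def br (j : Smp Λ) : Y := (D.exists_rp (bw Λ j)).choose

theorem br_spec (j : Smp Λ) : D.Rp (bw Λ j) (br Λ j) ∧ br Λ j ∈ Subgroup.closure (Set.range D.n) :=
  (D.exists_rp (bw Λ j)).choose_spec

theorem rp_bn (j : Smp Λ) : D.Rp (D.rf (bs Λ j)) (br Λ j * D.n (bi Λ j) * (br Λ j)⁻¹) := by
  rw [bs_eq, D.rf_act]
  exact ((br_spec Λ j).1.mul (rp_simple _ _ _)).mul (br_spec Λ j).1.inv

theorem Sup_io (A : Set (Smp Λ → ℤ)) : RGD.Sup (fun c => D.X (iota (bs Λ) c)) A = D.S (iota (bs Λ) '' A) := by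
  apply le_antisymm
  · exact RGD.Sup_le fun a ha => RGD.le_Sup (S := iota (bs Λ) '' A) ⟨a, ha, rfl⟩
  · refine RGD.Sup_le ?_
    rintro _ ⟨a, ha, rfl⟩
    exact RGD.le_Sup (X := fun c => D.X (iota (bs Λ) c)) ha

/-- the commutators stay inside -/
def Cm : Prop := ∀ a ∈ Λ.s, ∀ b ∈ Λ.s, a ≠ b → a ≠ -b →
  (∀ u ∈ D.X a, ∀ v ∈ D.X b, u * v = v * u) ∨ ∀ z, ZB D.cs D.h a b z → z ∈ Λ.s

variable {Λ}

theorem rgd (hZ : CommZ D.cs D.h D.X) (hc : Cm Λ) {d e : ℕ} (H : D.Split d e) :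
    RGD (sys Λ) (isCartan Λ) p (D.Te e) (fun j => br Λ j * D.n (bi Λ j) * (br Λ j)⁻¹)
      (fun c => D.X (iota (bs Λ) c) ⊓ lev p ρ e) := by
  refine Nodes.Sub.rgd_sub (cs' := sys Λ) (h' := isCartan Λ) H.rgd (subSys Λ) (fun c c' hc1 hc2 h1 h2 u hu v hv => ?_)
    (g := br Λ) fun j => D.rp_lev H.e_pos H.dvd (br_spec Λ j).1 (H.fix_eq ▸ H.closure_n_le (br_spec Λ j).2)
  have ha := mem_of_isRoot hc1
  have hb := mem_of_isRoot hc2
  have h1' := (subSys Λ).iota_injective.ne h1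
  have h2' : iota (bs Λ) c ≠ -iota (bs Λ) c' := by rw [← map_neg]; exact (subSys Λ).iota_injective.ne h2
  rcases hc _ ha _ hb h1' h2' with k | k
  · rw [commutatorElement_eq_one_iff_mul_comm.2 (k u hu.1 v hv.1)]
    exact one_mem _
  · refine (RGD.Sup_le fun z hz => ?_ : RGD.Sup (D.Xe e) _ ≤ _)
      (commZ_lev D hZ H _ _ (Λ.root _ ha) (Λ.root _ hb) h1' h2' u hu v hv)
    obtain ⟨b, hb, rfl⟩ := exists_root (k z hz)
    obtain ⟨-, i, j, hi, hj, e1⟩ := hz
    rw [← map_zsmul, ← map_zsmul, ← map_add] at e1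
    exact le_btw (X := fun c => D.Xe e (iota (bs Λ) c)) hb hi hj ((subSys Λ).iota_injective e1)

theorem io_invFun (hF : ∀ a ∈ Λ.s, D.g a ∈ Λ.s) {c : Smp Λ → ℤ} (hc : IsRoot (sys Λ) (isCartan Λ) c) :
    iota (bs Λ) (Function.invFun (iota (bs Λ)) (D.g (iota (bs Λ) c))) = D.g (iota (bs Λ) c) := by
  obtain ⟨b, -, hb⟩ := exists_root (hF _ (mem_of_isRoot hc))
  exact Function.invFun_eq ⟨b, hb⟩

/-- **the datum of the subsystem subgroup** -/
@[reducible] noncomputable def sub (hZ : CommZ D.cs D.h D.X) (hc : Cm Λ) (hF : ∀ a ∈ Λ.s, D.g a ∈ Λ.s) :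
    Datum p ρ F (D.T ⊔ D.S Λ.s) where
  amb := D.amb
  I := Smp Λ
  W := (cox Λ).Group
  fW := finite_group Λ
  M := cox Λ
  cs := sys Λ
  A := car Λ
  h := isCartan Λ
  R := D.R
  τ := D.τ
  τ_inj := D.τ_inj
  T := D.T
  mem_T := D.mem_T
  X c := D.X (iota (bs Λ) c)
  x c := D.x (iota (bs Λ) c)
  mem_X c hc := D.mem_X _ (Λ.root _ (mem_of_isRoot hc))
  x_inj c hc := D.x_inj _ (Λ.root _ (mem_of_isRoot hc))
  x_add c hc := D.x_add _ (Λ.root _ (mem_of_isRoot hc))
  n j := br Λ j * D.n (bi Λ j) * (br Λ j)⁻¹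
  wt := D.wt.comp (iota (bs Λ)).toAddMonoidHom
  cw j := D.cor (bs Λ j)
  pair j c := by
    refine (D.pair_cor (bs_root j) _).trans ?_
    rw [← (subSys Λ).fn_iota, fn_apply, ← cpr_rep_sr, ← bs_eq]
    rfl
  tor c hc := D.tor _ (Λ.root _ (mem_of_isRoot hc))
  refl j c := by
    rw [D.conj_τ_rf (bs_root j) (rp_bn Λ j)]
    show _ = D.τ (c * (coch _ (chr (D.wt (iota (bs Λ) (sr j))) c))⁻¹)
    rw [iota_sr]
  rgd := by
    obtain ⟨d, e, H⟩ := D.exists_split'
    exact ⟨e, H.e_pos, fun m hm => rgd hZ hc (H.mul hm)⟩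
  G_eq := by rw [GG, Sup_io, iota_roots]
  polyx c hc := D.polyx _ (Λ.root _ (mem_of_isRoot hc))
  diag := D.diag
  g c := Function.invFun (iota (bs Λ)) (D.g (iota (bs Λ) c))
  ex c := D.ex (iota (bs Λ) c)
  g_root c hc := isRoot_of_mem (by
    rw [io_invFun hF hc]
    exact hF _ (mem_of_isRoot hc))
  F_x c hc := by
    rw [io_invFun hF hc]
    exact D.F_x _ (Λ.root _ (mem_of_isRoot hc))
  Mx := D.Mx
  F_τ := D.F_τ

theorem ncard_sub (hZ : CommZ D.cs D.h D.X) (hc : Cm Λ) (hF : ∀ a ∈ Λ.s, D.g a ∈ Λ.s) :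
    {a | (sub hZ hc hF).Rt a}.ncard = Λ.s.ncard :=
  (Set.ncard_image_of_injective _ (subSys Λ).iota_injective).symm.trans (congrArg Set.ncard iota_roots)

end Cfsg.Agent.N2.Ex.Al.Sb
end

-- part: N2/Sp4T/Geo
section
set_option linter.all false
open scoped Cfsg.Agent.FastGrp

/-!
# S3519, the large sporadic groups: the order of a 2-local subgroup is divisible by seven (helper82)

The proofs of `SB/SporB/Geo` with `7 ∣ |H|` in place of "`H` is not solvable".
-/

set_option autoImplicit false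
set_option linter.unusedSectionVars false

namespace Cfsg.Agent.N2.Sp4T

open Subgroup Cfsg Cfsg.Agent.Co2Type.Quad Cfsg.Agent.SB.SporB
open Cfsg.Agent.H251 (omegaCenterOf_ne_bot mem_omegaCenterOf pCoreOf_isPGroup le_pCoreOf le_normalizer_pCoreOf
  normalizer_le_normalizer_omegaCenterOf pCoreOf_le)
open Cfsg.Agent.R2.M7 Cfsg.Agent.R2.M7.Geo Cfsg.Agent.R2.M7.Elem Cfsg.Agent.R2.M7.Ark

variable {G : Type*} [Group G]

/-- the order is prime to seven -/
def N7 (H : Subgroup G) : Prop := ¬ 7 ∣ Nat.card H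

/-- the matrix of the product of three transvections -/
def m7 (a : ZMod 2 × ZMod 2 × ZMod 2) : ZMod 2 × ZMod 2 × ZMod 2 :=
  (a.1 + (a.2.1 + (a.2.2 + a.1)), a.2.1 + (a.2.2 + a.1), a.2.2 + a.1)

theorem m7_seven : ∀ a, m7^[7] a = a := by decide

theorem m7_ne : ∀ k < 7, m7^[k] (1, 0, 0) = (1, 0, 0) → k = 0 := by decide

theorem seven_basis [Finite G] {H V : Subgroup G} (hc : ∀ a ∈ V, ∀ b ∈ V, a * b = b * a) (hs : ∀ a ∈ V, a * a = 1)
    (e : Fin 3 → G) (he : ∀ i, e i ∈ V) (φ : Fin 3 → G → ZMod 2)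
    (hφ : ∀ i, ∀ a ∈ V, ∀ b ∈ V, φ i (a * b) = φ i a + φ i b) (hd : ∀ i j, φ i (e j) = if i = j then 1 else 0)
    (hτ : ∀ i j, i ≠ j → ∃ g ∈ H, ∀ v ∈ V, g * v * g⁻¹ = v * zp (e i) (φ j v)) : ¬ N7 H := by
  have hφ1 : ∀ i, φ i 1 = 0 := fun i => by
    have := hφ i 1 V.one_mem 1 V.one_mem
    rw [mul_one] at this
    simpa using this
  have hzV : ∀ i a, zp (e i) a ∈ V := fun i a => by
    rcases SB.SporB.two_cases a with rfl | rfl
    · rw [zp_zero]; exact V.one_mem
    · rw [zp_one]; exact he i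
  have hφz : ∀ i j a, φ i (zp (e j) a) = if i = j then a else 0 := fun i j a => by
    rcases SB.SporB.two_cases a with rfl | rfl
    · rw [zp_zero, hφ1, ite_self]
    · rw [zp_one, hd]
  let c : G → ZMod 2 × ZMod 2 × ZMod 2 := fun v => (φ 0 v, φ 1 v, φ 2 v)
  obtain ⟨g₁, m₁, h₁⟩ := hτ 0 1 (by decide)
  obtain ⟨g₂, m₂, h₂⟩ := hτ 1 2 (by decide)
  obtain ⟨g₃, m₃, h₃⟩ := hτ 2 0 (by decide)
  have step : ∀ v ∈ V, g₁ * g₂ * g₃ * v * (g₁ * g₂ * g₃)⁻¹ ∈ V ∧ c (g₁ * g₂ * g₃ * v * (g₁ * g₂ * g₃)⁻¹) = m7 (c v) := by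
    intro v hv
    have e0 : g₁ * g₂ * g₃ * v * (g₁ * g₂ * g₃)⁻¹ = g₁ * (g₂ * (g₃ * v * g₃⁻¹) * g₂⁻¹) * g₁⁻¹ := by group
    have hz : ∀ i j a, ∀ w ∈ V, φ i (w * zp (e j) a) = φ i w + if i = j then a else 0 := fun i j a w hw => by
      rw [hφ i w hw _ (hzV _ _), hφz]
    have k3 := mul_mem hv (hzV 2 (φ 0 v))
    have k2 := mul_mem k3 (hzV 1 (φ 2 (v * zp (e 2) (φ 0 v))))
    rw [e0, h₃ v hv, h₂ _ k3, h₁ _ k2]
    refine ⟨mul_mem k2 (hzV _ _), ?_⟩
    simp only [c, m7]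
    rw [hz 0 0 _ _ k2, hz 1 0 _ _ k2, hz 2 0 _ _ k2, hz 0 1 _ _ k3, hz 1 1 _ _ k3, hz 2 1 _ _ k3, hz 0 2 _ _ hv,
      hz 1 2 _ _ hv, hz 2 2 _ _ hv]
    simp
  have iter : ∀ k, ∀ v ∈ V, (g₁ * g₂ * g₃) ^ k * v * ((g₁ * g₂ * g₃) ^ k)⁻¹ ∈ V ∧
      c ((g₁ * g₂ * g₃) ^ k * v * ((g₁ * g₂ * g₃) ^ k)⁻¹) = m7^[k] (c v) := by
    intro k
    induction k with
    | zero => intro v hv; simpa using hv
    | succ k ih =>
      intro v hv
      have e0 : (g₁ * g₂ * g₃) ^ (k + 1) * v * ((g₁ * g₂ * g₃) ^ (k + 1))⁻¹ =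
          g₁ * g₂ * g₃ * ((g₁ * g₂ * g₃) ^ k * v * ((g₁ * g₂ * g₃) ^ k)⁻¹) * (g₁ * g₂ * g₃)⁻¹ := by
        rw [pow_succ', mul_inv_rev]; simp only [mul_assoc]
      rw [e0, Function.iterate_succ_apply', ← (ih v hv).2]
      exact step _ (ih v hv).1
  intro h7
  have hg : (g₁ * g₂ * g₃) ^ Nat.card H = 1 :=
    congrArg Subtype.val (pow_card_eq_one' (x := (⟨_, mul_mem (mul_mem m₁ m₂) m₃⟩ : H)))
  have h1 := (iter (Nat.card H) (e 0) (he 0)).2
  have h2 : c (e 0) = (1, 0, 0) := by simp [c, hd]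
  rw [hg, one_mul, inv_one, mul_one, h2, ← Nat.mod_add_div (Nat.card H) 7, Function.iterate_add_apply,
    Function.iterate_mul, Function.iterate_fixed (m7_seven _)] at h1
  exact h7 (Nat.dvd_of_mod_eq_zero (m7_ne _ (Nat.mod_lt _ (by norm_num)) h1.symm))

/-- **Full groups of transvections on `V / L` of rank at least three.** -/
theorem seven_of_transv [Finite G] {H V L : Subgroup G} (hc : ∀ a ∈ V, ∀ b ∈ V, a * b = b * a)
    (hs : ∀ a ∈ V, a * a = 1) (hL : L ≤ V) (hcard : 8 * Nat.card L ≤ Nat.card V)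
    (h : ∀ u ∈ V, u ∉ L → ∃ D : Subgroup G, (∀ d ∈ D, (∀ l ∈ L, d * l = l * d) → d ∈ H) ∧
      (∀ d ∈ D, ∀ v ∈ V, d * v * d⁻¹ = v ∨ d * v * d⁻¹ = v * u) ∧ (∀ d ∈ D, d * u = u * d) ∧
      ∀ v ∈ V, (∀ d ∈ D, d * v = v * d) → v = 1 ∨ v = u) : ¬ N7 H := by
  let _ : CommGroup V := { (inferInstance : Group V) with mul_comm := fun a b => Subtype.ext (hc a a.2 b b.2) }
  let _ : Module (ZMod 2) (Additive V) := AddCommGroup.zmodModule (n := 2) (fun x => by
    rw [two_nsmul]; exact Subtype.ext (hs _ x.toMul.2))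
  let W : Submodule (ZMod 2) (Additive V) := AddSubgroup.toZModSubmodule 2 (L.subgroupOf V).toAddSubgroup
  have hW : Nat.card W = Nat.card L := Nat.card_congr (subgroupOfEquivOfLe hL).toEquiv
  obtain ⟨e, φ, hd, hφW⟩ := exists_dual_three W (by rw [hW]; exact hcard)
  classical
  let ψ : Fin 3 → G → ZMod 2 := fun i g => if hg : g ∈ V then φ i (Additive.ofMul ⟨g, hg⟩) else 0
  have hψ : ∀ i g (hg : g ∈ V), ψ i g = φ i (Additive.ofMul ⟨g, hg⟩) := fun i g hg => dif_pos hg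
  have hψm : ∀ i, ∀ a ∈ V, ∀ b ∈ V, ψ i (a * b) = ψ i a + ψ i b := fun i a ha b hb => by
    rw [hψ i _ (mul_mem ha hb), hψ i _ ha, hψ i _ hb, ← map_add]; rfl
  have hψe : ∀ i j, ψ i ((e j).toMul : V) = if i = j then 1 else 0 := fun i j => by
    rw [hψ i _ (e j).toMul.2]; exact hd i j
  have hψL : ∀ i, ∀ l ∈ L, ψ i l = 0 := fun i l hl => by
    rw [hψ i _ (hL hl)]; exact hφW i _ hl
  refine seven_basis hc hs (fun i => ((e i).toMul : V)) (fun i => (e i).toMul.2) ψ hψm hψe fun i j hij => ?_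
  have hnL : (((e i).toMul : V) : G) ∉ L := fun hl => by
    have h1 := hψe i i
    rw [hψL i _ hl, if_pos rfl] at h1
    exact zero_ne_one h1
  obtain ⟨D, h1, h2, h3, h4⟩ := h _ (e i).toMul.2 hnL
  obtain ⟨d, hd, h5⟩ := exists_transv hc hs (e i).toMul.2 (fun h => hnL (h ▸ L.one_mem)) h2 h3 (ψ j) (hψm j)
    fun v hv hv' => by
      rcases h4 v hv hv' with rfl | rfl
      · exact hψL j 1 L.one_mem
      · rw [hψe, if_neg hij.symm]
  refine ⟨d, h1 d hd fun l hl => ?_, h5⟩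
  have h6 := h5 l (hL hl)
  rw [hψL j l hl, zp_zero, mul_one] at h6
  exact mul_inv_eq_iff_eq_mul.1 h6

variable [Finite G] {Γ : Geo G}

/-- **Transvections centralising `A`.** -/
theorem NS7 (E : Ext Γ) {H V L A : Subgroup G} (hV : Γ.Sing V) (hL : L ≤ V) (hc : 8 * Nat.card L ≤ Nat.card V)
    (hA : ∀ u ∈ V, u ≠ 1 → A ≤ Γ.QQ u) (hAV : ∀ a ∈ A, a ∈ V → a = 1)
    (hH : ∀ u ∈ V, u ≠ 1 → ∀ d ∈ Γ.QQ u, (∀ a ∈ A, d * a = a * d) → (∀ l ∈ L, d * l = l * d) → d ∈ H) :
    ¬ N7 H := by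
  have B := E.F.basic
  refine seven_of_transv (sing_comm B hV) (sing_sq B hV) hL hc fun u hu huL => ?_
  have hu1 : u ≠ 1 := fun h => huL (h ▸ L.one_mem)
  have hL' := E.large u (hV.1 u hu hu1)
  refine ⟨Γ.QQ u ⊓ centralizer (A : Set G), fun d hd hl => hH u hu hu1 d hd.1 (mem_cent.1 hd.2) hl,
    fun d hd v hv => conj_Q hL' hd.1 (hV.2 u hu hu1 v hv), fun d hd => hL'.comm_z d hd.1, fun v hv h => ?_⟩
  rcases perp_perp hL' (hA u hu hu1) (hV.2 u hu hu1 v hv) (fun q hq hqa => h q ⟨hq, mem_cent.2 hqa⟩) with h1 | h1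
  · exact Or.inl (hAV v h1 hv)
  · right
    have h2 := hAV _ h1 (mul_mem hv hu)
    calc v = v * (u * u) := by rw [hL'.z_sq, mul_one]
      _ = u := by rw [← mul_assoc, h2, one_mul]

/-- `NS7` for `A = ⟨t⟩` -/
theorem NSt7 (E : Ext Γ) {H V L : Subgroup G} {t : G} (ht : IsA Γ t) (hV : Γ.Sing V) (hL : L ≤ V)
    (hc : 8 * Nat.card L ≤ Nat.card V) (hA : ∀ u ∈ V, u ≠ 1 → t ∈ Γ.QQ u)
    (hH : ∀ u ∈ V, u ≠ 1 → ∀ d ∈ Γ.QQ u, d * t = t * d → (∀ l ∈ L, d * l = l * d) → d ∈ H) : ¬ N7 H := by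
  refine NS7 E (A := zpowers t) hV hL hc (fun u hu h1 => zpowers_le.2 (hA u hu h1)) (fun a ha haV => ?_)
    fun u hu h1 d hd h2 => hH u hu h1 d hd (h2 t (mem_zpowers t))
  rcases mem_zp ht.1 ha with h | rfl
  · exact h
  · exact absurd (hV.1 a haV ht.2.1) ht.2.2

/-- the centraliser of a subgroup of an ark of order at most four without points -/
theorem arkNS7 (E : Ext Γ) {O H : Subgroup G} (hO : O ∈ Γ.Ark) {t d : G} (ht : t ∈ O) (hd : d ∈ O) (h1 : t ∉ Γ.Pt)
    (h2 : d ∉ Γ.Pt) (h3 : t * d ∉ Γ.Pt)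
    (hH : ∀ g, (∀ a ∈ O, g * a * g⁻¹ ∈ O) → g * t = t * g → g * d = d * g → g ∈ H) : ¬ N7 H := by
  have B := E.F.basic
  have A := E.F.ark
  obtain ⟨V, hVO, hV, hc⟩ := E.big O hO
  have c1 := card_allSub E hO hV hVO (t := t) fun _ _ _ => O_le_KK ht
  have hV1 := sing_le hV (allSub_le (B := B) (hV := hV) (t := t))
  have c2 := card_allSub E hO hV1 (allSub_le.trans hVO) (t := d) fun _ _ _ => O_le_KK hd
  obtain ⟨L, hLO, htL, hdL, -, hL⟩ := exists_line (A.comm O hO) (A.sq O hO) ht hd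
  refine NS7 E (A := L) (L := ⊥) (sing_le hV1 (allSub_le (B := B) (hV := hV1) (t := d))) bot_le
    (by rw [card_bot]; omega) (fun u hu hu1 a ha => ?_) (fun a ha haV => ?_) fun u hu hu1 q hq hqa _ => ?_
  · have k1 : t ∈ Γ.QQ u := hu.1.2.resolve_left hu1
    have k2 : d ∈ Γ.QQ u := hu.2.resolve_left hu1
    rcases hL a ha with rfl | rfl | rfl | rfl
    exacts [one_mem _, k1, k2, mul_mem k1 k2]
  · by_contra ha1
    have k := hV.1 a haV.1.1 ha1
    rcases hL a ha with rfl | rfl | rfl | rfl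
    exacts [ha1 rfl, h1 k, h2 k, h3 k]
  · exact hH q (E.QO O hO u (hVO hu.1.1) (hV.1 u hu.1.1 hu1) q hq) (hqa t htL) (hqa d hdL)

/-- **The centraliser of a four-group without points.** -/
theorem pairNS7 (E : Ext Γ) {H : Subgroup G} {t d : G} (ht : IsA Γ t) (hd : IsA Γ d) (htd : IsA Γ (t * d))
    (hc : t * d = d * t) (hH : ∀ g, g * t = t * g → g * d = d * g → g ∈ H) : ¬ N7 H := by
  obtain ⟨O, hO, t', ht', d', hd', k1, k2, k3⟩ := exists_pair E
  obtain ⟨g, rfl, rfl⟩ := E.pairA t' d' t d k1 k2 k3 (E.F.ark.comm O hO _ ht' _ hd') ht hd htd hc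
  exact arkNS7 E (E.F.ark.conj O hO g) (conj_mem_cj.2 ht') (conj_mem_cj.2 hd') ht.2.2 hd.2.2 htd.2.2 fun x _ => hH x

theorem singleNS7 (E : Ext Γ) {H : Subgroup G} {t : G} (ht : IsA Γ t) (hH : ∀ g, g * t = t * g → g ∈ H) :
    ¬ N7 H := by
  obtain ⟨O, hO, t', ht', d', hd', k1, -, -⟩ := exists_pair E
  obtain ⟨g, rfl⟩ := E.conjA t' t k1 ht
  refine arkNS7 E (E.F.ark.conj O hO g) (conj_mem_cj.2 ht') (conj_mem_cj.2 ht') ht.2.2 ht.2.2 ?_ fun x _ h _ => hH x h
  rw [ht.1]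
  exact fun h => E.F.basic.pt_ne 1 h rfl

/-- **The centraliser of `t` and of a line of points `u` with `t ∈ Q_u`.** -/
theorem lineNS7 (E : Ext Γ) {H : Subgroup G} {t x y : G} (ht : IsA Γ t) (hx : x ∈ Γ.Pt) (hy : y ∈ Γ.Pt)
    (hyx : y ∈ Γ.QQ x) (hne : y ≠ x) (htx : t ∈ Γ.QQ x) (hty : t ∈ Γ.QQ y)
    (hH : ∀ g, g * t = t * g → g * x = x * g → g * y = y * g → g ∈ H) : ¬ N7 H := by
  have B := E.F.basic
  have A := E.F.ark
  obtain ⟨O, hO, hxO, hyO, htC, htO⟩ := E.line4 x hx y hy hyx hne t htx hty ht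
  obtain ⟨V, h1, h2, h3, h4, h5⟩ := exists_V B A hO htO
  have hV : Γ.Sing V := ⟨fun v hv h => (h3 v hv h).1, h5⟩
  have hc : Nat.card V = 32 := by
    rw [ncard_eq V h1]
    exact A.V_card O hO x hxO hx t htC htx ht.1 htO
  obtain ⟨L, hLV, hxL, hyL, hL, -⟩ := exists_line (sing_comm B hV) (sing_sq B hV) (h4 x hxO hx (KK_of' htC htx))
    (h4 y hyO hy (KK_of' htC hty))
  refine NSt7 E ht hV hLV (by omega) (fun u hu hu1 => ?_) fun u _ _ d _ hd hl => hH d hd (hl x hxL) (hl y hyL)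
  by_contra hn
  obtain ⟨hup, huK⟩ := h3 u hu hu1
  obtain ⟨O', hO', k1, k2⟩ := exists_ark_of E ht hup (CC_comm A hO htC (h2 hu)).symm
  exact htO (A.unique O hO O' hO' u hup (h2 hu) k2 t huK (O_le_KK k1) hn ▸ k1)

/-- **The 2-local subgroups of the Monster have an order divisible by seven.** -/
theorem noM7 (E : Ext Γ) {S : Subgroup G} (hS : N7 S) (h0 : pCoreOf 2 S ≠ ⊥)
    (hN : ∀ U : Subgroup G, U ≠ ⊥ → IsPGroup 2 U → (∀ s ∈ S, ∀ u ∈ U, s * u * s⁻¹ ∈ U) →
      ∀ g, (∀ u ∈ U, g * u * g⁻¹ ∈ U) → g ∈ S) : False := by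
  have B := E.F.basic
  have A := E.F.ark
  have hT := pCoreOf_isPGroup S
  have hTn : ∀ s ∈ S, ∀ u ∈ pCoreOf 2 S, s * u * s⁻¹ ∈ pCoreOf 2 S := fun s hs u hu =>
    conj_of_norm (le_normalizer_pCoreOf S hs) hu
  have hZs : ∀ a ∈ omegaCenterOf (pCoreOf 2 S), a * a = 1 := fun x hx => by
    rw [← pow_two]; exact (mem_omegaCenterOf.1 hx).2.2
  have hZ := hN _ (omegaCenterOf_ne_bot hT h0) (two_of_sq hZs) norm_omega
  by_cases hpt : ∃ c ∈ pCoreOf 2 S, c ∈ Γ.Pt
  · obtain ⟨c, hcT, hc⟩ := hpt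
    have St := sit E hT fun g hg => cent_le_core (ch2_pt E hT hcT hc)
      (fun x hx => hN _ h0 hT hTn x (conj_of_comm (mem_cent.1 hx))) (le_normalizer_pCoreOf S) le_rfl hg
    rcases MainCP.mainC E.F _ _ St with hO | ⟨F, hF0, -, hF, hFn⟩
    · refine arkNS7 E hO (one_mem _) (one_mem _) (fun h => B.pt_ne 1 h rfl) (fun h => B.pt_ne 1 h rfl)
        (fun h => B.pt_ne _ h (mul_one 1)) (fun g hg _ _ => hZ g hg) hS
    · have hF' := hN F hF0 (two_of_sq (sing_sq B hF)) fun s hs => hFn s (norm_omega s hs)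
      by_cases h8 : 8 ≤ Nat.card F
      · exact NS7 E (A := ⊥) (L := ⊥) hF bot_le (by rw [card_bot]; omega) (fun _ _ _ => bot_le)
          (fun a ha _ => mem_bot.1 ha) (fun u hu hu1 d hd _ _ => hF' d (Q_norm E hF hu hu1 hd)) hS
      obtain ⟨O, hO⟩ := E.ark
      obtain ⟨V, -, hV, hc⟩ := E.big O hO
      obtain ⟨v, hv, w, hw, hv1, hw1, hwv⟩ : ∃ v ∈ V, ∃ w ∈ V, v ≠ 1 ∧ w ≠ 1 ∧ w ≠ v := by
        obtain ⟨v, hv, hv1⟩ := exists_ne_one (E := V) (by omega)
        obtain ⟨L, -, hvL, -, hL, -⟩ := exists_line (sing_comm B hV) (sing_sq B hV) hv hv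
        obtain ⟨w, hw, hwL⟩ : ∃ w ∈ V, w ∉ L := by
          by_contra h
          push Not at h
          have := card_le_of_le (show V ≤ L from h)
          omega
        exact ⟨v, hv, w, hw, hv1, fun h => hwL (h ▸ L.one_mem), fun h => hwL (h ▸ hvL)⟩
      have key : ∀ g : G, (∀ d, d * (g * v * g⁻¹) = g * v * g⁻¹ * d → d * (g * w * g⁻¹) = g * w * g⁻¹ * d → d ∈ S) →
          False := by
        intro g hg
        have hV' := sing_cj B hV g
        obtain ⟨L, hLV, hxL, hyL, hL, -⟩ := exists_line (sing_comm B hV') (sing_sq B hV') (conj_mem_cj.2 hv)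
          (conj_mem_cj.2 hw)
        exact NS7 E (A := ⊥) hV' hLV (by rw [card_cj]; omega) (fun _ _ _ => bot_le) (fun a ha _ => mem_bot.1 ha)
          (fun u _ _ d _ _ hl => hg d (hl _ hxL) (hl _ hyL)) hS
      rcases small_cases (sing_sq B hF) hF0 h8 with ⟨x, hx, hx1, h⟩ | ⟨x, hx, y, hy, hx1, hy1, hyx, h⟩
      · obtain ⟨g, rfl⟩ := B.pt_trans v (hV.1 v hv hv1) x (hF.1 x hx hx1)
        exact key g fun d h1 _ => hF' d (conj_of_comm fun a ha => comm_four h1 h1 ((h a ha).imp_right Or.inl))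
      · obtain ⟨g, rfl, rfl⟩ := E.pair v (hV.1 v hv hv1) w (hV.1 w hw hw1) (hV.2 v hv hv1 w hw) hwv
          x (hF.1 x hx hx1) y (hF.1 y hy hy1) (hF.2 x hx hx1 y hy) hyx
        exact key g fun d h1 h2 => hF' d (conj_of_comm fun a ha => comm_four h1 h2 (h a ha))
  · push Not at hpt
    have hZp : ∀ a ∈ omegaCenterOf (pCoreOf 2 S), a ∉ Γ.Pt := fun a ha => hpt a (mem_omegaCenterOf.1 ha).1
    have hZc : ∀ a ∈ omegaCenterOf (pCoreOf 2 S), ∀ b ∈ omegaCenterOf (pCoreOf 2 S), a * b = b * a :=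
      fun x hx y hy => mem_cent.1 (mem_omegaCenterOf.1 hx).2.1 y (mem_omegaCenterOf.1 hy).1
    obtain ⟨t, ht, ht1⟩ : ∃ t ∈ omegaCenterOf (pCoreOf 2 S), t ≠ 1 := by
      by_contra h
      push Not at h
      exact omegaCenterOf_ne_bot hT h0 ((eq_bot_iff_forall _).2 h)
    have hA : IsA Γ t := ⟨hZs t ht, ht1, hZp t ht⟩
    by_cases h : ∀ a ∈ omegaCenterOf (pCoreOf 2 S), a = 1 ∨ a = t
    · exact singleNS7 E hA (fun g hg => hZ g (conj_of_comm fun a ha => comm_four hg hg ((h a ha).imp_right Or.inl))) hS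
    · push Not at h
      obtain ⟨d, hd, hd1, hdt⟩ := h
      obtain ⟨h1, h2⟩ := pure_cases E hZc hZs hZp ht hd ht1 hd1 hdt
      exact pairNS7 E hA ⟨hZs d hd, hd1, hZp d hd⟩ h1 (hZc t ht d hd)
        (fun g hg hg' => hZ g (conj_of_comm fun a ha => comm_four hg hg' (h2 a ha))) hS

/-! ### the centraliser of `t` -/

/-- the situation in `C(t)` -/
structure CtxB7 (Γ : Geo G) (t : G) (S : Subgroup G) : Prop where
  isA : IsA Γ t
  solv : N7 S
  cent : ∀ s ∈ S, s * t = t * s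
  mem : t ∈ S
  max : ∀ U : Subgroup G, IsPGroup 2 U → (∀ u ∈ U, u * t = t * u) → (∃ u ∈ U, u ≠ 1 ∧ u ≠ t) →
    (∀ s ∈ S, ∀ u ∈ U, s * u * s⁻¹ ∈ U) → ∀ g, g * t = t * g → (∀ u ∈ U, g * u * g⁻¹ ∈ U) → g ∈ S

variable {t : G} {S : Subgroup G}

theorem CtxB7.ark (C : CtxB7 Γ t S) (E : Ext Γ) {O : Subgroup G} (hO : O ∈ Γ.Ark) (ht : t ∈ O)
    (hn : ∀ s ∈ S, ∀ u ∈ O, s * u * s⁻¹ ∈ O) : False := by
  have A := E.F.ark
  obtain ⟨V, hVO, hV, hc⟩ := E.big O hO
  obtain ⟨v, hv, hv1⟩ := exists_ne_one (E := V) (by omega)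
  refine arkNS7 E hO ht ht C.isA.2.2 C.isA.2.2 (by rw [C.isA.1]; exact fun h => E.F.basic.pt_ne 1 h rfl)
    (fun g hg hgt _ => C.max O (two_of_sq (A.sq O hO)) (fun u hu => A.comm O hO u hu t ht)
      ⟨v, hVO hv, hv1, fun h => C.isA.2.2 (h ▸ hV.1 v hv hv1)⟩ hn g hgt hg) C.solv

theorem CtxB7.max_sing (C : CtxB7 Γ t S) (E : Ext Γ) {F : Subgroup G} (hF : Γ.Sing F) (h0 : F ≠ ⊥)
    (hc : ∀ u ∈ F, u * t = t * u) (hn : ∀ s ∈ S, ∀ u ∈ F, s * u * s⁻¹ ∈ F) :
    ∀ g, g * t = t * g → (∀ u ∈ F, g * u * g⁻¹ ∈ F) → g ∈ S := by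
  refine C.max F (two_of_sq (sing_sq E.F.basic hF)) hc ?_ hn
  by_contra h
  push Not at h
  refine h0 ((eq_bot_iff_forall _).2 fun u hu => ?_)
  by_contra h1
  exact C.isA.2.2 (h u hu h1 ▸ hF.1 u hu h1)

theorem CtxB7.all (C : CtxB7 Γ t S) (E : Ext Γ) {F : Subgroup G} (hF : Γ.Sing F) (h0 : F ≠ ⊥)
    (ht : ∀ u ∈ F, u ≠ 1 → t ∈ Γ.QQ u) (hn : ∀ s ∈ S, ∀ u ∈ F, s * u * s⁻¹ ∈ F) : False := by
  have B := E.F.basic
  have hF' := C.max_sing E hF h0 (fun u hu => by
    by_cases h : u = 1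
    · rw [h, mul_one, one_mul]
    · exact (B.QQ_comm u (hF.1 u hu h) t (ht u hu h)).symm) hn
  by_cases h8 : 8 ≤ Nat.card F
  · exact NSt7 E (L := ⊥) C.isA hF bot_le (by rw [card_bot]; omega) ht
      (fun u hu hu1 d hd hdt _ => hF' d hdt (Q_norm E hF hu hu1 hd)) C.solv
  rcases small_cases (sing_sq B hF) h0 h8 with ⟨x, hx, hx1, h⟩ | ⟨x, hx, y, hy, hx1, hy1, hyx, h⟩
  · obtain ⟨y, hy, hyx, h1, h2⟩ := line1 E (hF.1 x hx hx1) (ht x hx hx1) C.isA
    exact lineNS7 E C.isA (hF.1 x hx hx1) hy h1 hyx (ht x hx hx1) h2 (fun g k1 k2 _ => hF' g k1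
      (conj_of_comm fun a ha => comm_four k2 k2 ((h a ha).imp_right Or.inl))) C.solv
  · exact lineNS7 E C.isA (hF.1 x hx hx1) (hF.1 y hy hy1) (hF.2 x hx hx1 y hy) hyx (ht x hx hx1) (ht y hy hy1)
      (fun g k1 k2 k3 => hF' g k1 (conj_of_comm fun a ha => comm_four k2 k3 (h a ha))) C.solv

theorem CtxB7.none (C : CtxB7 Γ t S) (E : Ext Γ) {F : Subgroup G} (hF : Γ.Sing F) (h0 : F ≠ ⊥)
    (hc : ∀ u ∈ F, u * t = t * u) (ht : ∀ u ∈ F, u ≠ 1 → t ∉ Γ.QQ u) (hn : ∀ s ∈ S, ∀ u ∈ F, s * u * s⁻¹ ∈ F) :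
    False := by
  have B := E.F.basic
  have A := E.F.ark
  have hF' := C.max_sing E hF h0 hc hn
  have hFO : ∀ O ∈ Γ.Ark, t ∈ O → ∀ u ∈ F, u ≠ 1 → u ∈ O → ∀ v ∈ F, v ∈ O → v = 1 ∨ v = u := by
    intro O hO htO u hu hu1 huO v hv hvO
    by_contra h
    push Not at h
    have h1 : u * v ≠ 1 := fun h1 => h.2 (by rw [← one_mul v, ← sing_sq B hF u hu, mul_assoc, h1, mul_one])
    apply ht _ (mul_mem hu hv) h1
    rw [A.bet_iff O hO _ (mul_mem huO hvO) (hF.1 _ (mul_mem hu hv) h1) t htO, bet_mul_right A hO htO huO hvO,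
      (not_mem_QQ A hO huO (hF.1 u hu hu1) htO).1 (ht u hu hu1),
      (not_mem_QQ A hO hvO (hF.1 v hv h.1) htO).1 (ht v hv h.1), one_one]
  by_cases h8 : 8 ≤ Nat.card F
  · refine seven_of_transv (L := ⊥) (sing_comm B hF) (sing_sq B hF) bot_le (by rw [card_bot]; omega)
      (fun u hu hu1 => ?_) C.solv
    rw [mem_bot] at hu1
    have hup := hF.1 u hu hu1
    have hL := E.large u hup
    obtain ⟨O, hO, htO, huO⟩ := exists_ark_of E C.isA hup (hc u hu)
    refine ⟨Γ.QQ u ⊓ centralizer {t}, fun d hd _ => hF' d (mem_centralizer_singleton_iff.1 hd.2)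
      (Q_norm E hF hu hu1 hd.1), fun d hd v hv => conj_Q hL hd.1 (hF.2 u hu hu1 v hv), fun d hd => hL.comm_z d hd.1,
      fun v hv h => hFO O hO htO u hu hu1 huO v hv (E.CO O hO u huO hup v fun q hq hq' => h q ⟨hq', ?_⟩)⟩
    exact mem_centralizer_singleton_iff.2 (CC_comm A hO hq htO)
  rcases small_cases (sing_sq B hF) h0 h8 with ⟨x, hx, hx1, h⟩ | ⟨x, hx, y, hy, hx1, hy1, hyx, h⟩
  · have hxp := hF.1 x hx hx1
    obtain ⟨O, hO, htO, hxO⟩ := exists_ark_of E C.isA hxp (hc x hx)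
    refine C.ark E hO htO fun s hs u hu => norm_mem A hO (Ark.norm_of B A hO hxO hxp (O_le_KK htO) (ht x hx hx1) ?_
      (C.cent s hs)) hu
    rcases h _ (hn s hs x hx) with h1 | h1
    · exact absurd (by calc x = s⁻¹ * (s * x * s⁻¹) * s := by group
        _ = 1 := by rw [h1]; group) hx1
    · exact mul_inv_eq_iff_eq_mul.1 h1
  · have hxp := hF.1 x hx hx1
    have hyp := hF.1 y hy hy1
    obtain ⟨O, hO, htO, hxO⟩ := exists_ark_of E C.isA hxp (hc x hx)
    have hyC : y ∈ CC O := A.cent_le O hO x hxO hxp t (O_le_KK htO) (ht x hx hx1) y (hF.2 x hx hx1 y hy) (hc y hy)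
    have hyO : y ∉ O := fun h1 => (hFO O hO htO x hx hx1 hxO y hy h1).elim hy1 hyx
    obtain ⟨V, h1, h2, h3, h4, h5⟩ := exists_V B A hO hyO
    have hV : Γ.Sing V := ⟨fun v hv h => (h3 v hv h).1, h5⟩
    have hcV : Nat.card V = 32 := by
      rw [ncard_eq V h1]
      exact A.V_card O hO x hxO hxp y hyC (hF.2 x hx hx1 y hy) (B.pt_sq y hyp) hyO
    have hxV : x ∈ V := h4 x hxO hxp (KK_of' hyC (hF.2 x hx hx1 y hy))
    have c1 := card_allSub E hO hV h2 (t := y) fun v hv hv1 => (h3 v hv hv1).2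
    have hV1 := sing_le hV (allSub_le (B := B) (hV := hV) (t := y))
    have c2 := card_allSub E hO hV1 (allSub_le.trans h2) (t := t) fun _ _ _ => O_le_KK htO
    have hiff : ∀ p, p ≠ 1 → (p ∈ allSub B hV1 t ↔ p ∈ Γ.Pt ∧ t ∈ Γ.QQ p ∧ ∀ a ∈ F, a ∈ Γ.QQ p) := by
      intro p hp1
      constructor
      · intro hp
        have k1 := hV.2 p hp.1.1 hp1 x hxV
        have k2 := hp.1.2.resolve_left hp1
        refine ⟨hV.1 p hp.1.1 hp1, hp.2.resolve_left hp1, fun a ha => ?_⟩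
        rcases h a ha with rfl | rfl | rfl | rfl
        exacts [one_mem _, k1, k2, mul_mem k1 k2]
      · rintro ⟨k1, k2, k3⟩
        have k4 : p ∈ O := A.pt_mem O hO x hxO hxp t (O_le_KK htO) (ht x hx hx1) p k1 (B.symm p k1 x hxp (k3 x hx)) k2
        exact ⟨⟨h4 p k4 k1 (KK_of' hyC (k3 y hy)), Or.inr (k3 y hy)⟩, Or.inr k2⟩
    refine C.all E (sing_le hV1 (allSub_le (B := B) (hV := hV1) (t := t))) (fun h => by rw [h, card_bot] at c2; omega)
      (fun u hu hu1 => hu.2.resolve_left hu1) fun s hs u hu => ?_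
    by_cases hu1 : u = 1
    · rw [hu1, mul_one, mul_inv_cancel]; exact one_mem _
    obtain ⟨k1, k2, k3⟩ := (hiff u hu1).1 hu
    refine (hiff _ (B.pt_ne _ (B.pt_conj u k1 s))).2 ⟨B.pt_conj u k1 s, ?_, fun a ha => ?_⟩
    · have k4 := B.QQ_conj u k1 s t k2
      rwa [C.cent s hs, mul_inv_cancel_right] at k4
    · have k4 := B.QQ_conj u k1 s _ (k3 _ (hn s⁻¹ (inv_mem hs) a ha))
      have e : s * (s⁻¹ * a * s⁻¹⁻¹) * s⁻¹ = a := by group
      rwa [e] at k4

theorem CtxB7.t_mem (C : CtxB7 Γ t S) : t ∈ pCoreOf 2 S := by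
  refine le_pCoreOf (U := zpowers t) (two_of_sq fun a ha => ?_) (zpowers_le.2 C.mem)
    (norm_of fun s hs => conj_of_comm fun a ha => ?_) (mem_zpowers t)
  · rcases mem_zp C.isA.1 ha with rfl | rfl
    exacts [mul_one 1, C.isA.1]
  · rcases mem_zp C.isA.1 ha with rfl | rfl
    exacts [by rw [mul_one, one_mul], C.cent s hs]

/-- **`O₂(S)` contains no point.** -/
theorem CtxB7.no_pt (C : CtxB7 Γ t S) (E : Ext Γ) : ∀ c ∈ pCoreOf 2 S, c ∉ Γ.Pt := by
  intro c hcT hc
  have B := E.F.basic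
  have hT := pCoreOf_isPGroup S
  have hTt : ∀ u ∈ pCoreOf 2 S, u * t = t * u := fun u hu => C.cent u (pCoreOf_le S hu)
  have St := sit E hT fun g hg => cent_le_core (ch2_pt E hT hcT hc)
    (fun x hx => C.max _ hT hTt ⟨c, hcT, B.pt_ne c hc, fun h => C.isA.2.2 (h ▸ hc)⟩
      (fun s hs u hu => conj_of_norm (le_normalizer_pCoreOf S hs) hu) x (mem_cent.1 hx t C.t_mem)
      (conj_of_comm (mem_cent.1 hx))) (le_normalizer_pCoreOf S) le_rfl hg
  have htZ := St.all t C.isA.1 hTt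
  rcases MainCP.mainC E.F _ _ St with hO | ⟨F, hF0, hFZ, hF, hFn⟩
  · exact C.ark E hO htZ norm_omega
  · have hn : ∀ s ∈ S, ∀ u ∈ F, s * u * s⁻¹ ∈ F := fun s hs => hFn s (norm_omega s hs)
    by_cases h : allSub B hF t = ⊥
    · refine C.none E hF hF0 (fun u hu => St.ab u (hFZ hu) t htZ) (fun u hu hu1 h1 => hu1 ?_) hn
      exact mem_bot.1 (h ▸ (⟨hu, Or.inr h1⟩ : u ∈ allSub B hF t))
    · refine C.all E (sing_le hF (allSub_le (B := B) (hV := hF) (t := t))) h (fun u hu hu1 => hu.2.resolve_left hu1)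
        fun s hs u hu => ⟨hn s hs u hu.1, ?_⟩
      by_cases hu1 : u = 1
      · left; rw [hu1]; group
      · have k4 := B.QQ_conj u (hF.1 u hu.1 hu1) s t (hu.2.resolve_left hu1)
        rw [C.cent s hs, mul_inv_cancel_right] at k4
        exact Or.inr k4

end Cfsg.Agent.N2.Sp4T

private theorem dce_60b76ec00301 : _root_.True := by
  try have : _root_.True := by simp only [_root_.Cfsg.Agent.N2.Sp4T.m7.eq_1]
  exact _root_.True.intro
end
end
end
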